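import Mathlib
import Cfsg.Prelude.Def_Solvable
import Cfsg.Prelude.Def_Transfer
import Cfsg.Prelude.Def_MonsterType

set_option autoImplicit false

namespace H91.LargeExtra

/-- `O_p(G)` is a `p`-group. -/
theorem isPGroup_pCore {G : Type*} [Group G] [Finite G] {p : ℕ} [Fact p.Prime] :
    IsPGroup p ↥(Cfsg.pCore p G) := by
  exact Sylow.sSup_of_normal _ (fun N h => h.2) (fun N h => h.1)

/-- An element in a subgroup of odd order and in a 2-subgroup is trivial. -/
theorem eq_one_of_odd_of_two {G : Type*} [Group G] [Finite G] {K T : Subgroup G}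
    (hK : Odd (Nat.card K)) (hT : IsPGroup 2 T) {x : G} (hxK : x ∈ K) (hxT : x ∈ T) : x = 1 := by
  obtain ⟨k, hk⟩ := hT ⟨x, hxT⟩
  have hk' : x ^ 2 ^ k = 1 := by
    have := congrArg (Subtype.val) hk
    simpa using this
  have h1 : orderOf x ∣ 2 ^ k := orderOf_dvd_of_pow_eq_one hk'
  have h2 : orderOf x ∣ Nat.card K := by
    have := orderOf_dvd_natCard (⟨x, hxK⟩ : K)
    rwa [Subgroup.orderOf_mk] at this
  have h3 : Nat.Coprime (2 ^ k) (Nat.card K) := by
    apply Nat.Coprime.pow_left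
    exact (Nat.coprime_two_left).mpr hK
  have h4 : orderOf x ∣ 1 := by
    rw [← h3]
    exact Nat.dvd_gcd h1 h2
  rw [Nat.dvd_one, orderOf_eq_one_iff] at h4
  exact h4

/-- The last step of every largeness proof: an odd order subgroup normalised by `Q`
and centralising `Z = Z(Q)` is trivial. -/
theorem eq_bot_of_le_centralizer {G : Type*} [Group G] [Finite G] {Q K : Subgroup G}
    (hQ2 : IsPGroup 2 Q)
    (hL2 : Subgroup.centralizer (Q : Set G) = ((Subgroup.center ↥Q).map Q.subtype))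
    (hL3 : Subgroup.centralizer (((Subgroup.center ↥Q).map Q.subtype) : Set G) ≤ Subgroup.normalizer (Q : Set G))
    (hKodd : Odd (Nat.card K)) (hQK : Q ≤ Subgroup.normalizer (K : Set G))
    (hKZ : K ≤ Subgroup.centralizer (((Subgroup.center ↥Q).map Q.subtype) : Set G)) : K = ⊥ := by
  rw [Subgroup.eq_bot_iff_forall]
  intro k hk
  have hkQ : k ∈ Subgroup.centralizer (Q : Set G) := by
    rw [Subgroup.mem_centralizer_iff]
    intro q hq
    have h1 : q * k * q⁻¹ * k⁻¹ ∈ K :=
      K.mul_mem ((Subgroup.mem_normalizer_iff.mp (hQK hq) k).mp hk) (K.inv_mem hk)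
    have h2 : q * k * q⁻¹ * k⁻¹ ∈ Q := by
      have : q * k * q⁻¹ * k⁻¹ = q * (k * q⁻¹ * k⁻¹) := by group
      rw [this]
      exact Q.mul_mem hq ((Subgroup.mem_normalizer_iff.mp (hL3 (hKZ hk)) q⁻¹).mp (Q.inv_mem hq))
    have h4 := eq_one_of_odd_of_two hKodd hQ2 h1 h2
    rw [mul_inv_eq_one, mul_inv_eq_iff_eq_mul] at h4
    exact h4
  rw [hL2] at hkQ
  have hkQ' : k ∈ Q := Subgroup.map_subtype_le _ hkQ
  exact eq_one_of_odd_of_two hKodd hQ2 hk hkQ'

/-- Squares lie in the Frattini subgroup of a 2-group. -/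
theorem sq_mem_frattini {P : Type*} [Group P] [Finite P] (hP : IsPGroup 2 P) (x : P) :
    x * x ∈ frattini P := by
  classical
  have : Group.IsNilpotent P := hP.isNilpotent
  have hall : ∀ M : Subgroup P, IsCoatom M → x * x ∈ M := by
    intro M hM
    by_contra hx
    have hMn : M.Normal := by
      have htfae := (Group.isNilpotent_of_finite_tfae (G := P)).out 0 2
      exact htfae.mp inferInstance M hM
    have hlt : M < M ⊔ Subgroup.zpowers (x * x) := by
      refine lt_of_le_of_ne le_sup_left ?_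
      intro h
      apply hx
      rw [h]
      exact (le_sup_right : Subgroup.zpowers (x * x) ≤ M ⊔ Subgroup.zpowers (x * x))
        (Subgroup.mem_zpowers _)
    have htop := hM.2 _ hlt
    have hxm : x ∈ ((M ⊔ Subgroup.zpowers (x * x) : Subgroup P) : Set P) := by
      rw [htop]; trivial
    rw [Subgroup.normal_mul] at hxm
    obtain ⟨m, hm, y, hy, hmy⟩ := Set.mem_mul.mp hxm
    obtain ⟨k, rfl⟩ := Subgroup.mem_zpowers_iff.mp (SetLike.mem_coe.mp hy)
    -- m = x ^ (1 - 2k)
    have hm' : x ^ (1 - 2 * k) ∈ M := by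
      have e : x ^ (1 - 2 * k) = m := by
        rw [zpow_sub, zpow_one, mul_inv_eq_iff_eq_mul, zpow_mul]
        rw [zpow_ofNat, pow_two]
        exact hmy.symm
      rw [e]; exact hm
    obtain ⟨n, hn⟩ := hP x
    have hcop : IsCoprime (1 - 2 * k) ((2 : ℤ) ^ n) := by
      apply IsCoprime.pow_right
      exact ⟨1, k, by ring⟩
    obtain ⟨u, v, huv⟩ := hcop
    have hxM : x ∈ M := by
      have e : x = (x ^ (1 - 2 * k)) ^ u := by
        conv_lhs => rw [← zpow_one x, ← huv]
        rw [zpow_add, mul_comm u, zpow_mul, mul_comm v, zpow_mul]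
        have : x ^ ((2 : ℤ) ^ n) = 1 := by
          have h2 : ((2 : ℤ) ^ n) = ((2 ^ n : ℕ) : ℤ) := by push_cast; rfl
          rw [h2, zpow_natCast]; exact hn
        rw [this, one_zpow, mul_one]
      rw [e]
      exact M.zpow_mem hm' u
    exact hx (M.mul_mem hxM hxM)
  rw [frattini, Order.radical]
  simp only [Subgroup.mem_iInf]
  intro M hM
  exact hall M hM

/-- Everything elementary about an extraspecial 2-subgroup, elementwise. -/
theorem exists_z {G : Type*} [Group G] [Finite G] {Q : Subgroup G}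
    (h : Cfsg.IsExtraspecial 2 ↥Q) :
    ∃ z ∈ Q, z ≠ 1 ∧ z * z = 1 ∧
      ((Subgroup.center ↥Q).map Q.subtype = Subgroup.zpowers z) ∧
      (∀ x, x ∈ (Subgroup.center ↥Q).map Q.subtype ↔ x = 1 ∨ x = z) ∧
      (∀ q ∈ Q, q * z = z * q) ∧
      (∀ x ∈ Q, (∀ q ∈ Q, q * x = x * q) → x = 1 ∨ x = z) ∧
      (∀ x ∈ Q, ∀ y ∈ Q, x * y * x⁻¹ * y⁻¹ = 1 ∨ x * y * x⁻¹ * y⁻¹ = z) ∧
      (∀ x ∈ Q, x * x = 1 ∨ x * x = z) := by
  classical
  obtain ⟨⟨hP, hfr, hcom⟩, hcard⟩ := h
  obtain ⟨z0, hz0, huniq⟩ : ∃ z0 : ↥Q, z0 ∈ Subgroup.center ↥Q ∧ z0 ≠ 1 ∧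
      ∀ x ∈ Subgroup.center ↥Q, x = 1 ∨ x = z0 := by
    rw [Nat.card_eq_two_iff' (1 : Subgroup.center ↥Q)] at hcard
    obtain ⟨y, hy, hyu⟩ := hcard
    refine ⟨y, y.2, ?_, ?_⟩
    · intro h; exact hy (Subtype.ext h)
    · intro x hx
      by_cases hx1 : x = 1
      · exact Or.inl hx1
      · right
        have := hyu ⟨x, hx⟩ (fun h => hx1 (congrArg Subtype.val h))
        exact congrArg Subtype.val this
  obtain ⟨hz1, huniq⟩ := huniq
  have hzz : z0 * z0 = 1 := by
    rcases huniq _ (Subgroup.mul_mem _ hz0 hz0) with h | h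
    · exact h
    · exfalso; apply hz1; simpa using h
  have hmem : ∀ x : G, x ∈ (Subgroup.center ↥Q).map Q.subtype ↔ x = 1 ∨ x = (z0 : G) := by
    intro x
    rw [Subgroup.mem_map]
    constructor
    · rintro ⟨y, hy, rfl⟩
      rcases huniq y hy with rfl | rfl
      · left; rfl
      · right; rfl
    · rintro (rfl | rfl)
      · exact ⟨1, Subgroup.one_mem _, rfl⟩
      · exact ⟨z0, hz0, rfl⟩
  refine ⟨(z0 : G), z0.2, ?_, ?_, ?_, hmem, ?_, ?_, ?_, ?_⟩
  · intro h; exact hz1 (Subtype.ext h)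
  · have := congrArg Subtype.val hzz
    simpa using this
  · ext x
    rw [hmem, Subgroup.mem_zpowers_iff]
    constructor
    · rintro (rfl | rfl)
      · exact ⟨0, by simp⟩
      · exact ⟨1, by simp⟩
    · rintro ⟨k, rfl⟩
      have hz2 : (z0 : G) ^ (2 : ℤ) = 1 := by
        have := congrArg Subtype.val hzz
        rw [zpow_ofNat, pow_two]; simpa using this
      rcases Int.even_or_odd' k with ⟨j, hj | hj⟩
      · left; rw [hj, zpow_mul, hz2, one_zpow]
      · right; rw [hj, zpow_add, zpow_mul, hz2, one_zpow, one_mul, zpow_one]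
  · intro q hq
    have := Subgroup.mem_center_iff.mp hz0 ⟨q, hq⟩
    exact congrArg Subtype.val this
  · intro x hx hxc
    have : (⟨x, hx⟩ : ↥Q) ∈ Subgroup.center ↥Q := by
      rw [Subgroup.mem_center_iff]
      intro q
      exact Subtype.ext (hxc q q.2)
    rcases huniq _ this with h | h
    · left; exact congrArg Subtype.val h
    · right; exact congrArg Subtype.val h
  · intro x hx y hy
    have : (⟨x, hx⟩ * ⟨y, hy⟩ * ⟨x, hx⟩⁻¹ * ⟨y, hy⟩⁻¹ : ↥Q) ∈ commutator ↥Q := by
      rw [← commutatorElement_def]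
      exact Subgroup.commutator_mem_commutator (Subgroup.mem_top _) (Subgroup.mem_top _)
    rw [hcom] at this
    rcases huniq _ this with h | h
    · left; exact congrArg Subtype.val h
    · right; exact congrArg Subtype.val h
  · intro x hx
    have := sq_mem_frattini hP (⟨x, hx⟩ : ↥Q)
    rw [hfr] at this
    rcases huniq _ this with h | h
    · left; exact congrArg Subtype.val h
    · right; exact congrArg Subtype.val h

end H91.LargeExtra
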