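import Mathlib
import Cfsg.Agent.Lib.H91.LargeExtra
import Cfsg.Agent.Lib.H91.FourGroup

set_option autoImplicit false

namespace H91.LargePair

variable {G : Type*} [Group G]

/-- Elementwise package: `Q` behaves like an extraspecial 2-group with centre `{1, z}`,
self-centralising, and normal in `C(z)`. -/
structure Pack (Q : Subgroup G) (z : G) : Prop where
  zQ : z ∈ Q
  z1 : z ≠ 1
  zz : z * z = 1
  zc : ∀ q ∈ Q, q * z = z * q
  cen : ∀ x ∈ Q, (∀ q ∈ Q, q * x = x * q) → x = 1 ∨ x = z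
  comm : ∀ x ∈ Q, ∀ y ∈ Q, x * y * x⁻¹ * y⁻¹ = 1 ∨ x * y * x⁻¹ * y⁻¹ = z
  sq : ∀ x ∈ Q, x * x = 1 ∨ x * x = z
  C : ∀ x, (∀ q ∈ Q, q * x = x * q) → x = 1 ∨ x = z
  N : ∀ c, c * z = z * c → ∀ q ∈ Q, c * q * c⁻¹ ∈ Q

theorem mem_map_conj {Q : Subgroup G} {g x : G} :
    x ∈ Q.map (MulAut.conj g).toMonoidHom ↔ g⁻¹ * x * g ∈ Q := by
  rw [Subgroup.mem_map]
  constructor
  · rintro ⟨y, hy, rfl⟩
    have : g⁻¹ * ((MulAut.conj g).toMonoidHom y) * g = y := by
      simp [MulAut.conj_apply, mul_assoc]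
    rw [this]; exact hy
  · intro h
    exact ⟨_, h, by simp [MulAut.conj_apply, mul_assoc]⟩

theorem pack_of [Finite G] {Q : Subgroup G} (hL1 : Cfsg.IsExtraspecial 2 ↥Q)
    (hL2 : Subgroup.centralizer (Q : Set G) = ((Subgroup.center ↥Q).map Q.subtype))
    (hL3 : Subgroup.centralizer (((Subgroup.center ↥Q).map Q.subtype) : Set G) ≤
      Subgroup.normalizer (Q : Set G)) :
    ∃ z, Pack Q z ∧ (Subgroup.center ↥Q).map Q.subtype = Subgroup.zpowers z ∧
      (∀ x, x ∈ (Subgroup.center ↥Q).map Q.subtype ↔ x = 1 ∨ x = z) := by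
  obtain ⟨z, hzQ, hz1, hzz, hZz, hmem, hzc, hcen, hcomm, hsq⟩ := H91.LargeExtra.exists_z hL1
  refine ⟨z, ⟨hzQ, hz1, hzz, hzc, hcen, hcomm, hsq, ?_, ?_⟩, hZz, hmem⟩
  · intro x hx
    rw [← hmem, ← hL2, Subgroup.mem_centralizer_iff]
    exact hx
  · intro c hc q hq
    have : c ∈ Subgroup.centralizer (((Subgroup.center ↥Q).map Q.subtype) : Set G) := by
      rw [Subgroup.mem_centralizer_iff]
      intro y hy
      rcases (hmem y).mp hy with rfl | rfl
      · simp
      · exact hc.symm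
    exact (Subgroup.mem_normalizer_iff.mp (hL3 this) q).mp hq

theorem Pack.conj {Q : Subgroup G} {z : G} (h : Pack Q z) (g : G) :
    Pack (Q.map (MulAut.conj g).toMonoidHom) (g * z * g⁻¹) := by
  have key : ∀ x ∈ Q.map (MulAut.conj g).toMonoidHom, g⁻¹ * x * g ∈ Q := fun x hx => mem_map_conj.mp hx
  have up : ∀ q ∈ Q, g * q * g⁻¹ ∈ Q.map (MulAut.conj g).toMonoidHom := by
    intro q hq; rw [mem_map_conj]; simpa [mul_assoc] using hq
  refine ⟨up z h.zQ, ?_, ?_, ?_, ?_, ?_, ?_, ?_, ?_⟩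
  · intro he
    apply h.z1
    have : g * z * g⁻¹ = g * 1 * g⁻¹ := by rw [he]; group
    simpa using this
  · calc g * z * g⁻¹ * (g * z * g⁻¹) = g * (z * z) * g⁻¹ := by group
      _ = 1 := by rw [h.zz]; group
  · intro q hq
    have h1 := h.zc _ (key q hq)
    calc q * (g * z * g⁻¹) = g * ((g⁻¹ * q * g) * z) * g⁻¹ := by group
      _ = g * (z * (g⁻¹ * q * g)) * g⁻¹ := by rw [h1]
      _ = g * z * g⁻¹ * q := by group
  · intro x hx hc
    have : g⁻¹ * x * g = 1 ∨ g⁻¹ * x * g = z := by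
      apply h.cen _ (key x hx)
      intro q hq
      have h1 := hc _ (up q hq)
      calc q * (g⁻¹ * x * g) = g⁻¹ * ((g * q * g⁻¹) * x) * g := by group
        _ = g⁻¹ * (x * (g * q * g⁻¹)) * g := by rw [h1]
        _ = g⁻¹ * x * g * q := by group
    rcases this with h1 | h1
    · left
      calc x = g * (g⁻¹ * x * g) * g⁻¹ := by group
        _ = 1 := by rw [h1]; group
    · right
      rw [← h1]; group
  · intro x hx y hy
    have h1 := h.comm _ (key x hx) _ (key y hy)
    have e : g⁻¹ * x * g * (g⁻¹ * y * g) * (g⁻¹ * x * g)⁻¹ * (g⁻¹ * y * g)⁻¹ = g⁻¹ * (x * y * x⁻¹ * y⁻¹) * g := by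
      group
    rw [e] at h1
    rcases h1 with h1 | h1
    · left
      calc x * y * x⁻¹ * y⁻¹ = g * (g⁻¹ * (x * y * x⁻¹ * y⁻¹) * g) * g⁻¹ := by group
        _ = 1 := by rw [h1]; group
    · right
      rw [← h1]; group
  · intro x hx
    have h1 := h.sq _ (key x hx)
    have e : g⁻¹ * x * g * (g⁻¹ * x * g) = g⁻¹ * (x * x) * g := by group
    rw [e] at h1
    rcases h1 with h1 | h1
    · left
      calc x * x = g * (g⁻¹ * (x * x) * g) * g⁻¹ := by group
        _ = 1 := by rw [h1]; group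
    · right
      rw [← h1]; group
  · intro x hc
    have : g⁻¹ * x * g = 1 ∨ g⁻¹ * x * g = z := by
      apply h.C
      intro q hq
      have h1 := hc _ (up q hq)
      calc q * (g⁻¹ * x * g) = g⁻¹ * ((g * q * g⁻¹) * x) * g := by group
        _ = g⁻¹ * (x * (g * q * g⁻¹)) * g := by rw [h1]
        _ = g⁻¹ * x * g * q := by group
    rcases this with h1 | h1
    · left
      calc x = g * (g⁻¹ * x * g) * g⁻¹ := by group
        _ = 1 := by rw [h1]; group
    · right
      rw [← h1]; group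
  · intro c hc q hq
    rw [mem_map_conj]
    have h1 := h.N (g⁻¹ * c * g) (by
      calc g⁻¹ * c * g * z = g⁻¹ * (c * (g * z * g⁻¹)) * g := by group
        _ = g⁻¹ * ((g * z * g⁻¹) * c) * g := by rw [hc]
        _ = z * (g⁻¹ * c * g) := by group) _ (key q hq)
    have e : g⁻¹ * (c * q * c⁻¹) * g = g⁻¹ * c * g * (g⁻¹ * q * g) * (g⁻¹ * c * g)⁻¹ := by group
    rw [e]; exact h1

/-- For a non-central element there is `t` with `t * s * t⁻¹ = s * z`. -/
theorem Pack.exists_shift {Q : Subgroup G} {z : G} (h : Pack Q z) {s : G} (hs : s ∈ Q)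
    (hs1 : s ≠ 1) (hsz : s ≠ z) : ∃ t ∈ Q, t * s * t⁻¹ = z * s := by
  obtain ⟨q, hq, hqb⟩ : ∃ q ∈ Q, q * s ≠ s * q := by
    by_contra hcon
    push Not at hcon
    rcases h.cen s hs hcon with h' | h'
    · exact hs1 h'
    · exact hsz h'
  refine ⟨q, hq, ?_⟩
  rcases h.comm q hq s hs with h' | h'
  · exfalso; apply hqb
    rw [mul_inv_eq_one, mul_inv_eq_iff_eq_mul] at h'
    exact h'
  · rw [mul_inv_eq_iff_eq_mul] at h'
    exact h'

/-- `C_Q(C_Q(s)) = ⟨s, z⟩`. -/
theorem Pack.double_cen {Q : Subgroup G} {z : G} (h : Pack Q z) {s : G} (hs : s ∈ Q)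
    (hs1 : s ≠ 1) (hsz : s ≠ z) {x : G} (hx : x ∈ Q)
    (hxA : ∀ a ∈ Q, a * s = s * a → a * x = x * a) : x = 1 ∨ x = z ∨ x = s ∨ x = s * z := by
  obtain ⟨t, ht, hts⟩ := h.exists_shift hs hs1 hsz
  have hts' : t * s = z * s * t := by rw [← hts]; group
  -- every q is in A or t * a
  have hdec : ∀ q ∈ Q, q * s = s * q ∨ (t⁻¹ * q) * s = s * (t⁻¹ * q) := by
    intro q hq
    rcases h.comm q hq s hs with h' | h'
    · left
      rw [mul_inv_eq_one, mul_inv_eq_iff_eq_mul] at h'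
      exact h'
    · right
      rw [mul_inv_eq_iff_eq_mul, mul_inv_eq_iff_eq_mul] at h'
      -- q * s = z * s * q ; t * s = z * s * t
      have h3 : t⁻¹ * (z * s) = s * t⁻¹ := by
        rw [← hts]; group
      calc t⁻¹ * q * s = t⁻¹ * (q * s) := by group
        _ = t⁻¹ * (z * s) * q := by rw [h']; group
        _ = s * (t⁻¹ * q) := by rw [h3]; group
  have gen : ∀ y ∈ Q, (∀ a ∈ Q, a * s = s * a → a * y = y * a) → t * y = y * t →
      y = 1 ∨ y = z := by
    intro y hy hyA hyt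
    apply h.cen y hy
    intro q hq
    rcases hdec q hq with h' | h'
    · exact hyA q hq h'
    · have h4 := hyA (t⁻¹ * q) (Q.mul_mem (Q.inv_mem ht) hq) h'
      calc q * y = t * ((t⁻¹ * q) * y) := by group
        _ = t * (y * (t⁻¹ * q)) := by rw [h4]
        _ = (t * y) * (t⁻¹ * q) := by group
        _ = (y * t) * (t⁻¹ * q) := by rw [hyt]
        _ = y * q := by group
  rcases h.comm t ht x hx with h' | h'
  · rw [mul_inv_eq_one, mul_inv_eq_iff_eq_mul] at h'
    rcases gen x hx hxA h' with h5 | h5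
    · exact Or.inl h5
    · exact Or.inr (Or.inl h5)
  · rw [mul_inv_eq_iff_eq_mul, mul_inv_eq_iff_eq_mul] at h'
    have hss : x * s = s * x := (hxA s hs rfl).symm
    have h6 : t * (s⁻¹ * x) = (s⁻¹ * x) * t := by
      have h7 : t * s⁻¹ = s⁻¹ * z * t := by
        have hz := h.zc t ht
        have : t = z * s * t * s⁻¹ := by rw [← hts']; group
        have hzi : z⁻¹ = z := inv_eq_of_mul_eq_one_left h.zz
        have hzs := h.zc s hs
        calc t * s⁻¹ = (s⁻¹ * z⁻¹) * (z * s * t * s⁻¹) := by group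
          _ = (s⁻¹ * z⁻¹) * t := by rw [← this]
          _ = s⁻¹ * z * t := by rw [hzi]
      calc t * (s⁻¹ * x) = (t * s⁻¹) * x := by group
        _ = s⁻¹ * z * (t * x) := by rw [h7]; group
        _ = s⁻¹ * (z * z) * x * t := by rw [h']; group
        _ = s⁻¹ * x * t := by rw [h.zz]; group
    have hA6 : ∀ a ∈ Q, a * s = s * a → a * (s⁻¹ * x) = (s⁻¹ * x) * a := by
      intro a ha has
      have h8 : a * s⁻¹ = s⁻¹ * a := by
        rw [mul_inv_eq_iff_eq_mul, mul_assoc, has, inv_mul_cancel_left]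
      calc a * (s⁻¹ * x) = (a * s⁻¹) * x := by group
        _ = s⁻¹ * (a * x) := by rw [h8]; group
        _ = s⁻¹ * (x * a) := by rw [hxA a ha has]
        _ = _ := by group
    rcases gen (s⁻¹ * x) (Q.mul_mem (Q.inv_mem hs) hx) hA6 h6 with h5 | h5
    · right; right; left
      rw [inv_mul_eq_one] at h5; exact h5.symm
    · right; right; right
      rw [inv_mul_eq_iff_eq_mul] at h5; exact h5

/-- The centraliser in `Q` of a non-central element is non-abelian if `|Q| > 8`. -/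
theorem Pack.exists_noncomm [Finite G] {Q : Subgroup G} {z : G} (h : Pack Q z) {s : G} (hs : s ∈ Q)
    (hs1 : s ≠ 1) (hsz : s ≠ z) (hcard : 8 < Nat.card Q) :
    ∃ a ∈ Q, ∃ b ∈ Q, a * s = s * a ∧ b * s = s * b ∧ a * b = z * (b * a) := by
  classical
  by_contra hcon
  push Not at hcon
  have hA : ∀ a ∈ Q, a * s = s * a → ∀ b ∈ Q, b * s = s * b → b * a = a * b := by
    intro a ha has b hb hbs
    rcases h.comm b hb a ha with h' | h'
    · rw [mul_inv_eq_one, mul_inv_eq_iff_eq_mul] at h'; exact h'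
    · exfalso
      apply hcon b hb a ha hbs has
      rw [mul_inv_eq_iff_eq_mul, mul_inv_eq_iff_eq_mul] at h'
      rw [h']; group
  have hsub : ∀ a ∈ Q, a * s = s * a → a = 1 ∨ a = z ∨ a = s ∨ a = s * z := by
    intro a ha has
    apply h.double_cen hs hs1 hsz ha
    intro b hb hbs
    exact hA a ha has b hb hbs
  obtain ⟨t, ht, hts⟩ := h.exists_shift hs hs1 hsz
  have hdec : ∀ q ∈ Q, q * s = s * q ∨ (t⁻¹ * q) * s = s * (t⁻¹ * q) := by
    intro q hq
    rcases h.comm q hq s hs with h' | h'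
    · left
      rw [mul_inv_eq_one, mul_inv_eq_iff_eq_mul] at h'
      exact h'
    · right
      rw [mul_inv_eq_iff_eq_mul, mul_inv_eq_iff_eq_mul] at h'
      have h3 : t⁻¹ * (z * s) = s * t⁻¹ := by
        rw [← hts]; group
      calc t⁻¹ * q * s = t⁻¹ * (q * s) := by group
        _ = t⁻¹ * (z * s) * q := by rw [h']; group
        _ = s * (t⁻¹ * q) := by rw [h3]; group
  have hsub2 : (Q : Set G) ⊆ ((({1, z, s, s * z} : Finset G) ∪ ({t, t * z, t * s, t * (s * z)} : Finset G) : Finset G) : Set G) := by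
    intro q hq
    rw [Finset.coe_union]
    rcases hdec q hq with h' | h'
    · left
      have := hsub q hq h'
      simpa using this
    · right
      have := hsub _ (Q.mul_mem (Q.inv_mem ht) hq) h'
      simp only [inv_mul_eq_iff_eq_mul, mul_one] at this
      simpa using this
  have hle : Nat.card Q ≤ 8 := by
    have h1 : Nat.card Q = (Q : Set G).ncard := rfl
    rw [h1]
    refine (Set.ncard_le_ncard hsub2 (Finset.finite_toSet _)).trans ?_
    rw [Set.ncard_coe_finset]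
    refine (Finset.card_union_le _ _).trans ?_
    have e1 : ({1, z, s, s * z} : Finset G).card ≤ 4 := Finset.card_le_four
    have e2 : ({t, t * z, t * s, t * (s * z)} : Finset G).card ≤ 4 := Finset.card_le_four
    omega
  omega

/-- Key lemma: if `s = z^g ∈ Q - Z` and `|Q| > 8` then `z ∈ Q^g`. -/
theorem key [Finite G] {Q Q1 : Subgroup G} {z s : G} (h : Pack Q z) (h1 : Pack Q1 s)
    (hconj : ∀ k, k * z * k⁻¹ = s → ∀ q ∈ Q, k * q * k⁻¹ ∈ Q1)
    (hsQ : s ∈ Q) (hsz : s ≠ z) (hcard : 8 < Nat.card Q) : z ∈ Q1 := by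
  classical
  by_contra hzQ1
  obtain ⟨t, ht, hts⟩ := h.exists_shift hsQ h1.z1 hsz
  have hzs : s * z = z * s := h.zc s hsQ
  have hsi : s⁻¹ = s := inv_eq_of_mul_eq_one_left h1.zz
  have hzi : z⁻¹ = z := inv_eq_of_mul_eq_one_left h.zz
  -- case (i): some y in Q1 moves z to z s
  by_cases hy : ∃ y ∈ Q1, y * z * y⁻¹ = z * s
  · obtain ⟨y, hy, hyz⟩ := hy
    apply hzQ1
    have hys : y * s = s * y := h1.zc y hy
    have htz : t * z = z * t := h.zc t ht
    -- k = t * y * t sends z to s and s to z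
    have e1 : (t * y * t) * z * (t * y * t)⁻¹ = s := by
      calc (t * y * t) * z * (t * y * t)⁻¹ = t * (y * (t * z * t⁻¹) * y⁻¹) * t⁻¹ := by group
        _ = t * (y * z * y⁻¹) * t⁻¹ := by rw [htz]; group
        _ = t * (z * s) * t⁻¹ := by rw [hyz]
        _ = (t * z) * s * t⁻¹ := by group
        _ = z * (t * s * t⁻¹) := by rw [htz]; group
        _ = (z * z) * s := by rw [hts]; group
        _ = s := by rw [h.zz, one_mul]
    have e2 : (t * y * t) * s * (t * y * t)⁻¹ = z := by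
      calc (t * y * t) * s * (t * y * t)⁻¹ = t * (y * (t * s * t⁻¹) * y⁻¹) * t⁻¹ := by group
        _ = t * (y * (z * s) * y⁻¹) * t⁻¹ := by rw [hts]
        _ = t * (y * z * y⁻¹ * (y * s * y⁻¹)) * t⁻¹ := by group
        _ = t * (z * s * (y * s * y⁻¹)) * t⁻¹ := by rw [hyz]
        _ = t * (z * (s * s)) * t⁻¹ := by rw [hys]; group
        _ = (t * z) * t⁻¹ := by rw [h1.zz, mul_one]
        _ = z := by rw [htz]; group
    rw [← e2]
    exact hconj _ e1 s hsQ
  · -- case (ii)
    push Not at hy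
    have hii : ∀ y ∈ Q1, (z * y * z⁻¹ * y⁻¹ = 1 ∨ z * y * z⁻¹ * y⁻¹ = s) → z * y = y * z := by
      intro y hyQ hc
      rcases hc with hc | hc
      · rw [mul_inv_eq_one, mul_inv_eq_iff_eq_mul] at hc; exact hc
      · exfalso
        apply hy y hyQ
        -- z y z⁻¹ = s y  =>  y z y⁻¹ = z s
        rw [mul_inv_eq_iff_eq_mul, mul_inv_eq_iff_eq_mul] at hc
        have hys : y * s = s * y := h1.zc y hyQ
        calc y * z * y⁻¹ = s⁻¹ * (s * y * z) * y⁻¹ := by group
          _ = s⁻¹ * (z * y) * y⁻¹ := by rw [hc]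
          _ = s * z := by rw [hsi]; group
          _ = z * s := hzs
    have hzs' : z * s = s * z := hzs.symm
    -- Q ∩ Q1 = {1, s}
    have hQQ : ∀ x ∈ Q, x ∈ Q1 → x = 1 ∨ x = s := by
      intro x hx hx1
      have hA : ∀ a ∈ Q, a * s = s * a → a * x = x * a := by
        intro a ha has
        have hn := h1.N a has x hx1
        rcases h.comm a ha x hx with h' | h'
        · rw [mul_inv_eq_one, mul_inv_eq_iff_eq_mul] at h'; exact h'
        · exfalso
          apply hzQ1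
          rw [← h']
          exact Q1.mul_mem hn (Q1.inv_mem hx1)
      rcases h.double_cen hsQ h1.z1 hsz hx hA with h' | h' | h' | h'
      · exact Or.inl h'
      · exact absurd (h' ▸ hx1) hzQ1
      · exact Or.inr h'
      · exfalso; apply hzQ1
        have : z = s⁻¹ * x := by rw [h']; group
        rw [this]
        exact Q1.mul_mem (Q1.inv_mem h1.zQ) hx1
    -- [A, B] ⊆ {1, s}
    have hAB : ∀ a ∈ Q, a * s = s * a → ∀ b ∈ Q1, z * b = b * z →
        a * b * a⁻¹ * b⁻¹ = 1 ∨ a * b * a⁻¹ * b⁻¹ = s := by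
      intro a ha has b hb hbz
      apply hQQ
      · have : a * b * a⁻¹ * b⁻¹ = a * (b * a⁻¹ * b⁻¹) := by group
        rw [this]
        exact Q.mul_mem ha (h.N b hbz.symm _ (Q.inv_mem ha))
      · exact Q1.mul_mem (h1.N a has b hb) (Q1.inv_mem hb)
    have hmul : ∀ c c' : G, (c = 1 ∨ c = s) → (c' = 1 ∨ c' = s) → (c * c' = 1 ∨ c * c' = s) := by
      rintro c c' (rfl | rfl) (rfl | rfl)
      · left; simp
      · right; simp
      · right; simp
      · left; exact h1.zz
    -- u = [a, y] commutes with z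
    have hu : ∀ a ∈ Q, a * s = s * a → ∀ y ∈ Q1, a * y * a⁻¹ * y⁻¹ ∈ Q1 ∧
        z * (a * y * a⁻¹ * y⁻¹) = (a * y * a⁻¹ * y⁻¹) * z := by
      intro a ha has y hyQ
      have haz : a * z = z * a := h.zc a ha
      have hyz1 : z * y * z⁻¹ ∈ Q1 := h1.N z hzs' y hyQ
      set v := z * y * z⁻¹ * y⁻¹ with hv
      have hvQ : v ∈ Q1 := Q1.mul_mem hyz1 (Q1.inv_mem hyQ)
      have hzv : z * v * z⁻¹ = v⁻¹ := by
        rw [hv]
        calc z * (z * y * z⁻¹ * y⁻¹) * z⁻¹ = (z * z) * y * z⁻¹ * y⁻¹ * z⁻¹ := by group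
          _ = y * z⁻¹ * y⁻¹ * z⁻¹ := by rw [h.zz]; group
          _ = y * z * y⁻¹ * z⁻¹ := by rw [hzi]
          _ = (z * y * z⁻¹ * y⁻¹)⁻¹ := by group
      have hvz : z * v = v * z := by
        apply hii v hvQ
        have : z * v * z⁻¹ * v⁻¹ = (v * v)⁻¹ := by rw [hzv]; group
        rw [this]
        rcases h1.sq v hvQ with h' | h'
        · left; rw [h', inv_one]
        · right; rw [h', hsi]
      have hav := hAB a ha has v hvQ hvz
      set u := a * y * a⁻¹ * y⁻¹ with hudef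
      have huQ : u ∈ Q1 := Q1.mul_mem (h1.N a has y hyQ) (Q1.inv_mem hyQ)
      refine ⟨huQ, ?_⟩
      apply hii u huQ
      have hvy : v * y = z * y * z⁻¹ := by rw [hv]; group
      have e1 : z * u * z⁻¹ = (a * v * a⁻¹ * v⁻¹) * (v * u * v⁻¹ * u⁻¹) * u := by
        have h5 : z * u * z⁻¹ = a * (z * y * z⁻¹) * a⁻¹ * (z * y * z⁻¹)⁻¹ := by
          have h6 : z * a * z⁻¹ = a := by rw [← haz]; group
          have h7 : z * a⁻¹ * z⁻¹ = a⁻¹ := by
            have := congrArg (·⁻¹) h6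
            simp only [mul_inv_rev, inv_inv] at this
            rw [← mul_assoc] at this
            exact this
          calc z * u * z⁻¹ = (z * a * z⁻¹) * (z * y * z⁻¹) * (z * a⁻¹ * z⁻¹) * (z * y⁻¹ * z⁻¹) := by
                rw [hudef]; group
            _ = a * (z * y * z⁻¹) * a⁻¹ * (z * y⁻¹ * z⁻¹) := by rw [h6, h7]
            _ = _ := by group
        rw [h5, ← hvy, hudef]
        group
      rw [e1]
      have : (a * v * a⁻¹ * v⁻¹) * (v * u * v⁻¹ * u⁻¹) * u * u⁻¹ = (a * v * a⁻¹ * v⁻¹) * (v * u * v⁻¹ * u⁻¹) := by group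
      rw [this]
      exact hmul _ _ hav (h1.comm v hvQ u huQ)
    -- z = [a, b]
    obtain ⟨a, ha, b, hb, has, hbs, hab⟩ := h.exists_noncomm hsQ h1.z1 hsz hcard
    -- z commutes with all of Q1
    have hfin : ∀ y ∈ Q1, z * y = y * z := by
      intro y' hy'
      -- y' = (b a) y (b a)⁻¹
      set y := (b * a)⁻¹ * y' * (b * a) with hydef
      have hba : (b * a) * s = s * (b * a) := by
        rw [mul_assoc, has, ← mul_assoc, hbs, mul_assoc]
      have hba' : (b * a)⁻¹ * s = s * (b * a)⁻¹ := by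
        rw [inv_mul_eq_iff_eq_mul, ← mul_assoc, hba, mul_assoc, mul_inv_cancel, mul_one]
      have hyQ : y ∈ Q1 := by
        have := h1.N _ hba' y' hy'
        rwa [inv_inv] at this
      apply hii y' hy'
      obtain ⟨hua, huaz⟩ := hu a ha has y hyQ
      obtain ⟨hub, hubz⟩ := hu b hb hbs y hyQ
      set ua := a * y * a⁻¹ * y⁻¹ with hua'
      set ub := b * y * b⁻¹ * y⁻¹ with hub'
      have c1 := hAB b hb hbs ua hua huaz
      have c2 := hAB a ha has ub hub hubz
      set k1 := b * ua * b⁻¹ * ua⁻¹ with hk1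
      set k2 := a * ub * a⁻¹ * ub⁻¹ with hk2
      set k3 := ub * ua * ub⁻¹ * ua⁻¹ with hk3
      have c3 : k3 = 1 ∨ k3 = s := h1.comm ub hub ua hua
      have e1 : (b * a) * y * (b * a)⁻¹ = k1 * (ua * ub * y) := by
        rw [hk1, hub', hua']; group
      have e2 : (a * b) * y * (a * b)⁻¹ = k2 * (k3 * (ua * ub * y)) := by
        rw [hk3, hk2, hub', hua']; group
      have e3 : y' = k1 * (ua * ub * y) := by rw [← e1, hydef]; group
      have e4 : z * y' * z⁻¹ = k2 * (k3 * (ua * ub * y)) := by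
        rw [← e2, hab, hydef]; group
      have e5 : z * y' * z⁻¹ * y'⁻¹ = k2 * (k3 * k1⁻¹) := by
        rw [e4, e3]; group
      rw [e5]
      apply hmul _ _ c2
      apply hmul _ _ c3
      rcases c1 with h' | h'
      · left; rw [h', inv_one]
      · right; rw [h', hsi]
    rcases h1.C z (fun q hq => (hfin q hq).symm) with h' | h'
    · exact h.z1 h'
    · exact hsz h'.symm

end H91.LargePair
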