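import Mathlib
import Cfsg.Agent.Lib.H91.LargePair

set_option autoImplicit false

namespace H91.LargePair2

open H91.LargePair

variable {G : Type*} [Group G]

/-- `|N : C_N(x)|` is the number of `N`-conjugates of `x`. -/
theorem relIndex_centralizer_singleton (N : Subgroup G) (x : G) :
    (Subgroup.centralizer ({x} : Set G)).relIndex N = Set.ncard {y : G | ∃ n ∈ N, y = n * x * n⁻¹} := by
  letI : MulAction N G := MulAction.compHom G ((MulAut.conj : G →* MulAut G).comp N.subtype)
  have hsm : ∀ (n : N) (y : G), n • y = (n : G) * y * (n : G)⁻¹ := fun n y => rfl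
  have hst : MulAction.stabilizer N x = (Subgroup.centralizer ({x} : Set G)).subgroupOf N := by
    ext n
    rw [MulAction.mem_stabilizer_iff, hsm, Subgroup.mem_subgroupOf,
      Subgroup.mem_centralizer_singleton_iff, mul_inv_eq_iff_eq_mul]
  have horb : MulAction.orbit N x = {y : G | ∃ n ∈ N, y = n * x * n⁻¹} := by
    ext y
    rw [MulAction.mem_orbit_iff]
    constructor
    · rintro ⟨n, rfl⟩; exact ⟨n, n.2, hsm n x⟩
    · rintro ⟨n, hn, rfl⟩; exact ⟨⟨n, hn⟩, hsm _ _⟩
  rw [Subgroup.relIndex, ← hst, MulAction.index_stabilizer, horb]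

/-- `N_G(V)` induces `S₃` on `V = ⟨z, s⟩`. -/
theorem relIndex_eq_six [Finite G] {V : Subgroup G} {z s t y : G}
    (hV : ∀ x, x ∈ V ↔ x = 1 ∨ x = z ∨ x = s ∨ x = z * s)
    (hz1 : z ≠ 1) (hs1 : s ≠ 1) (hsz : s ≠ z)
    (hzz : z * z = 1) (hss : s * s = 1) (hzs : z * s = s * z)
    (htz : t * z = z * t) (hts : t * s * t⁻¹ = z * s)
    (hys : y * s = s * y) (hyz : y * z * y⁻¹ = z * s) :
    (Subgroup.centralizer (V : Set G)).relIndex (Subgroup.normalizer (V : Set G)) = 6 := by
  classical
  have hti : t * z * t⁻¹ = z := by rw [htz]; group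
  have hyi : y * s * y⁻¹ = s := by rw [hys]; group
  set N := Subgroup.normalizer (V : Set G) with hN
  have hVcard : ∀ n ∈ N, ∀ x ∈ V, n * x * n⁻¹ ∈ V := by
    intro n hn x hx
    exact (Subgroup.mem_normalizer_iff.mp hn x).mp hx
  have hinN : ∀ n : G, (∀ x ∈ V, n * x * n⁻¹ ∈ V) → n ∈ N := by
    intro n hn
    rw [hN]
    have hmap : V.map (MulAut.conj n).toMonoidHom = V := by
      apply Subgroup.eq_of_le_of_card_ge
      · rintro _ ⟨x, hx, rfl⟩
        exact hn x hx
      · rw [Subgroup.card_map_of_injective (MulAut.conj n).injective]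
    rw [Subgroup.mem_normalizer_iff]
    intro x
    constructor
    · exact hn x
    · intro hx
      rw [← hmap] at hx
      rw [mem_map_conj] at hx
      have : n⁻¹ * (n * x * n⁻¹) * n = x := by group
      rwa [this] at hx
  have hzV : z ∈ V := (hV z).mpr (Or.inr (Or.inl rfl))
  have hsV : s ∈ V := (hV s).mpr (Or.inr (Or.inr (Or.inl rfl)))
  have htN : t ∈ N := by
    apply hinN
    intro x hx
    rcases (hV x).mp hx with rfl | rfl | rfl | rfl
    · simp [V.one_mem]
    · rw [hti]; exact hzV
    · rw [hts]; exact V.mul_mem hzV hsV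
    · have : t * (z * s) * t⁻¹ = (t * z * t⁻¹) * (t * s * t⁻¹) := by group
      rw [this, hti, hts]
      exact V.mul_mem hzV (V.mul_mem hzV hsV)
  have hyN : y ∈ N := by
    apply hinN
    intro x hx
    rcases (hV x).mp hx with rfl | rfl | rfl | rfl
    · simp [V.one_mem]
    · rw [hyz]; exact V.mul_mem hzV hsV
    · rw [hyi]; exact hsV
    · have : y * (z * s) * y⁻¹ = (y * z * y⁻¹) * (y * s * y⁻¹) := by group
      rw [this, hyz, hyi]
      exact V.mul_mem (V.mul_mem hzV hsV) hsV
  have hCle : Subgroup.centralizer (V : Set G) ≤ Subgroup.centralizer ({z} : Set G) ⊓ N := by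
    intro c hc
    rw [Subgroup.mem_centralizer_iff] at hc
    refine Subgroup.mem_inf.mpr ⟨?_, ?_⟩
    · rw [Subgroup.mem_centralizer_singleton_iff]; exact (hc z hzV).symm
    · apply hinN
      intro x hx
      have := hc x hx
      rw [← this]
      simpa using hx
  have hCeq : Subgroup.centralizer (V : Set G) =
      Subgroup.centralizer ({s} : Set G) ⊓ (Subgroup.centralizer ({z} : Set G) ⊓ N) := by
    apply le_antisymm
    · refine le_inf ?_ hCle
      intro c hc
      rw [Subgroup.mem_centralizer_iff] at hc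
      rw [Subgroup.mem_centralizer_singleton_iff]; exact (hc s hsV).symm
    · intro c hc
      obtain ⟨hcs, hcz'⟩ := Subgroup.mem_inf.mp hc
      have hcz := (Subgroup.mem_inf.mp hcz').1
      rw [Subgroup.mem_centralizer_singleton_iff] at hcs hcz
      rw [Subgroup.mem_centralizer_iff]
      intro x hx
      rcases (hV x).mp hx with h | h | h | h <;> rw [h]
      · simp
      · exact hcz.symm
      · exact hcs.symm
      · rw [mul_assoc, ← hcs, ← mul_assoc, ← hcz, mul_assoc]
  have hzsne1 : z * s ≠ 1 := by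
    intro h
    apply hsz
    have : s = z⁻¹ := (inv_eq_of_mul_eq_one_right h).symm
    rw [this]
    exact inv_eq_of_mul_eq_one_left hzz
  have hzsnez : z * s ≠ z := by
    intro h; apply hs1; simpa using h
  have hzsnes : z * s ≠ s := by
    intro h; apply hz1; simpa using h
  -- orbit of z under N
  have horb1 : {w : G | ∃ n ∈ N, w = n * z * n⁻¹} = {z, s, z * s} := by
    ext w
    simp only [Set.mem_insert_iff, Set.mem_singleton_iff]
    constructor
    · rintro ⟨n, hn, rfl⟩
      rcases (hV _).mp (hVcard n hn z hzV) with h | h | h | h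
      · exfalso; apply hz1
        have : z = n⁻¹ * (n * z * n⁻¹) * n := by group
        rw [this, h]; group
      · exact Or.inl h
      · exact Or.inr (Or.inl h)
      · exact Or.inr (Or.inr h)
    · rintro (h | h | h) <;> rw [h]
      · exact ⟨1, N.one_mem, by simp⟩
      · refine ⟨t * y, N.mul_mem htN hyN, ?_⟩
        have : t * y * z * (t * y)⁻¹ = t * (y * z * y⁻¹) * t⁻¹ := by group
        rw [this, hyz]
        have : t * (z * s) * t⁻¹ = (t * z * t⁻¹) * (t * s * t⁻¹) := by group
        rw [this, hti, hts, ← mul_assoc, hzz, one_mul]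
      · exact ⟨y, hyN, hyz.symm⟩
  have horb2 : {w : G | ∃ n ∈ Subgroup.centralizer ({z} : Set G) ⊓ N, w = n * s * n⁻¹} = {s, z * s} := by
    ext w
    simp only [Set.mem_insert_iff, Set.mem_singleton_iff]
    constructor
    · rintro ⟨n, hnn, rfl⟩
      obtain ⟨hnz, hn⟩ := Subgroup.mem_inf.mp hnn
      rw [Subgroup.mem_centralizer_singleton_iff] at hnz
      rcases (hV _).mp (hVcard n hn s hsV) with h | h | h | h
      · exfalso; apply hs1
        have : s = n⁻¹ * (n * s * n⁻¹) * n := by group
        rw [this, h]; group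
      · exfalso; apply hsz
        have : s = n⁻¹ * (n * s * n⁻¹) * n := by group
        rw [this, h, mul_assoc, ← hnz]; group
      · exact Or.inl h
      · exact Or.inr h
    · rintro (h | h) <;> rw [h]
      · exact ⟨1, Subgroup.one_mem _, by simp⟩
      · refine ⟨t, Subgroup.mem_inf.mpr ⟨?_, htN⟩, hts.symm⟩
        rw [Subgroup.mem_centralizer_singleton_iff]; exact htz
  have h3 : (Subgroup.centralizer ({z} : Set G)).relIndex N = 3 := by
    rw [relIndex_centralizer_singleton, horb1]
    rw [Set.ncard_insert_of_notMem, Set.ncard_pair hzsnes.symm]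
    simp only [Set.mem_insert_iff, Set.mem_singleton_iff, not_or]
    exact ⟨hsz.symm, hzsnez.symm⟩
  have h2 : (Subgroup.centralizer ({s} : Set G)).relIndex (Subgroup.centralizer ({z} : Set G) ⊓ N) = 2 := by
    rw [relIndex_centralizer_singleton, horb2, Set.ncard_pair hzsnes.symm]
  have hmul := Subgroup.relIndex_mul_relIndex (Subgroup.centralizer (V : Set G))
    (Subgroup.centralizer ({z} : Set G) ⊓ N) N hCle inf_le_right
  rw [← hmul, Subgroup.inf_relIndex_right, h3, hCeq, Subgroup.inf_relIndex_right, h2]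

/-- Largeness from a conjugate of `z` in `Q`. -/
theorem large_of_conj [Finite G] {Q Q1 K : Subgroup G} {z s : G} (h : Pack Q z) (h1 : Pack Q1 s)
    (hsQ : s ∈ Q) (hsz : s ≠ z) (hzQ1 : z ∈ Q1) (hQ1 : IsPGroup 2 Q1)
    (hKodd : Odd (Nat.card K)) (hQK : Q ≤ Subgroup.normalizer (K : Set G)) :
    ∀ k ∈ K, z * k = k * z := by
  have hzs : z * s = s * z := (h.zc s hsQ).symm
  have h2 : ∀ k ∈ K, s * k = k * s → z * k = k * z := by
    intro k hk hsk
    have e1 : z * k * z⁻¹ * k⁻¹ ∈ K :=
      K.mul_mem ((Subgroup.mem_normalizer_iff.mp (hQK h.zQ) k).mp hk) (K.inv_mem hk)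
    have e2 : z * k * z⁻¹ * k⁻¹ ∈ Q1 := by
      have : z * k * z⁻¹ * k⁻¹ = z * (k * z⁻¹ * k⁻¹) := by group
      rw [this]
      exact Q1.mul_mem hzQ1 (h1.N k hsk.symm _ (Q1.inv_mem hzQ1))
    have h4 := H91.LargeExtra.eq_one_of_odd_of_two hKodd hQ1 e1 e2
    rw [mul_inv_eq_one, mul_inv_eq_iff_eq_mul] at h4
    exact h4
  have main : K ≤ Subgroup.centralizer ({z} : Set G) := by
    apply H91.FourGroup.le_of_centralizers hKodd h.zz h1.zz hzs (hQK h.zQ) (hQK hsQ)
    · intro k hk h'; rw [Subgroup.mem_centralizer_singleton_iff]; exact h'.symm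
    · intro k hk h'; rw [Subgroup.mem_centralizer_singleton_iff]; exact (h2 k hk h').symm
    · intro k hk h'
      rw [Subgroup.mem_centralizer_singleton_iff]
      obtain ⟨t, ht, hts⟩ := h.exists_shift hsQ h1.z1 hsz
      have hk' : t⁻¹ * k * t ∈ K := by
        have := (Subgroup.mem_normalizer_iff.mp (hQK (Q.inv_mem ht)) k).mp hk
        simpa using this
      have e : (t * s * t⁻¹) * k = k * (t * s * t⁻¹) := by rw [hts]; exact h'
      have h5 := h2 _ hk' (by
        calc s * (t⁻¹ * k * t) = t⁻¹ * ((t * s * t⁻¹) * k) * t := by group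
          _ = t⁻¹ * (k * (t * s * t⁻¹)) * t := by rw [e]
          _ = (t⁻¹ * k * t) * s := by group)
      have htz := h.zc t ht
      symm
      calc z * k = (z * t) * (t⁻¹ * k * t) * t⁻¹ := by group
        _ = (t * z) * (t⁻¹ * k * t) * t⁻¹ := by rw [htz]
        _ = t * (z * (t⁻¹ * k * t)) * t⁻¹ := by group
        _ = t * ((t⁻¹ * k * t) * z) * t⁻¹ := by rw [h5]
        _ = k * (t * z * t⁻¹) := by group
        _ = k * z := by rw [htz]; group
  intro k hk
  have := main hk
  rw [Subgroup.mem_centralizer_singleton_iff] at this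
  exact this.symm

end H91.LargePair2
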