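import Cfsg.Agent.Lib.H57.Mc6

/-!
# S5316, pieces EV and EV5 (and PAR)
-/

set_option autoImplicit false
set_option linter.unusedVariables false

namespace H91.MXEV

open Subgroup H67.HallPetrescu H57.Mc
open scoped commutatorElement

section Abs

variable {H : Type*} [Group H]

theorem comm_pow_right {a b : H} (hc : ∀ g, Commute ⁅a, b⁆ g) (e : ℤ) : ⁅a, b ^ e⁆ = ⁅a, b⁆ ^ e := by
  have h1 : a * b * a⁻¹ = ⁅a, b⁆ * b := by rw [commutatorElement_def]; group
  have h2 : a * b ^ e * a⁻¹ = ⁅a, b⁆ ^ e * b ^ e := by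
    rw [← conj_zpow, h1, (hc b).mul_zpow]
  rw [commutatorElement_def a (b ^ e), h2, mul_assoc, mul_inv_cancel, mul_one]

theorem comm_pow_left {a b : H} (hc : ∀ g, Commute ⁅a, b⁆ g) (e : ℤ) : ⁅a ^ e, b⁆ = ⁅a, b⁆ ^ e := by
  have h1 : ∀ g, Commute ⁅b, a⁆ g := fun g => by
    rw [← commutatorElement_inv]; exact (hc g).inv_left
  rw [← commutatorElement_inv, comm_pow_right h1, ← commutatorElement_inv b a, inv_zpow]

theorem absA {s y w v : H} {m e : ℤ} (hc : ∀ g, Commute ⁅s, y⁆ g) (hv : ∀ g, Commute v g)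
    (hw : Commute w y) : ⁅s ^ m * w, y ^ e * v⁆ = ⁅s, y⁆ ^ (m * e) := by
  have h1 : ⁅s ^ m * w, y ^ e * v⁆ = ⁅s ^ m, y ^ e⁆ := by
    have h2 : w * y ^ e * w⁻¹ = y ^ e := by
      rw [(hw.zpow_right e).eq, mul_inv_cancel_right]
    calc ⁅s ^ m * w, y ^ e * v⁆ = s ^ m * (w * y ^ e * (v * (w⁻¹ * (s ^ m)⁻¹)) * v⁻¹) * (y ^ e)⁻¹ := by
          rw [commutatorElement_def]; group
      _ = s ^ m * (w * y ^ e * w⁻¹) * (s ^ m)⁻¹ * (y ^ e)⁻¹ := by
          rw [(hv (w⁻¹ * (s ^ m)⁻¹)).eq]; group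
      _ = ⁅s ^ m, y ^ e⁆ := by rw [h2, commutatorElement_def]
  have h3 : ∀ g, Commute ⁅s, y ^ e⁆ g := fun g => by
    rw [comm_pow_right hc]; exact (hc g).zpow_left e
  rw [h1, comm_pow_left h3, comm_pow_right hc, ← zpow_mul, mul_comm]

end Abs

section G
variable {G : Type*} [Group G] [Finite G] {p n : ℕ} [hp : Fact p.Prime]

theorem aut_mem (σ : MulAut G) {i : ℕ} {z : G} (hz : z ∈ lcsF G i) : σ z ∈ lcsF G i := by
  have : (lcsF G i).Characteristic := by unfold lcsF; infer_instance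
  have h1 := Subgroup.characteristic_iff_map_eq.1 this σ
  rw [← h1]
  exact Subgroup.mem_map_of_mem _ hz

theorem aut_memTC (σ : MulAut G) {i : ℕ} {g : G} (hg : g ∈ TC G i) : σ g ∈ TC G i := by
  rw [mem_TC]
  intro x hx
  have h1 := hg (σ⁻¹ x) (aut_mem σ⁻¹ hx)
  have h2 := aut_mem σ h1
  rw [map_commutatorElement] at h2
  have h3 : σ (σ⁻¹ x) = x := MulAut.apply_inv_self G σ x
  rw [h3] at h2
  exact h2

/-- an element whose `d`-th power lies in `H`, `p ∤ d`, lies in `H` -/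
theorem mem_of_zpow (hG : IsPGroup p G) {H : Subgroup G} {z : G} {d : ℤ} (hz : z ^ d ∈ H) (hd : ¬ (p : ℤ) ∣ d) :
    z ∈ H := by
  obtain ⟨k, hk⟩ := hG z
  have hcop : IsCoprime d ((p : ℤ) ^ k) := by
    apply IsCoprime.pow_right
    exact ((Nat.prime_iff_prime_int.1 hp.out).coprime_iff_not_dvd.2 hd).symm
  obtain ⟨u, v, huv⟩ := hcop
  have h1 : z = (z ^ d) ^ u := by
    have h2 : z ^ ((p : ℤ) ^ k) = 1 := by
      have : ((p : ℤ) ^ k) = ((p ^ k : ℕ) : ℤ) := by push_cast; rfl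
      rw [this, zpow_natCast, hk]
    calc z = z ^ (u * d + v * (p : ℤ) ^ k) := by rw [huv, zpow_one]
      _ = (z ^ d) ^ u * (z ^ ((p : ℤ) ^ k)) ^ v := by
          rw [zpow_add, ← zpow_mul, ← zpow_mul, mul_comm u d, mul_comm v]
      _ = (z ^ d) ^ u := by rw [h2, one_zpow, mul_one]
  rw [h1]
  exact zpow_mem hz u

theorem pow_of {A B : Subgroup G} [A.Normal] (hi : A.relIndex B = p) (hAB : A ≤ B) {y g : G} (hy : y ∈ B)
    (hy' : y ∉ A) (hg : g ∈ B) : ∃ m : ℤ, ∃ w ∈ A, g = y ^ m * w := by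
  have h1 : B ≤ A ⊔ zpowers y := le_of_relIndex hi le_sup_left hy hy' (mem_sup_right (mem_zpowers y)) hAB
  have h2 := h1 hg
  rw [sup_comm] at h2
  rw [← SetLike.mem_coe, Subgroup.mul_normal] at h2
  obtain ⟨c, hc, w, hw, rfl⟩ := h2
  obtain ⟨m, rfl⟩ := mem_zpowers_iff.1 hc
  exact ⟨m, w, hw, rfl⟩

/-- the action on `K_{k+1}/K_{k+2}` from that on `K_k/K_{k+1}` -/
theorem stepA {k : ℕ} (σ : MulAut G) {s y w : G} {m e : ℤ} (hy : y ∈ lcsF G k)
    (hs : σ s = s ^ m * w) (hw : ⁅y, w⁆ ∈ lcsF G (k + 2)) (hσ : y ^ (-e) * σ y ∈ lcsF G (k + 1)) :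
    ⁅s, y⁆ ^ (-(m * e)) * σ ⁅s, y⁆ ∈ lcsF G (k + 2) := by
  set N := lcsF G (k + 2) with hN
  let q : G →* G ⧸ N := QuotientGroup.mk' N
  have hq : ∀ x : G, q x = 1 ↔ x ∈ N := fun x => QuotientGroup.eq_one_iff x
  set v := y ^ (-e) * σ y with hv
  have hσy : σ y = y ^ e * v := by rw [hv]; group
  have hcm : ∀ {x : G}, (∀ g : G, ⁅x, g⁆ ∈ N) → ∀ g : G ⧸ N, Commute (q x) g := by
    intro x hx g
    obtain ⟨g, rfl⟩ := QuotientGroup.mk'_surjective N g
    have h1 := (hq _).2 (hx g)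
    rw [map_commutatorElement, commutatorElement_eq_one_iff_mul_comm] at h1
    exact h1
  have h1 : ∀ g, Commute ⁅q s, q y⁆ g := by
    rw [← map_commutatorElement]
    exact hcm fun g => comm_memK' (comm_memK'' hy s) g
  have h2 : ∀ g, Commute (q v) g := hcm fun g => comm_memK' hσ g
  have h3 : Commute (q w) (q y) := by
    have h4 := (hq _).2 hw
    rw [map_commutatorElement, commutatorElement_eq_one_iff_mul_comm] at h4
    exact h4.symm
  have h4 := absA (m := m) (e := e) h1 h2 h3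
  have h5 : q (σ ⁅s, y⁆) = q (⁅s, y⁆ ^ (m * e)) := by
    rw [map_commutatorElement σ, hs, hσy, map_commutatorElement q, map_mul, map_mul, map_zpow, map_zpow, h4,
      map_zpow, map_commutatorElement]
  rw [← hq, map_mul, h5, ← map_mul, zpow_neg, inv_mul_cancel, map_one]

theorem dvd_of {k : ℕ} (h : MC p n G) {z z' : G} {d e : ℤ} (hz : z ∉ lcsF G (k + 1))
    (h1 : z ^ (-d) * z' ∈ lcsF G (k + 1)) (h2 : z ^ (-e) * z' ∈ lcsF G (k + 1)) : (p : ℤ) ∣ d - e := by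
  by_contra hd
  apply hz
  apply mem_of_zpow h.isPGroup (d := d - e) _ hd
  have h3 := mul_mem h2 (inv_mem h1)
  have h4 : z ^ (-e) * z' * (z ^ (-d) * z')⁻¹ = z ^ (d - e) := by
    rw [mul_inv_rev, mul_assoc, ← mul_assoc z', mul_inv_cancel, one_mul, ← zpow_neg, ← zpow_add]
    congr 1; ring
  rwa [h4] at h3

theorem even_of_exc (h : MC p n G) (h5 : 5 ≤ p) (hn : 5 ≤ n) (hex : ¬ TC G 2 ≤ TC G (n - 2)) : Even n := by
  rcases Nat.even_or_odd n with he | ho
  · exact he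
  · exact absurd (h.thmB hn (by omega) ho (h.blackburn (by omega) (by omega)).1) hex

theorem small_dvd (h5 : 5 ≤ p) {x : ℤ} (hx : (p : ℤ) ∣ x) (hx' : |x| ≤ 2) : x = 0 :=
  Int.eq_zero_of_abs_lt_dvd hx (by have : (5 : ℤ) ≤ p := by exact_mod_cast h5
                                   omega)

theorem eig5 (h : MC p 5 G) (h5 : 5 ≤ p) (σ : MulAut G)
    {a b c : ℤ} (ha : a = 1 ∨ a = -1) (hb : b = 1 ∨ b = -1) (hc : c = 1 ∨ c = -1)
    (h1 : ∀ z ∈ lcsF G 4, σ z = z ^ a) (h2 : ∀ z ∈ lcsF G 3, z ^ (-b) * σ z ∈ lcsF G 4)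
    (h3 : ∀ z ∈ lcsF G 2, z ^ (-c) * σ z ∈ lcsF G 3) : a = c := by
  have hle : TC G 2 ≤ TC G 3 := by
    by_contra hne
    exact absurd (even_of_exc h h5 le_rfl hne) (by decide)
  have hN : (TC G 2).Normal := h.normal_P1 (by norm_num)
  obtain ⟨s, hs⟩ := h.exists_unif (by norm_num) (by omega)
  obtain ⟨m, w, hw, hsσ⟩ := pow_of (p := p) (A := TC G 2) (B := ⊤)
    (by rw [Subgroup.relIndex_top_right]; exact h.index_TC le_rfl (by norm_num)) le_top (mem_top s)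
    (hs 2 le_rfl (by norm_num)) (mem_top (σ s))
  obtain ⟨z, hz, hz'⟩ := h.exists_mem (i := 2) le_rfl (by norm_num)
  have hy : ⁅s, z⁆ ∈ lcsF G 3 := comm_memK'' hz s
  have hy' : ⁅s, z⁆ ∉ lcsF G 4 := h.step' (i := 2) le_rfl (by norm_num) (hs 2 le_rfl (by norm_num)) hz hz'
  have d1 := dvd_of (k := 3) h hy' (stepA (k := 2) σ hz hsσ (hw z hz) (h3 z hz)) (h2 _ hy)
  have hx : ⁅s, ⁅s, z⁆⁆ ∈ lcsF G 4 := comm_memK'' hy s
  have hx' : ⁅s, ⁅s, z⁆⁆ ∉ lcsF G 5 := h.step' (i := 3) (by norm_num) (by norm_num) (hs 3 (by norm_num) (by norm_num)) hy hy'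
  have d2 := dvd_of (k := 4) h hx' (stepA (k := 3) σ hy hsσ (hle hw _ hy) (h2 _ hy))
    (e := a) (by rw [h1 _ hx, zpow_neg, inv_mul_cancel]; exact one_mem _)
  have d3 : (p : ℤ) ∣ a - c := by
    have h4 : a - c = (m * c - b) * (b * c) - (m * b - a) := by
      have hb2 : b * b = 1 := by rcases hb with rfl | rfl <;> rfl
      have hc2 : c * c = 1 := by rcases hc with rfl | rfl <;> rfl
      linear_combination -(m * b) * hc2 + c * hb2
    rw [h4]
    exact dvd_sub (Dvd.dvd.mul_right d1 _) d2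
  have := small_dvd h5 d3 (by rcases ha with rfl | rfl <;> rcases hc with rfl | rfl <;> norm_num)
  omega

theorem eig (h : MC p n G) (h5 : 5 ≤ p) (hn : 6 ≤ n) (hex : ¬ TC G 2 ≤ TC G (n - 2)) (σ : MulAut G)
    {a b c : ℤ} (ha : a = 1 ∨ a = -1) (hb : b = 1 ∨ b = -1) (hc : c = 1 ∨ c = -1)
    (h1 : ∀ z ∈ lcsF G (n - 1), σ z = z ^ a) (h2 : ∀ z ∈ lcsF G (n - 2), z ^ (-b) * σ z ∈ lcsF G (n - 1))
    (h3 : ∀ z ∈ lcsF G (n - 3), z ^ (-c) * σ z ∈ lcsF G (n - 2)) : a = b * c := by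
  have hev := even_of_exc h h5 (by omega) hex
  obtain ⟨N, rfl⟩ := Nat.exists_eq_add_of_le' hn
  have hN3 : Odd (N + 3) := by
    obtain ⟨r, hr⟩ := hev
    exact ⟨r - 2, by omega⟩
  change ¬ TC G 2 ≤ TC G (N + 4) at hex
  change ∀ z ∈ lcsF G (N + 5), σ z = z ^ a at h1
  change ∀ z ∈ lcsF G (N + 4), z ^ (-b) * σ z ∈ lcsF G (N + 5) at h2
  change ∀ z ∈ lcsF G (N + 3), z ^ (-c) * σ z ∈ lcsF G (N + 4) at h3
  have hB := (h.blackburn (by omega) (by omega)).1
  have hN : (TC G 2).Normal := h.normal_P1 (by omega)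
  obtain ⟨s, hs⟩ := h.exists_unif (by omega) (by omega)
  obtain ⟨m, w, hw, hsσ⟩ := pow_of (p := p) (A := TC G 2) (B := ⊤)
    (by rw [Subgroup.relIndex_top_right]; exact h.index_TC le_rfl (by omega)) le_top (mem_top s)
    (hs 2 le_rfl (by omega)) (mem_top (σ s))
  -- (1)
  obtain ⟨z, hz, hz'⟩ := h.exists_mem (i := N + 3) (by omega) (by omega)
  have hy : ⁅s, z⁆ ∈ lcsF G (N + 4) := comm_memK'' hz s
  have hy' : ⁅s, z⁆ ∉ lcsF G (N + 5) := h.step' (i := N + 3) (by omega) (by omega) (hs _ (by omega) (by omega)) hz hz'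
  have d1 := dvd_of (k := N + 4) h hy' (stepA (k := N + 3) σ hz hsσ (hB (N + 3) (by omega) (by omega) hw z hz) (h3 z hz)) (h2 _ hy)
  -- (2)
  obtain ⟨x, hx, hx'⟩ := h.exists_P1 (by omega)
  obtain ⟨ν, u, hu, hxσ⟩ := pow_of (A := lcsF G 2) (B := TC G 2) (h.relIndex_P1 (by omega)) (K2_le_TC 2) hx hx'
    (aut_memTC σ hx)
  have hv : ⁅x, ⁅s, z⁆⁆ ∉ lcsF G (N + 5 + 1) := by
    intro hc'
    exact hex (h.TC_le (by omega) (i := N + 4) (by omega) (by omega) hx hx' hy hy' (comm_symm hc'))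
  have hv' : ⁅x, ⁅s, z⁆⁆ ∈ lcsF G (N + 5) := comm_memK'' hy x
  have d2 := dvd_of (k := N + 5) h hv (stepA (k := N + 4) σ hy hxσ (comm_memK hy hu) (h2 _ hy))
    (e := a) (by rw [h1 _ hv', zpow_neg, inv_mul_cancel]; exact one_mem _)
  -- (3)
  have chain : ∀ k, 1 ≤ k → k ≤ N + 4 → sig s x k ^ (-(ν * m ^ (k - 1))) * σ (sig s x k) ∈ lcsF G (k + 1) := by
    intro k hk
    induction k, hk using Nat.le_induction with
    | base =>
      intro _
      rw [sig_one, Nat.sub_self, pow_zero, mul_one, hxσ, zpow_neg, inv_mul_cancel_left]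
      exact hu
    | succ k hk ih =>
      intro hkN
      have e1 := ih (by omega)
      have e2 : ⁅sig s x k, w⁆ ∈ lcsF G (k + 2) := by
        rcases Nat.lt_or_ge k 2 with h2' | h2'
        · have : k = 1 := by omega
          subst this
          rw [sig_one]
          exact K_anti (by omega) (h.P1_comm (by omega) (commutator_mem_commutator hx hw))
        · exact hB k h2' (by omega) hw _ (sig_mem s x hk)
      have e3 := stepA (k := k) σ (sig_mem s x hk) hsσ e2 e1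
      rw [← sig_succ s x hk] at e3
      have e4 : m * (ν * m ^ (k - 1)) = ν * m ^ (k + 1 - 1) := by
        rw [Nat.add_sub_cancel]
        obtain ⟨r, rfl⟩ := Nat.exists_eq_add_of_le' hk
        rw [Nat.add_sub_cancel, pow_succ]; ring
      rw [e4] at e3
      exact e3
  have d3 := dvd_of (k := N + 4) h (h.sig_not_mem (by omega) hs hx hx' (by omega : 1 ≤ N + 4) (by omega))
    (chain (N + 4) (by omega) le_rfl) (h2 _ (sig_mem s x (by omega : 1 ≤ N + 4)))
  rw [show N + 4 - 1 = N + 3 from rfl] at d3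
  -- arithmetic
  have hb2 : b * b = 1 := by rcases hb with rfl | rfl <;> rfl
  have hc2 : c * c = 1 := by rcases hc with rfl | rfl <;> rfl
  have m1 : m ≡ b * c [ZMOD p] := by
    apply Int.ModEq.symm
    rw [Int.modEq_iff_dvd]
    have : m - b * c = (m * c - b) * c := by linear_combination -m * hc2
    rw [this]; exact Dvd.dvd.mul_right d1 _
  have m2 : ν ≡ a * b [ZMOD p] := by
    apply Int.ModEq.symm
    rw [Int.modEq_iff_dvd]
    have : ν - a * b = (ν * b - a) * b := by linear_combination -ν * hb2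
    rw [this]; exact Dvd.dvd.mul_right d2 _
  have m3 : (b * c) ^ (N + 3) = b * c := by
    rcases hb with rfl | rfl <;> rcases hc with rfl | rfl <;> simp [hN3.neg_one_pow]
  have m4 := m2.mul (m1.pow (N + 3))
  rw [m3] at m4
  have m5 : (p : ℤ) ∣ a * c - b := by
    have e1 : (p : ℤ) ∣ a * b * (b * c) - ν * m ^ (N + 3) := (Int.modEq_iff_dvd.1 m4)
    have e2 : a * c - b = (a * b * (b * c) - ν * m ^ (N + 3)) + (ν * m ^ (N + 3) - b) := by
      linear_combination -(a * c) * hb2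
    rw [e2]; exact dvd_add e1 d3
  have m6 := small_dvd h5 m5 (by
    rcases ha with rfl | rfl <;> rcases hb with rfl | rfl <;> rcases hc with rfl | rfl <;> norm_num)
  have m7 : a * c = b := by omega
  rw [← m7, mul_assoc, hc2, mul_one]

end G

end H91.MXEV
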