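import Mathlib
import Cfsg.Prelude.Def_Transfer

set_option autoImplicit false

namespace H91.ExtraDual

/-- In an extraspecial 2-group every homomorphism into the centre is `x ↦ [g, x]` for some `g`. -/
theorem exists_comm {P : Type*} [Group P] [Finite P] (h : Cfsg.IsExtraspecial 2 P)
    (f : P →* P) (hf : ∀ x, f x ∈ Subgroup.center P) : ∃ g : P, ∀ x, f x = g * x * g⁻¹ * x⁻¹ := by
  classical
  obtain ⟨⟨hP, hfr, hcom⟩, hcard⟩ := h
  obtain ⟨z, hz, hz1, huniq⟩ : ∃ z0 : P, z0 ∈ Subgroup.center P ∧ z0 ≠ 1 ∧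
      ∀ x ∈ Subgroup.center P, x = 1 ∨ x = z0 := by
    rw [Nat.card_eq_two_iff' (1 : Subgroup.center P)] at hcard
    obtain ⟨y, hy, hyu⟩ := hcard
    refine ⟨y, y.2, ?_, ?_⟩
    · intro h; exact hy (Subtype.ext h)
    · intro x hx
      by_cases hx1 : x = 1
      · exact Or.inl hx1
      · right
        have := hyu ⟨x, hx⟩ (fun h => hx1 (congrArg Subtype.val h))
        exact congrArg Subtype.val this
  have hzz : z * z = 1 := by
    rcases huniq _ (Subgroup.mul_mem _ hz hz) with h | h
    · exact h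
    · exfalso; apply hz1; simpa using h
  have hcc : ∀ x y : P, x * y * x⁻¹ * y⁻¹ ∈ Subgroup.center P := by
    intro x y
    rw [← hcom, ← commutatorElement_def]
    exact Subgroup.commutator_mem_commutator (Subgroup.mem_top _) (Subgroup.mem_top _)
  -- the embedding of the centre
  let ι : P → ℂˣ := fun c => if c = 1 then 1 else -1
  have hι1 : ι 1 = 1 := by simp [ι]
  have hιz : ι z = -1 := by simp [ι, hz1]
  have hιmul : ∀ a ∈ Subgroup.center P, ∀ b ∈ Subgroup.center P, ι (a * b) = ι a * ι b := by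
    intro a ha b hb
    rcases huniq a ha with rfl | rfl <;> rcases huniq b hb with rfl | rfl
    · simp [hι1]
    · simp [hι1]
    · simp [hι1]
    · rw [hzz, hι1, hιz]; simp
  have hne : (-1 : ℂˣ) ≠ 1 := by
    intro h
    have := congrArg Units.val h
    norm_num at this
  have hιinj : ∀ a ∈ Subgroup.center P, ∀ b ∈ Subgroup.center P, ι a = ι b → a = b := by
    intro a ha b hb hab
    rcases huniq a ha with rfl | rfl <;> rcases huniq b hb with rfl | rfl
    · rfl
    · rw [hι1, hιz] at hab; exact absurd hab.symm hne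
    · rw [hι1, hιz] at hab; exact absurd hab hne
    · rfl
  have hcx : ∀ c ∈ Subgroup.center P, ∀ x : P, x * c = c * x := fun c hc x =>
    Subgroup.mem_center_iff.mp hc x
  -- bilinearity
  have hb1 : ∀ g x y : P, g * (x * y) * g⁻¹ * (x * y)⁻¹ = (g * x * g⁻¹ * x⁻¹) * (g * y * g⁻¹ * y⁻¹) := by
    intro g x y
    have := hcx _ (hcc g y) x
    calc g * (x * y) * g⁻¹ * (x * y)⁻¹ = (g * x * g⁻¹ * x⁻¹) * (x * (g * y * g⁻¹ * y⁻¹)) * x⁻¹ := by group
      _ = (g * x * g⁻¹ * x⁻¹) * ((g * y * g⁻¹ * y⁻¹) * x) * x⁻¹ := by rw [this]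
      _ = _ := by group
  have hb2 : ∀ g k x : P, (g * k) * x * (g * k)⁻¹ * x⁻¹ = (g * x * g⁻¹ * x⁻¹) * (k * x * k⁻¹ * x⁻¹) := by
    intro g k x
    have := hcx _ (hcc k x) g
    have h2 := hcx _ (hcc k x) (x * g⁻¹ * x⁻¹)
    calc (g * k) * x * (g * k)⁻¹ * x⁻¹ = (g * (k * x * k⁻¹ * x⁻¹)) * (x * g⁻¹ * x⁻¹) := by group
      _ = ((k * x * k⁻¹ * x⁻¹) * g) * (x * g⁻¹ * x⁻¹) := by rw [this]
      _ = (k * x * k⁻¹ * x⁻¹) * (g * x * g⁻¹ * x⁻¹) := by group
      _ = (g * x * g⁻¹ * x⁻¹) * (k * x * k⁻¹ * x⁻¹) := by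
        rw [hcx _ (hcc k x)]
  let F : P →* (P →* ℂˣ) :=
    { toFun := fun g =>
        { toFun := fun x => ι (g * x * g⁻¹ * x⁻¹)
          map_one' := by simp [hι1]
          map_mul' := by
            intro x y
            rw [hb1, hιmul _ (hcc _ _) _ (hcc _ _)] }
      map_one' := by
        ext x
        simp [hι1]
      map_mul' := by
        intro g k
        ext x
        simp only [MonoidHom.coe_mk, OneHom.coe_mk, MonoidHom.mul_apply]
        rw [hb2, hιmul _ (hcc _ _) _ (hcc _ _)] }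
  have hFapp : ∀ g x, F g x = ι (g * x * g⁻¹ * x⁻¹) := fun g x => rfl
  have hker : F.ker = Subgroup.center P := by
    ext g
    rw [MonoidHom.mem_ker, Subgroup.mem_center_iff]
    constructor
    · intro hg x
      have := DFunLike.congr_fun hg x
      rw [hFapp, MonoidHom.one_apply, ← hι1] at this
      have h2 := hιinj _ (hcc g x) 1 (Subgroup.one_mem _) this
      rw [mul_inv_eq_one, mul_inv_eq_iff_eq_mul] at h2
      exact h2.symm
    · intro hg
      ext x
      rw [hFapp, MonoidHom.one_apply, ← hg x]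
      simp [hι1]
  have hFin : Finite (P →* ℂˣ) := by
    have : Nat.card (Abelianization P →* ℂˣ) = Nat.card (Abelianization P) :=
      CommGroup.card_monoidHom_of_hasEnoughRootsOfUnity (Abelianization P) ℂ
    have hpos : 0 < Nat.card (Abelianization P) := Nat.card_pos
    have : Finite (Abelianization P →* ℂˣ) := Nat.finite_of_card_ne_zero (by omega)
    exact Finite.of_equiv _ Abelianization.lift.symm
  have hcardH : Nat.card (P →* ℂˣ) = (Subgroup.center P).index := by
    rw [Nat.card_congr Abelianization.lift,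
      CommGroup.card_monoidHom_of_hasEnoughRootsOfUnity (Abelianization P) ℂ, ← hcom]
    rfl
  have hrange : Nat.card F.range = (Subgroup.center P).index := by
    rw [← hker, Subgroup.index_ker]
  have hsurj : F.range = ⊤ := by
    apply Subgroup.eq_top_of_card_eq
    rw [hrange, hcardH]
  -- the homomorphism to be realised
  let lam : P →* ℂˣ :=
    { toFun := fun x => ι (f x)
      map_one' := by simp [hι1]
      map_mul' := by
        intro x y
        simp only [map_mul]
        rw [hιmul _ (hf _) _ (hf _)] }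
  have hlam : lam ∈ F.range := by rw [hsurj]; exact Subgroup.mem_top _
  obtain ⟨g, hg⟩ := hlam
  refine ⟨g, fun x => ?_⟩
  have := DFunLike.congr_fun hg x
  rw [hFapp] at this
  exact (hιinj _ (hcc g x) _ (hf x) this).symm

/-- An automorphism of an extraspecial 2-group trivial modulo the centre is inner. -/
theorem inner_of_trivial_mod_center {P : Type*} [Group P] [Finite P] (h : Cfsg.IsExtraspecial 2 P)
    (φ : P →* P) (hφ : ∀ x, φ x * x⁻¹ ∈ Subgroup.center P) : ∃ g : P, ∀ x, φ x = g * x * g⁻¹ := by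
  let f : P →* P :=
    { toFun := fun x => φ x * x⁻¹
      map_one' := by simp
      map_mul' := by
        intro x y
        have := Subgroup.mem_center_iff.mp (hφ y) x
        calc φ (x * y) * (x * y)⁻¹ = φ x * (φ y * y⁻¹) * x⁻¹ := by rw [map_mul]; group
          _ = φ x * (x⁻¹ * (x * (φ y * y⁻¹))) * x⁻¹ := by group
          _ = φ x * (x⁻¹ * ((φ y * y⁻¹) * x)) * x⁻¹ := by rw [this]
          _ = φ x * x⁻¹ * (φ y * y⁻¹) := by group }
  obtain ⟨g, hg⟩ := exists_comm h f hφ
  refine ⟨g, fun x => ?_⟩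
  have : φ x * x⁻¹ = g * x * g⁻¹ * x⁻¹ := hg x
  exact mul_right_cancel this

end H91.ExtraDual
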