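import Cfsg.Agent.Lib.H91.XSExtra

/-!
Explicit extraspecial 2-groups and their 2-ranks.
-/

set_option autoImplicit false

namespace H91.ExtModel

open Cfsg H91.MonsterForm

/-- the model: pairs of vectors with a central coordinate -/
@[ext] structure EM (m : ℕ) (c : ZMod 2) where
  x : Fin (m + 1) → ZMod 2
  y : Fin (m + 1) → ZMod 2
  a : ZMod 2

variable {m : ℕ} {c : ZMod 2}

/-- the cocycle -/
def be (c : ZMod 2) (x y x' y' : Fin (m + 1) → ZMod 2) : ZMod 2 :=
  (∑ i, x i * y' i) + c * (x 0 * x' 0 + y 0 * y' 0)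

theorem be_add_left (x y x1 y1 x' y' : Fin (m + 1) → ZMod 2) :
    be c (x + x1) (y + y1) x' y' = be c x y x' y' + be c x1 y1 x' y' := by
  simp only [be, Pi.add_apply, add_mul, Finset.sum_add_distrib]
  ring

theorem be_add_right (x y x1 y1 x' y' : Fin (m + 1) → ZMod 2) :
    be c x y (x' + x1) (y' + y1) = be c x y x' y' + be c x y x1 y1 := by
  simp only [be, Pi.add_apply, mul_add, Finset.sum_add_distrib]
  ring

theorem be_zero_left (x' y' : Fin (m + 1) → ZMod 2) : be c 0 0 x' y' = 0 := by simp [be]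

theorem be_zero_right (x' y' : Fin (m + 1) → ZMod 2) : be c x' y' 0 0 = 0 := by simp [be]

instance : Mul (EM m c) := ⟨fun p q => ⟨p.x + q.x, p.y + q.y, p.a + q.a + be c p.x p.y q.x q.y⟩⟩
instance : One (EM m c) := ⟨⟨0, 0, 0⟩⟩
instance : Inv (EM m c) := ⟨fun p => ⟨p.x, p.y, p.a + be c p.x p.y p.x p.y⟩⟩

theorem two2 (a : ZMod 2) : a + a = 0 := CharTwo.add_self_eq_zero a

theorem vec2 (a : Fin (m + 1) → ZMod 2) : a + a = 0 := by
  funext i; exact two2 _

@[simp] theorem mul_x (p q : EM m c) : (p * q).x = p.x + q.x := rfl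
@[simp] theorem mul_y (p q : EM m c) : (p * q).y = p.y + q.y := rfl
@[simp] theorem mul_a (p q : EM m c) : (p * q).a = p.a + q.a + be c p.x p.y q.x q.y := rfl
@[simp] theorem one_x : (1 : EM m c).x = 0 := rfl
@[simp] theorem one_y : (1 : EM m c).y = 0 := rfl
@[simp] theorem one_a : (1 : EM m c).a = 0 := rfl

instance : Group (EM m c) := Group.ofLeftAxioms
  (by
    intro p q r
    ext1
    · simp [add_assoc]
    · simp [add_assoc]
    · simp only [mul_a, mul_x, mul_y, be_add_left, be_add_right]; ring)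
  (by
    intro p
    ext1
    · simp
    · simp
    · simp [be_zero_left])
  (by
    intro p
    ext1
    · show p.x + p.x = 0
      exact vec2 _
    · show p.y + p.y = 0
      exact vec2 _
    · show (p.a + be c p.x p.y p.x p.y) + p.a + be c p.x p.y p.x p.y = 0
      have : (p.a + be c p.x p.y p.x p.y) + p.a + be c p.x p.y p.x p.y =
        (p.a + p.a) + (be c p.x p.y p.x p.y + be c p.x p.y p.x p.y) := by ring
      rw [this, two2, two2, add_zero])

/-- the underlying type -/
def eqv : EM m c ≃ ((Fin (m + 1) → ZMod 2) × (Fin (m + 1) → ZMod 2)) × ZMod 2 where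
  toFun p := ((p.x, p.y), p.a)
  invFun p := ⟨p.1.1, p.1.2, p.2⟩
  left_inv _ := rfl
  right_inv _ := rfl

instance : Finite (EM m c) := Finite.of_equiv _ eqv.symm

theorem card_EM : Nat.card (EM m c) = 2 ^ (2 * (m + 1) + 1) := by
  rw [Nat.card_congr eqv, Nat.card_prod, Nat.card_prod]
  simp only [Nat.card_eq_fintype_card, Fintype.card_fun, ZMod.card, Fintype.card_fin]
  ring

/-- the central involution -/
def zet : EM m c := ⟨0, 0, 1⟩

/-- the commutator form -/
def bb (x y x' y' : Fin (m + 1) → ZMod 2) : ZMod 2 := (∑ i, x i * y' i) + ∑ i, x' i * y i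

theorem be_add_be (x y x' y' : Fin (m + 1) → ZMod 2) : be c x y x' y' + be c x' y' x y = bb x y x' y' := by
  simp only [be, bb]
  have : c * (x 0 * x' 0 + y 0 * y' 0) + c * (x' 0 * x 0 + y' 0 * y 0) = 0 := by
    rw [mul_comm (x' 0) (x 0), mul_comm (y' 0) (y 0)]; exact two2 _
  calc _ = (∑ i, x i * y' i) + (∑ i, x' i * y i) + (c * (x 0 * x' 0 + y 0 * y' 0) + c * (x' 0 * x 0 + y' 0 * y 0)) := by
        ring
    _ = _ := by rw [this, add_zero]

theorem comm_iff (p q : EM m c) : p * q = q * p ↔ bb p.x p.y q.x q.y = 0 := by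
  constructor
  · intro h
    have h1 := congrArg EM.a h
    simp only [mul_a] at h1
    rw [← be_add_be (c := c)]
    have h2 : be c p.x p.y q.x q.y = be c q.x q.y p.x p.y := by
      have : p.a + q.a + be c p.x p.y q.x q.y = p.a + q.a + be c q.x q.y p.x p.y := by rw [h1]; ring
      exact add_left_cancel this
    rw [h2]; exact two2 _
  · intro h
    rw [← be_add_be (c := c)] at h
    have h2 : be c p.x p.y q.x q.y = be c q.x q.y p.x p.y := by
      have h3 := congrArg (fun t => t + be c q.x q.y p.x p.y) h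
      simp only [add_assoc, two2, add_zero, zero_add] at h3
      exact h3
    ext1
    · simp [add_comm]
    · simp [add_comm]
    · simp only [mul_a, h2]; ring

theorem bb_single_y (x y : Fin (m + 1) → ZMod 2) (i : Fin (m + 1)) : bb x y 0 (Pi.single i 1) = x i := by
  simp [bb, Pi.single_apply]

theorem bb_single_x (x y : Fin (m + 1) → ZMod 2) (i : Fin (m + 1)) : bb x y (Pi.single i 1) 0 = y i := by
  simp [bb, Pi.single_apply]

theorem xs : XS (EM m c) zet := by
  have hone : ∀ a : ZMod 2, a = 0 ∨ a = 1 := by decide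
  have hz : ∀ p : EM m c, p.x = 0 → p.y = 0 → p = 1 ∨ p = zet := by
    rintro ⟨x, y, a⟩ h1 h2
    simp only at h1 h2
    subst h1 h2
    rcases hone a with rfl | rfl
    · exact Or.inl rfl
    · exact Or.inr rfl
  refine ⟨?_, ?_, ?_, ?_, ?_, ?_⟩
  · intro h
    have := congrArg EM.a h
    exact absurd this (show ¬ ((1 : ZMod 2) = 0) by decide)
  · ext1
    · simp [zet]
    · simp [zet]
    · simp only [mul_a, zet, be_zero_left, one_a]; decide
  · intro p
    rw [comm_iff]; simp [bb, zet]
  · intro p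
    rw [Subgroup.mem_center_iff]
    constructor
    · intro h
      apply hz
      · funext i
        have := h ⟨0, Pi.single i 1, 0⟩
        have h2 := (comm_iff p _).1 this.symm
        rw [bb_single_y] at h2; exact h2
      · funext i
        have := h ⟨Pi.single i 1, 0, 0⟩
        have h2 := (comm_iff p _).1 this.symm
        rw [bb_single_x] at h2; exact h2
    · rintro (rfl | rfl) q
      · simp
      · rw [comm_iff]; simp [bb, zet]
  · intro p
    apply hz
    · simp [vec2]
    · simp [vec2]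
  · intro p q
    by_cases h : p * q = q * p
    · left; exact h.symm
    · right
      rw [comm_iff] at h
      have h1 : bb p.x p.y q.x q.y = 1 := by
        rcases hone (bb p.x p.y q.x q.y) with h' | h'
        · exact absurd h' h
        · exact h'
      rw [← be_add_be (c := c)] at h1
      ext1
      · simp [zet, add_comm]
      · simp [zet, add_comm]
      · simp only [mul_a, zet, be_zero_left, mul_x, mul_y, add_zero]
        have h2 : be c q.x q.y p.x p.y = 1 + be c p.x p.y q.x q.y := by
          rw [← h1]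
          have : be c p.x p.y q.x q.y + be c q.x q.y p.x p.y + be c p.x p.y q.x q.y =
            be c q.x q.y p.x p.y + (be c p.x p.y q.x q.y + be c p.x p.y q.x q.y) := by ring
          rw [this, two2, add_zero]
        rw [h2]; ring

/-- the sign character -/
def chi (a : ZMod 2) : ℤ := if a = 0 then 1 else -1

theorem chi_add (a b : ZMod 2) : chi (a + b) = chi a * chi b := by
  revert a b; decide

theorem chi_one : chi 1 = -1 := by decide

theorem chi_zero : chi 0 = 1 := by decide

/-- the quadratic form -/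
def qf (p : EM m c) : ZMod 2 := be c p.x p.y p.x p.y

/-- the sign of the square -/
def sg (p : EM m c) : ℤ := chi (qf p)

/-- the commutator form on elements -/
def bE (p r : EM m c) : ZMod 2 := bb p.x p.y r.x r.y

theorem bE_mul_right (p r s : EM m c) : bE p (r * s) = bE p r + bE p s := by
  simp only [bE, bb, mul_x, mul_y, Pi.add_apply, mul_add, add_mul, Finset.sum_add_distrib]; ring

theorem bE_comm (p r : EM m c) : bE p r = bE r p := by
  simp only [bE, bb]; ring

theorem sg_mul (p r : EM m c) : sg (p * r) = sg p * sg r * chi (bE p r) := by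
  simp only [sg, ← chi_add]
  congr 1
  simp only [qf, bE, mul_x, mul_y, be_add_left, be_add_right, ← be_add_be (c := c)]
  ring

theorem sq_eq_one_iff (p : EM m c) : p ^ 2 = 1 ↔ qf p = 0 := by
  rw [pow_two]
  constructor
  · intro h
    have h1 := congrArg EM.a h
    simp only [mul_a, two2, zero_add, one_a] at h1
    exact h1
  · intro h
    ext1
    · simp [vec2]
    · simp [vec2]
    · simp only [mul_a, two2, zero_add, one_a]; exact h

open Classical in
theorem sum_chi (A : Subgroup (EM m c)) (p : EM m c) [Fintype (EM m c)] [Fintype A] :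
    ∑ a : A, chi (bE p a) = if (∀ a ∈ A, p * a = a * p) then (Fintype.card A : ℤ) else 0 := by
  split_ifs with h
  · have : ∀ a : A, chi (bE p a) = 1 := by
      intro a
      have := (comm_iff p a).1 (h a a.2)
      show chi (bb p.x p.y (a : EM m c).x (a : EM m c).y) = 1
      rw [this]; exact chi_zero
    rw [Finset.sum_congr rfl (fun a _ => this a)]
    simp
  · push Not at h
    obtain ⟨a0, ha0, hne⟩ := h
    have h1 : bE p a0 = 1 := by
      have key : ∀ a : ZMod 2, a ≠ 0 → a = 1 := by decide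
      exact key _ (fun h => hne ((comm_iff p a0).2 h))
    have h2 : ∑ a : A, chi (bE p a) = ∑ a : A, chi (bE p ((a * ⟨a0, ha0⟩ : A) : EM m c)) :=
      (Equiv.sum_comp (Equiv.mulRight (⟨a0, ha0⟩ : A)) (fun a : A => chi (bE p a))).symm
    have h3 : ∀ a : A, chi (bE p ((a * ⟨a0, ha0⟩ : A) : EM m c)) = - chi (bE p a) := by
      intro a
      show chi (bE p ((a : EM m c) * a0)) = _
      rw [bE_mul_right, chi_add, h1, chi_one]; ring
    rw [Finset.sum_congr rfl (fun a _ => h3 a), Finset.sum_neg_distrib] at h2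
    omega

/-- the sum of signs -/
noncomputable def T (m : ℕ) (c : ZMod 2) : ℤ :=
  letI := Fintype.ofFinite (EM m c)
  ∑ p : EM m c, sg p

open Classical in
theorem T_eq (A : Subgroup (EM m c)) (hA : ∀ a ∈ A, a ^ 2 = 1) [Fintype (EM m c)] :
    T m c = ∑ p : EM m c, if (∀ a ∈ A, p * a = a * p) then sg p else 0 := by
  have h1 : ∀ a : A, ∑ p : EM m c, sg (p * (a : EM m c)) = T m c := by
    intro a
    have := Equiv.sum_comp (Equiv.mulRight (a : EM m c)) (fun p : EM m c => sg p)
    rw [T]
    simp only [Equiv.coe_mulRight] at this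
    rw [this]
    congr!
  have h2 : ∑ a : A, ∑ p : EM m c, sg (p * (a : EM m c)) = Fintype.card A * T m c := by
    rw [Finset.sum_congr rfl (fun a _ => h1 a)]
    simp
  rw [Finset.sum_comm] at h2
  have h3 : ∀ p : EM m c, ∑ a : A, sg (p * (a : EM m c)) =
      Fintype.card A * (if (∀ a ∈ A, p * a = a * p) then sg p else 0) := by
    intro p
    have h4 : ∀ a : A, sg (p * (a : EM m c)) = sg p * chi (bE p a) := by
      intro a
      rw [sg_mul]
      have : sg (a : EM m c) = 1 := by
        rw [sg, (sq_eq_one_iff _).1 (hA a a.2)]; exact chi_zero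
      rw [this, mul_one]
    rw [Finset.sum_congr rfl (fun a _ => h4 a), ← Finset.mul_sum, sum_chi]
    split_ifs
    · ring
    · simp
  rw [Finset.sum_congr rfl (fun p _ => h3 p), ← Finset.mul_sum] at h2
  have h5 : (Fintype.card A : ℤ) ≠ 0 := by
    have : 0 < Fintype.card A := Fintype.card_pos
    omega
  exact (mul_left_cancel₀ h5 h2).symm

open Classical in
/-- `|A| |C(A)| ≤ 2 |E|` -/
theorem card_le (A : Subgroup (EM m c)) :
    Nat.card A * Nat.card (Subgroup.centralizer (A : Set (EM m c))) ≤ 2 ^ (2 * (m + 1) + 2) := by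
  letI := Fintype.ofFinite (EM m c)
  have h1 : ∑ p : EM m c, ∑ a : A, chi (bE p a) =
      Fintype.card A * Fintype.card (Subgroup.centralizer (A : Set (EM m c))) := by
    rw [Finset.sum_congr rfl (fun p _ => sum_chi A p), ← Finset.sum_filter, Finset.sum_const, nsmul_eq_mul, mul_comm]
    congr 2
    rw [Fintype.card_subtype]
    congr 1
    ext p
    simp only [Finset.mem_filter, Finset.mem_univ, true_and, Subgroup.mem_centralizer_iff, SetLike.mem_coe]
    exact ⟨fun h a ha => (h a ha).symm, fun h a ha => (h a ha).symm⟩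
  have h2 : ∀ a : A, ∑ p : EM m c, chi (bE p a) ≤ if ((a : EM m c) = 1 ∨ (a : EM m c) = zet) then
      (Fintype.card (EM m c) : ℤ) else 0 := by
    intro a
    have h3 := sum_chi (⊤ : Subgroup (EM m c)) (a : EM m c)
    have h4 : ∑ p : EM m c, chi (bE p a) = ∑ p : (⊤ : Subgroup (EM m c)), chi (bE (a : EM m c) p) := by
      symm
      apply Fintype.sum_equiv (Subgroup.topEquiv (G := EM m c)).toEquiv
      intro p
      rw [bE_comm]; rfl
    rw [h4, h3]
    have h5 : (∀ b ∈ (⊤ : Subgroup (EM m c)), (a : EM m c) * b = b * a) ↔ ((a : EM m c) = 1 ∨ (a : EM m c) = zet) := by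
      rw [← xs.center, Subgroup.mem_center_iff]
      exact ⟨fun h b => (h b trivial).symm, fun h b _ => (h b).symm⟩
    simp only [h5]
    split_ifs
    · have := Fintype.card_congr (Subgroup.topEquiv (G := EM m c)).toEquiv
      rw [this]
    · exact le_refl _
  rw [Finset.sum_comm] at h1
  have h6 := Finset.sum_le_sum (fun a (_ : a ∈ (Finset.univ : Finset A)) => h2 a)
  rw [h1, ← Finset.sum_filter, Finset.sum_const, nsmul_eq_mul] at h6
  have h7 : (Finset.univ.filter (fun a : A => (a : EM m c) = 1 ∨ (a : EM m c) = zet)).card ≤ 2 := by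
    calc (Finset.univ.filter (fun a : A => (a : EM m c) = 1 ∨ (a : EM m c) = zet)).card
        = ((Finset.univ.filter (fun a : A => (a : EM m c) = 1 ∨ (a : EM m c) = zet)).map
            ⟨fun a : A => (a : EM m c), Subtype.val_injective⟩).card := (Finset.card_map _).symm
      _ ≤ ({1, zet} : Finset (EM m c)).card := by
          apply Finset.card_le_card
          intro x hx
          simp only [Finset.mem_map, Finset.mem_filter, Finset.mem_univ, true_and, Function.Embedding.coeFn_mk] at hx
          obtain ⟨a, ha, rfl⟩ := hx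
          simpa using ha
      _ ≤ 2 := Finset.card_le_two
  have h8 : (Fintype.card (EM m c) : ℤ) = 2 ^ (2 * (m + 1) + 1) := by
    rw [← Nat.card_eq_fintype_card, card_EM]; push_cast; rfl
  rw [h8] at h6
  have h9 : (((Finset.univ.filter (fun a : A => (a : EM m c) = 1 ∨ (a : EM m c) = zet)).card : ℕ) : ℤ) ≤ 2 := by
    exact_mod_cast h7
  have h10 : (Fintype.card A : ℤ) * Fintype.card (Subgroup.centralizer (A : Set (EM m c))) ≤
      2 * 2 ^ (2 * (m + 1) + 1) := by
    refine h6.trans ?_
    exact mul_le_mul_of_nonneg_right h9 (by positivity)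
  rw [Nat.card_eq_fintype_card, Nat.card_eq_fintype_card]
  have h11 : (2 : ℤ) * 2 ^ (2 * (m + 1) + 1) = 2 ^ (2 * (m + 1) + 2) := by ring
  rw [h11] at h10
  exact_mod_cast h10

/-- the standard totally singular subgroup `y = 0`, `x` in the kernel of `c x 0` -/
def A0 (m : ℕ) (c : ZMod 2) : Subgroup (EM m c) where
  carrier := {p | p.y = 0 ∧ c * p.x 0 = 0}
  one_mem' := ⟨rfl, by simp⟩
  mul_mem' := by
    rintro p r ⟨h1, h2⟩ ⟨h3, h4⟩
    refine ⟨by rw [mul_y, h1, h3, add_zero], ?_⟩
    rw [mul_x, Pi.add_apply, mul_add, h2, h4, add_zero]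
  inv_mem' := by
    rintro p ⟨h1, h2⟩
    exact ⟨h1, h2⟩

theorem A0_qf {p : EM m c} (hp : p ∈ A0 m c) : qf p = 0 := by
  obtain ⟨h1, h2⟩ := hp
  simp only [qf, be, h1]
  simp only [Pi.zero_apply, mul_zero, Finset.sum_const_zero, zero_add, add_zero]
  rw [← mul_assoc, h2, zero_mul]

theorem A0_elem : IsElementaryAbelian 2 (A0 m c) := by
  have hsq : ∀ p ∈ A0 m c, p ^ 2 = 1 := fun p hp => (sq_eq_one_iff p).2 (A0_qf hp)
  refine ⟨?_, hsq⟩
  constructor
  constructor
  rintro ⟨p, hp⟩ ⟨r, hr⟩
  apply Subtype.ext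
  show p * r = r * p
  rw [comm_iff, bb, hp.1, hr.1]
  simp

theorem centralizer_A0 {p : EM m 0} (hp : ∀ a ∈ A0 m 0, p * a = a * p) : p ∈ A0 m 0 := by
  refine ⟨?_, by simp⟩
  funext i
  have h1 := hp ⟨Pi.single i 1, 0, 0⟩ ⟨rfl, by simp⟩
  rw [comm_iff, bb_single_x] at h1
  exact h1

theorem T_zero_pos : 0 < T m 0 := by
  classical
  letI := Fintype.ofFinite (EM m 0)
  rw [T_eq (A0 m 0) (fun a ha => (sq_eq_one_iff a).2 (A0_qf ha))]
  apply Finset.sum_pos'
  · intro p _
    split_ifs with h
    · rw [sg, A0_qf (centralizer_A0 h)]; decide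
    · exact le_refl _
  · refine ⟨1, Finset.mem_univ _, ?_⟩
    rw [if_pos (fun a _ => by simp)]
    rw [sg, A0_qf (Subgroup.one_mem _)]; decide

/-- the translation -/
def tr : EM m 1 ≃ EM m 0 where
  toFun p := ⟨p.x + Pi.single 0 1, p.y + Pi.single 0 1, p.a⟩
  invFun p := ⟨p.x + Pi.single 0 1, p.y + Pi.single 0 1, p.a⟩
  left_inv p := by
    ext1
    · show p.x + Pi.single 0 1 + Pi.single 0 1 = p.x
      rw [add_assoc, vec2, add_zero]
    · show p.y + Pi.single 0 1 + Pi.single 0 1 = p.y
      rw [add_assoc, vec2, add_zero]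
    · rfl
  right_inv p := by
    ext1
    · show p.x + Pi.single 0 1 + Pi.single 0 1 = p.x
      rw [add_assoc, vec2, add_zero]
    · show p.y + Pi.single 0 1 + Pi.single 0 1 = p.y
      rw [add_assoc, vec2, add_zero]
    · rfl

theorem sg_tr (p : EM m 1) : sg (tr p) = - sg p := by
  have h1 : qf (tr p) = qf p + 1 := by
    have e : ∀ a : ZMod 2, a * a = a := by decide
    have h2 : ∀ x y : Fin (m + 1) → ZMod 2, ∑ i, (x i + (Pi.single 0 1 : Fin (m + 1) → ZMod 2) i) *
        (y i + (Pi.single 0 1 : Fin (m + 1) → ZMod 2) i) = (∑ i, x i * y i) + (x 0 + y 0 + 1) := by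
      intro x y
      simp only [add_mul, mul_add, Finset.sum_add_distrib, Pi.single_apply]
      simp
      ring
    simp only [qf, be, tr, Equiv.coe_fn_mk, Pi.add_apply, h2, e]
    ring
  rw [sg, h1, chi_add, chi_one, sg]; ring

theorem T_one_neg : T m 1 < 0 := by
  have h : T m 0 = - T m 1 := by
    unfold T
    rw [← Finset.sum_neg_distrib]
    symm
    letI := Fintype.ofFinite (EM m 0)
    letI := Fintype.ofFinite (EM m 1)
    exact Fintype.sum_equiv tr _ _ (fun p => (sg_tr p).symm)
  have := T_zero_pos (m := m)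
  omega

theorem A_le_centralizer {A : Subgroup (EM m c)} (hA : IsElementaryAbelian 2 A) :
    A ≤ Subgroup.centralizer (A : Set (EM m c)) := by
  intro a ha
  rw [Subgroup.mem_centralizer_iff]
  intro b hb
  exact congrArg Subtype.val (hA.1.1.1 ⟨b, hb⟩ ⟨a, ha⟩)

theorem rank_le {A : Subgroup (EM m c)} (hA : IsElementaryAbelian 2 A) {k : ℕ} (hk : Nat.card A = 2 ^ k) :
    k ≤ m + 2 := by
  have h1 := card_le A
  have h2 : Nat.card A ≤ Nat.card (Subgroup.centralizer (A : Set (EM m c))) :=
    Subgroup.card_le_of_le (A_le_centralizer hA)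
  have h3 : Nat.card A * Nat.card A ≤ 2 ^ (2 * (m + 1) + 2) := (Nat.mul_le_mul_left _ h2).trans h1
  rw [hk, ← pow_add] at h3
  have := (Nat.pow_le_pow_iff_right (by norm_num : 1 < 2)).1 h3
  omega

theorem rank_le_one {A : Subgroup (EM m 1)} (hA : IsElementaryAbelian 2 A) {k : ℕ} (hk : Nat.card A = 2 ^ k) :
    k ≤ m + 1 := by
  by_contra hcon
  have hk2 : k = m + 2 := by
    have := rank_le hA hk
    omega
  subst hk2
  have h1 := card_le A
  have hle := A_le_centralizer hA
  have h4 : Subgroup.centralizer (A : Set (EM m 1)) = A := by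
    symm
    apply Subgroup.eq_of_le_of_card_ge hle
    rw [hk] at h1 ⊢
    have h5 : 2 ^ (m + 2) * Nat.card (Subgroup.centralizer (A : Set (EM m 1))) ≤ 2 ^ (m + 2) * 2 ^ (m + 2) := by
      refine h1.trans (le_of_eq ?_)
      rw [← pow_add]; congr 1; ring
    exact Nat.le_of_mul_le_mul_left h5 (by positivity)
  have h6 : 0 ≤ T m 1 := by
    classical
    letI := Fintype.ofFinite (EM m 1)
    rw [T_eq A hA.2]
    apply Finset.sum_nonneg
    intro p _
    split_ifs with h
    · have hp : p ∈ A := by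
        rw [← h4, Subgroup.mem_centralizer_iff]
        exact fun a ha => (h a ha).symm
      rw [sg, (sq_eq_one_iff p).1 (hA.2 p hp)]; decide
    · exact le_refl _
  have := T_one_neg (m := m)
  omega

theorem card_A0_zero : Nat.card (A0 m 0) = 2 ^ (m + 2) := by
  have e : A0 m 0 ≃ (Fin (m + 1) → ZMod 2) × ZMod 2 :=
    { toFun := fun p => (p.1.x, p.1.a)
      invFun := fun p => ⟨⟨p.1, 0, p.2⟩, rfl, by simp⟩
      left_inv := by
        rintro ⟨⟨x, y, a⟩, h1, h2⟩
        simp only at h1
        subst h1; rfl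
      right_inv := fun _ => rfl }
  rw [Nat.card_congr e, Nat.card_prod]
  simp only [Nat.card_eq_fintype_card, Fintype.card_fun, ZMod.card, Fintype.card_fin]
  ring

theorem card_A0_one : Nat.card (A0 m 1) = 2 ^ (m + 1) := by
  have e : A0 m 1 ≃ (Fin m → ZMod 2) × ZMod 2 :=
    { toFun := fun p => (fun i => p.1.x i.succ, p.1.a)
      invFun := fun p => ⟨⟨Fin.cons 0 p.1, 0, p.2⟩, rfl, by simp⟩
      left_inv := by
        rintro ⟨⟨x, y, a⟩, h1, h2⟩
        simp only at h1 h2
        subst h1
        rw [one_mul] at h2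
        apply Subtype.ext
        ext1
        · funext i
          refine Fin.cases ?_ ?_ i
          · simp [h2]
          · intro j; simp
        · rfl
        · rfl
      right_inv := by
        rintro ⟨x, a⟩
        simp }
  rw [Nat.card_congr e, Nat.card_prod]
  simp only [Nat.card_eq_fintype_card, Fintype.card_fun, ZMod.card, Fintype.card_fin]
  ring

theorem extraspecial : IsExtraspecial 2 (EM m c) := by
  refine H91.XSExtra.extraspecial_of_XS (IsPGroup.of_card (n := 2 * (m + 1) + 1) card_EM) (xs (m := m) (c := c)) ?_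
  refine ⟨⟨Pi.single 0 1, 0, 0⟩, ⟨0, Pi.single 0 1, 0⟩, ?_⟩
  rw [Ne, comm_iff, bb_single_y]
  simp

theorem sSup_rank_zero : sSup {k : ℕ | ∃ A : Subgroup (EM m 0), IsElementaryAbelian 2 A ∧ Nat.card A = 2 ^ k} = m + 2 := by
  apply IsGreatest.csSup_eq
  exact ⟨⟨A0 m 0, A0_elem, card_A0_zero⟩, fun k ⟨A, hA, hk⟩ => rank_le hA hk⟩

theorem sSup_rank_one : sSup {k : ℕ | ∃ A : Subgroup (EM m 1), IsElementaryAbelian 2 A ∧ Nat.card A = 2 ^ k} = m + 1 := by
  apply IsGreatest.csSup_eq
  exact ⟨⟨A0 m 1, A0_elem, card_A0_one⟩, fun k ⟨A, hA, hk⟩ => rank_le_one hA hk⟩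

end H91.ExtModel
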