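import Cfsg.Agent.Lib.H91.TransvCent

/-!
The split extension of an elementary abelian 2-group by its full automorphism group.
-/

set_option autoImplicit false

namespace H91.Holomorph

open Cfsg Matrix H91.MonsterForm H91.ExtModel H91.TransvCent H91.LargeAbs

abbrev V (k : ℕ) := Fin k → ZMod 2

variable {m : ℕ}

/-- affine matrices -/
def aff (w : V (m + 1)) (M : Mt (m + 1)) : Mt (m + 2) :=
  blk (w 0) (fun j => M 0 j.succ) (fun i => w i.succ) (M.submatrix Fin.succ Fin.succ)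

/-- first column is `e_0` -/
def Col (M : Mt (m + 1)) : Prop := M 0 0 = 1 ∧ ∀ i : Fin m, M i.succ 0 = 0

theorem col_iff (M : Mt (m + 1)) : Col M ↔ M *ᵥ Pi.single 0 1 = Pi.single 0 1 := by
  rw [Matrix.mulVec_single_one]
  constructor
  · intro h
    funext i
    refine Fin.cases ?_ (fun i => ?_) i
    · simp [h.1]
    · simp [h.2 i]
  · intro h
    constructor
    · have := congrFun h 0; simpa using this
    · intro i
      have := congrFun h i.succ; simpa using this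

theorem aff_mul {w w' : V (m + 1)} {M M' : Mt (m + 1)} (h : Col M) (h' : Col M') :
    aff w M * aff w' M' = aff (w + M *ᵥ w') (M * M') := by
  rw [aff, aff, blk_mul, aff]
  congr 1
  · have e1 : (M *ᵥ w') 0 = ∑ k, M 0 k * w' k := rfl
    rw [Pi.add_apply, e1, Fin.sum_univ_succ, h.1, one_mul, ← add_assoc]; rfl
  · funext j
    rw [Matrix.mul_apply, Fin.sum_univ_succ, h.1, one_mul]; rfl
  · funext i
    rw [Pi.add_apply, Pi.add_apply, Matrix.mulVec, Matrix.mulVec, dotProduct, dotProduct, Fin.sum_univ_succ, h.2 i,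
      zero_mul, zero_add]
    rfl
  · ext i j
    rw [Matrix.mul_apply, Matrix.submatrix_apply, Matrix.mul_apply, Fin.sum_univ_succ, h.2 i, zero_mul, zero_add]
    rfl

theorem aff_one : aff (0 : V (m + 1)) 1 = 1 := by
  rw [← blk_one, aff]
  have h1 : (fun j : Fin m => (1 : Mt (m + 1)) 0 j.succ) = 0 := by
    funext j; rw [Matrix.one_apply_ne (Fin.succ_ne_zero _).symm]; rfl
  have h2 : (1 : Mt (m + 1)).submatrix Fin.succ Fin.succ = (1 : Mt m) := by
    ext i j; rw [Matrix.submatrix_apply, Matrix.one_apply, Matrix.one_apply]; simp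
  rw [h1, h2]; rfl

theorem aff_inj {w w' : V (m + 1)} {M M' : Mt (m + 1)} (h : Col M) (h' : Col M') (he : aff w M = aff w' M') :
    w = w' ∧ M = M' := by
  obtain ⟨h1, h2, h3, h4⟩ := blk_inj he
  constructor
  · funext i
    refine Fin.cases h1 (fun i => ?_) i
    exact congrFun h3 i
  · ext i j
    refine Fin.cases ?_ (fun i => ?_) i
    · refine Fin.cases ?_ (fun j => ?_) j
      · rw [h.1, h'.1]
      · exact congrFun h2 j
    · refine Fin.cases ?_ (fun j => ?_) j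
      · rw [h.2, h'.2]
      · exact congrFun (congrFun h4 i) j

theorem col_one : Col (1 : Mt (m + 1)) := by
  rw [col_iff, Matrix.one_mulVec]

theorem col_mul {M M' : Mt (m + 1)} (h : Col M) (h' : Col M') : Col (M * M') := by
  rw [col_iff] at *
  rw [← Matrix.mulVec_mulVec, h', h]

/-- every block matrix is affine -/
theorem exists_aff {g : Mt (m + 2)} (hg : IsB g) : ∃ w M, Col M ∧ g = aff w M := by
  refine ⟨Fin.cons (g 0 1) (fun i => g i.succ.succ 1),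
    fun i j => Fin.cases (Fin.cases 1 (fun j => g 0 j.succ.succ) j)
      (fun i => Fin.cases 0 (fun j => g i.succ.succ j.succ.succ) j) i, ⟨rfl, fun i => rfl⟩, ?_⟩
  exact hg

/-- coordinates on an elementary abelian group with a prescribed first basis vector -/
theorem exists_coord {U : Type*} [Group U] [Finite U] (hc : ∀ a b : U, a * b = b * a) (h2 : ∀ a : U, a ^ 2 = 1)
    (hcard : Nat.card U = 2 ^ (m + 1)) (z : U) (hz : z ≠ 1) :
    ∃ ε : U ≃ V (m + 1), (∀ a b, ε (a * b) = ε a + ε b) ∧ ε z = Pi.single 0 1 := by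
  letI : CommGroup U := { (inferInstance : Group U) with mul_comm := hc }
  letI : Module (ZMod 2) (Additive U) := AddCommGroup.zmodModule (n := 2) (fun x => by
    have : (Additive.toMul x) ^ 2 = 1 := h2 _
    exact this)
  haveI : Finite (Additive U) := inferInstanceAs (Finite U)
  haveI : Module.Finite (ZMod 2) (Additive U) := Module.Finite.of_finite
  have hfr : Module.finrank (ZMod 2) (Additive U) = m + 1 := by
    have h1 := Module.natCard_eq_pow_finrank (K := ZMod 2) (V := Additive U)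
    have h3 : Nat.card (Additive U) = 2 ^ (m + 1) := hcard
    rw [h3, Nat.card_eq_fintype_card, ZMod.card] at h1
    exact (Nat.pow_right_injective (le_refl 2) h1).symm
  let b := (Module.finBasisOfFinrankEq (ZMod 2) (Additive U) hfr)
  let e1 : Additive U ≃ₗ[ZMod 2] V (m + 1) := b.equivFun
  have hz0 : e1 (Additive.ofMul z) ≠ 0 := by
    intro h
    have := (LinearEquiv.map_eq_zero_iff e1).1 h
    exact hz this
  have hs : (Pi.single 0 1 : V (m + 1)) ≠ 0 := by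
    intro h; have := congrFun h 0; simp at this
  obtain ⟨g, hg⟩ := H50.Tv.exists_GL_mulVec_eq (F := ZMod 2) hz0 hs
  have hgg : (g : Mt (m + 1)) * ((g⁻¹ : GL (Fin (m + 1)) (ZMod 2)) : Mt (m + 1)) = 1 := by
    rw [← Units.val_mul, mul_inv_cancel]; rfl
  have hgg' : ((g⁻¹ : GL (Fin (m + 1)) (ZMod 2)) : Mt (m + 1)) * (g : Mt (m + 1)) = 1 := by
    rw [← Units.val_mul, inv_mul_cancel]; rfl
  let ε : U ≃ V (m + 1) :=
    { toFun := fun u => (g : Mt (m + 1)) *ᵥ (e1 (Additive.ofMul u))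
      invFun := fun v => Additive.toMul (e1.symm (((g⁻¹ : GL (Fin (m + 1)) (ZMod 2)) : Mt (m + 1)) *ᵥ v))
      left_inv := fun u => by
        show Additive.toMul (e1.symm (((g⁻¹ : GL (Fin (m + 1)) (ZMod 2)) : Mt (m + 1)) *ᵥ
          ((g : Mt (m + 1)) *ᵥ (e1 (Additive.ofMul u))))) = u
        rw [Matrix.mulVec_mulVec, hgg', Matrix.one_mulVec, LinearEquiv.symm_apply_apply]; rfl
      right_inv := fun v => by
        show (g : Mt (m + 1)) *ᵥ (e1 (e1.symm _)) = v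
        rw [LinearEquiv.apply_symm_apply, Matrix.mulVec_mulVec, hgg, Matrix.one_mulVec] }
  refine ⟨ε, ?_, hg⟩
  intro x y
  show (g : Mt (m + 1)) *ᵥ (e1 (Additive.ofMul (x * y))) = _
  have : Additive.ofMul (x * y) = Additive.ofMul x + Additive.ofMul y := rfl
  rw [this, map_add, Matrix.mulVec_add]
  rfl

section hol

variable {G : Type*} [Group G] [Finite G] {U M : Subgroup G}

/-- the data: coordinates, the representation, and the cocycle -/
structure Dat (U M : Subgroup G) (z : G) (m : ℕ) where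
  ε : U ≃ V (m + 1)
  ε_mul : ∀ a b, ε (a * b) = ε a + ε b
  zU : z ∈ U
  ε_z : ε ⟨z, zU⟩ = Pi.single 0 1
  P : G → Mt (m + 1)
  P_ε : ∀ (g : G) (u u' : U), (u' : G) = g * u * g⁻¹ → P g *ᵥ ε u = ε u'
  k : G → U
  k_mem : ∀ g : G, (k g : G)⁻¹ * g ∈ M
  k_mul : ∀ g h : G, (k (g * h) : G) = k g * (g * k h * g⁻¹)

theorem exists_dat {m : ℕ} (hn : U.Normal) (hc : ∀ a ∈ U, ∀ b ∈ U, a * b = b * a) (h2 : ∀ a ∈ U, a ^ 2 = 1)
    (hcard : Nat.card U = 2 ^ (m + 1)) (hUM : U ⊓ M = ⊥) (hUM' : U ⊔ M = ⊤) {z : G} (hzU : z ∈ U) (hz1 : z ≠ 1) :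
    Nonempty (Dat U M z m) := by
  obtain ⟨ε, hε, hεz⟩ := exists_coord (U := U) (fun a b => Subtype.ext (hc a a.2 b b.2))
    (fun a => Subtype.ext (h2 a a.2)) hcard ⟨z, hzU⟩ (fun h => hz1 (congrArg Subtype.val h))
  have hε0 : ε 1 = 0 := by
    have := hε 1 1
    rw [mul_one] at this
    exact (left_eq_add.1 this)
  have hdec : ∀ g : G, ∃ u : U, (u : G)⁻¹ * g ∈ M := by
    intro g
    have hg : g ∈ U ⊔ M := by rw [hUM']; trivial
    obtain ⟨u, hu, w, hw, rfl⟩ := Subgroup.mem_sup_of_normal_left.1 hg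
    exact ⟨⟨u, hu⟩, by simpa using hw⟩
  choose k hk using hdec
  have huniq : ∀ (g : G) (u u' : U), (u : G)⁻¹ * g ∈ M → (u' : G)⁻¹ * g ∈ M → (u : G) = u' := by
    intro g u u' h1 h3
    have h4 : (u' : G)⁻¹ * u ∈ U ⊓ M := by
      refine ⟨U.mul_mem (U.inv_mem u'.2) u.2, ?_⟩
      have := M.mul_mem h3 (M.inv_mem h1)
      have e : (u' : G)⁻¹ * g * ((u : G)⁻¹ * g)⁻¹ = (u' : G)⁻¹ * u := by group
      rwa [e] at this
    rw [hUM, Subgroup.mem_bot, inv_mul_eq_one] at h4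
    exact h4.symm
  let cj : G → (V (m + 1) →+ V (m + 1)) := fun g =>
    AddMonoidHom.mk' (fun v => ε ⟨g * (ε.symm v : G) * g⁻¹, hn.conj_mem _ (ε.symm v).2 g⟩) (by
      intro v w
      rw [← hε]
      congr 1
      apply Subtype.ext
      have h3 : ε.symm (v + w) = ε.symm v * ε.symm w := by
        rw [Equiv.symm_apply_eq, hε, Equiv.apply_symm_apply, Equiv.apply_symm_apply]
      show g * (ε.symm (v + w) : G) * g⁻¹ = (g * (ε.symm v : G) * g⁻¹) * (g * (ε.symm w : G) * g⁻¹)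
      rw [h3]
      show g * ((ε.symm v : G) * (ε.symm w : G)) * g⁻¹ = _
      group)
  refine ⟨⟨ε, hε, hzU, hεz, fun g => LinearMap.toMatrix' ((cj g).toZModLinearMap 2), ?_, k, hk, ?_⟩⟩
  · intro g u u' huu
    rw [LinearMap.toMatrix'_mulVec]
    show ε ⟨g * (ε.symm (ε u) : G) * g⁻¹, _⟩ = ε u'
    congr 1
    apply Subtype.ext
    show g * (ε.symm (ε u) : G) * g⁻¹ = u'
    rw [Equiv.symm_apply_apply, huu]
  · intro g h
    refine huniq (g * h) (k (g * h)) (k g * ⟨g * k h * g⁻¹, hn.conj_mem _ (k h).2 g⟩) (hk _) ?_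
    show ((k g : G) * (g * k h * g⁻¹))⁻¹ * (g * h) ∈ M
    have h3 : (k g : G) * (g * k h * g⁻¹) = (g * k h * g⁻¹) * k g :=
      hc _ (k g).2 _ (hn.conj_mem _ (k h).2 g)
    have h4 : ((k g : G) * (g * k h * g⁻¹))⁻¹ * (g * h) = ((k g : G)⁻¹ * g) * ((k h : G)⁻¹ * h) := by
      rw [h3]; group
    rw [h4]
    exact M.mul_mem (hk g) (hk h)

variable {z : G} {m : ℕ} (D : Dat U M z (m + 1))

include D in
theorem ε_one : D.ε 1 = 0 := by
  have := D.ε_mul 1 1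
  rw [mul_one] at this
  exact (left_eq_add.1 this)

theorem P_one : D.P 1 = 1 := by
  have : ∀ v, D.P 1 *ᵥ v = v := by
    intro v
    have := D.P_ε 1 (D.ε.symm v) (D.ε.symm v) (by group)
    simpa using this
  ext i j
  have h3 := congrFun (this (Pi.single j 1)) i
  rw [Matrix.mulVec_single_one] at h3
  rw [show D.P 1 i j = (D.P 1).col j i from rfl, h3]
  simp [Pi.single_apply, Matrix.one_apply]

theorem mat_ext {A B : Mt (m + 1)} (h : ∀ v, A *ᵥ v = B *ᵥ v) : A = B := by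
  ext i j
  have h3 := congrFun (h (Pi.single j 1)) i
  rw [Matrix.mulVec_single_one, Matrix.mulVec_single_one] at h3
  exact h3

theorem P_mul (hn : U.Normal) (g h : G) : D.P (g * h) = D.P g * D.P h := by
  apply mat_ext
  intro v
  set u := D.ε.symm v with hu
  have hv : v = D.ε u := by rw [hu, Equiv.apply_symm_apply]
  rw [hv, ← Matrix.mulVec_mulVec]
  rw [D.P_ε h u ⟨h * u * h⁻¹, hn.conj_mem _ u.2 h⟩ rfl,
    D.P_ε g _ ⟨g * (h * u * h⁻¹) * g⁻¹, hn.conj_mem _ (hn.conj_mem _ u.2 h) g⟩ rfl,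
    D.P_ε (g * h) u ⟨g * (h * u * h⁻¹) * g⁻¹, hn.conj_mem _ (hn.conj_mem _ u.2 h) g⟩ (by
      show g * (h * u * h⁻¹) * g⁻¹ = g * h * u * (g * h)⁻¹
      group)]

theorem P_col {g : G} (hg : g * z = z * g) : Col (D.P g) := by
  rw [col_iff, ← D.ε_z]
  apply D.P_ε
  show z = g * z * g⁻¹
  rw [hg]; group

variable {C : Subgroup G} (hC : ∀ g, g ∈ C ↔ g * z = z * g)

/-- the matrix of an element of `C` -/
def Ph (c : C) : Mt (m + 1 + 2) := aff (D.ε (D.k c)) (D.P c)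

include hC in
theorem Ph_mul (hn : U.Normal) (c d : C) : Ph D (c * d) = Ph D c * Ph D d := by
  have h1 := P_col D ((hC c).1 c.2)
  have h2 := P_col D ((hC d).1 d.2)
  rw [Ph, Ph, Ph, aff_mul h1 h2]
  have h3 : D.P ((c * d : C) : G) = D.P c * D.P d := P_mul D hn c d
  rw [h3]
  congr 1
  rw [D.P_ε c (D.k d) ⟨c * D.k d * (c : G)⁻¹, hn.conj_mem _ (D.k d).2 c⟩ rfl, ← D.ε_mul]
  congr 1
  apply Subtype.ext
  exact D.k_mul c d

theorem k_eq (hUM : U ⊓ M = ⊥) {g : G} {u : U} (h : (u : G)⁻¹ * g ∈ M) : D.k g = u := by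
  have h4 : (u : G)⁻¹ * D.k g ∈ U ⊓ M := by
    refine ⟨U.mul_mem (U.inv_mem u.2) (D.k g).2, ?_⟩
    have := M.mul_mem h (M.inv_mem (D.k_mem g))
    have e : (u : G)⁻¹ * g * ((D.k g : G)⁻¹ * g)⁻¹ = (u : G)⁻¹ * D.k g := by group
    rwa [e] at this
  rw [hUM, Subgroup.mem_bot, inv_mul_eq_one] at h4
  exact Subtype.ext h4.symm

/-- the standard transvection -/
def z1 : SL (m + 1 + 2) := el 1 0 0 1

theorem hz1 : ((z1 : SL (m + 1 + 2)) : Mt (m + 1 + 2)) = Matrix.transvection 0 1 1 := by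
  rw [transv_eq]; rfl

theorem hC1 : ∀ g : SL (m + 1 + 2), g ∈ Subgroup.centralizer ({z1} : Set (SL (m + 1 + 2))) ↔ g * z1 = z1 * g :=
  fun _ => Subgroup.mem_centralizer_singleton_iff

theorem Ph_one (hUM : U ⊓ M = ⊥) : Ph D (1 : C) = 1 := by
  rw [Ph]
  have h1 : D.k ((1 : C) : G) = 1 := k_eq D hUM (by
    have : ((1 : U) : G)⁻¹ * ((1 : C) : G) = 1 := by simp
    rw [this]; exact M.one_mem)
  have h2 : D.P ((1 : C) : G) = 1 := P_one D
  rw [h1, h2, ε_one D, aff_one]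

/-- the homomorphism to the centralizer of a transvection -/
def Phi (hn : U.Normal) (hUM : U ⊓ M = ⊥) : C →* Subgroup.centralizer ({z1} : Set (SL (m + 1 + 2))) where
  toFun c := ⟨⟨Ph D c, det_eq_one_of_mul (B := Ph D c⁻¹) (by
      rw [← Ph_mul D hC hn, mul_inv_cancel, Ph_one D hUM])⟩, (hC1 _).2 ((mem_C_iff hz1 _).2 (isB_blk _ _ _ _))⟩
  map_one' := Subtype.ext (Subtype.ext (Ph_one D hUM))
  map_mul' c d := Subtype.ext (Subtype.ext (Ph_mul D hC hn c d))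

theorem Phi_coe (hn : U.Normal) (hUM : U ⊓ M = ⊥) (c : C) :
    (((Phi D hC hn hUM c : Subgroup.centralizer ({z1} : Set (SL (m + 1 + 2)))) : SL (m + 1 + 2)) : Mt (m + 1 + 2)) =
      Ph D c := rfl

theorem conj_trivial_of_P {g : G} (hn : U.Normal) (h : D.P g = 1) (u : U) : g * u * g⁻¹ = u := by
  have h1 := D.P_ε g u ⟨g * u * g⁻¹, hn.conj_mem _ u.2 g⟩ rfl
  rw [h, Matrix.one_mulVec] at h1
  exact (congrArg Subtype.val (D.ε.injective h1)).symm

theorem Phi_inj (hn : U.Normal) (hUM : U ⊓ M = ⊥) (hfaith : ∀ x ∈ M, (∀ u ∈ U, x * u * x⁻¹ = u) → x = 1) :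
    Function.Injective (Phi D hC hn hUM) := by
  rw [injective_iff_map_eq_one]
  intro c hc
  have h1 : Ph D c = 1 := by
    rw [← Phi_coe D hC hn hUM, hc]; rfl
  rw [Ph, ← aff_one] at h1
  obtain ⟨h2, h3⟩ := aff_inj (P_col D ((hC c).1 c.2)) col_one h1
  have h4 : D.k (c : G) = 1 := by
    apply D.ε.injective
    rw [h2, ε_one D]
  have h5 : (c : G) ∈ M := by
    have := D.k_mem c
    rw [h4] at this
    simpa using this
  apply Subtype.ext
  exact hfaith c h5 (fun u hu => conj_trivial_of_P D hn h3 ⟨u, hu⟩)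

theorem P_of_mem (hn : U.Normal) (hc : ∀ a ∈ U, ∀ b ∈ U, a * b = b * a) (u : U) : D.P u = 1 := by
  apply mat_ext
  intro v
  rw [Matrix.one_mulVec]
  have := D.P_ε u (D.ε.symm v) (D.ε.symm v) (by rw [hc u u.2 _ (D.ε.symm v).2]; group)
  simpa using this

theorem Phi_surj (hn : U.Normal) (hUM : U ⊓ M = ⊥) (hc : ∀ a ∈ U, ∀ b ∈ U, a * b = b * a)
    (hfull : ∀ φ : ↥U ≃* ↥U, ∃ x ∈ M, ∀ u : ↥U, ((φ u : ↥U) : G) = x * u * x⁻¹) :
    Function.Surjective (Phi D hC hn hUM) := by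
  intro g1
  obtain ⟨w, A, hA, hg⟩ := exists_aff (isB_of_mem hz1 hC1 g1)
  obtain ⟨w', A', hA', hg'⟩ := exists_aff (isB_of_mem hz1 hC1 g1⁻¹)
  have hgg : ((g1 : SL (m + 1 + 2)) : Mt (m + 1 + 2)) * (((g1⁻¹ : _) : SL (m + 1 + 2)) : Mt (m + 1 + 2)) = 1 :=
    congrArg (fun x : Subgroup.centralizer ({z1} : Set (SL (m + 1 + 2))) => ((x : SL (m + 1 + 2)) : Mt (m + 1 + 2)))
      (mul_inv_cancel g1)
  have hgg' : (((g1⁻¹ : _) : SL (m + 1 + 2)) : Mt (m + 1 + 2)) * ((g1 : SL (m + 1 + 2)) : Mt (m + 1 + 2)) = 1 :=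
    congrArg (fun x : Subgroup.centralizer ({z1} : Set (SL (m + 1 + 2))) => ((x : SL (m + 1 + 2)) : Mt (m + 1 + 2)))
      (inv_mul_cancel g1)
  have hgi : (((g1⁻¹ : _) : SL (m + 1 + 2)) : Mt (m + 1 + 2)) = aff w' A' := hg'
  rw [hg, hgi, aff_mul hA hA', ← aff_one] at hgg
  rw [hg, hgi, aff_mul hA' hA, ← aff_one] at hgg'
  have h1 := (aff_inj (col_mul hA hA') col_one hgg).2
  have h2 := (aff_inj (col_mul hA' hA) col_one hgg').2
  let φ : ↥U ≃* ↥U :=
    { toFun := fun u => D.ε.symm (A *ᵥ D.ε u)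
      invFun := fun u => D.ε.symm (A' *ᵥ D.ε u)
      left_inv := fun u => by
        show D.ε.symm (A' *ᵥ D.ε (D.ε.symm (A *ᵥ D.ε u))) = u
        rw [Equiv.apply_symm_apply, Matrix.mulVec_mulVec, h2, Matrix.one_mulVec, Equiv.symm_apply_apply]
      right_inv := fun u => by
        show D.ε.symm (A *ᵥ D.ε (D.ε.symm (A' *ᵥ D.ε u))) = u
        rw [Equiv.apply_symm_apply, Matrix.mulVec_mulVec, h1, Matrix.one_mulVec, Equiv.symm_apply_apply]
      map_mul' := fun a b => by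
        show D.ε.symm (A *ᵥ D.ε (a * b)) = D.ε.symm (A *ᵥ D.ε a) * D.ε.symm (A *ᵥ D.ε b)
        rw [Equiv.symm_apply_eq, D.ε_mul, D.ε_mul, Equiv.apply_symm_apply, Equiv.apply_symm_apply, Matrix.mulVec_add] }
  obtain ⟨x, hx, hxφ⟩ := hfull φ
  have hPx : D.P x = A := by
    apply mat_ext
    intro v
    have h3 := D.P_ε x (D.ε.symm v) (φ (D.ε.symm v)) (hxφ _)
    rw [Equiv.apply_symm_apply] at h3
    rw [h3]
    show D.ε (D.ε.symm (A *ᵥ D.ε (D.ε.symm v))) = _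
    rw [Equiv.apply_symm_apply, Equiv.apply_symm_apply]
  set u0 := D.ε.symm w with hu0
  have hPg : D.P ((u0 : G) * x) = A := by
    rw [P_mul D hn, P_of_mem D hn hc, one_mul, hPx]
  have hgC : (u0 : G) * x ∈ C := by
    rw [hC]
    have h3 := D.P_ε ((u0 : G) * x) ⟨z, D.zU⟩ ⟨(u0 : G) * x * z * ((u0 : G) * x)⁻¹, hn.conj_mem _ D.zU _⟩ rfl
    rw [hPg, D.ε_z, (col_iff A).1 hA, ← D.ε_z] at h3
    have h4 := congrArg Subtype.val (D.ε.injective h3)
    have h5 : z = (u0 : G) * x * z * ((u0 : G) * x)⁻¹ := h4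
    nth_rewrite 2 [h5]
    group
  refine ⟨⟨(u0 : G) * x, hgC⟩, Subtype.ext (Subtype.ext ?_)⟩
  rw [Phi_coe, hg, Ph]
  have h6 : D.k ((u0 : G) * x) = u0 := k_eq D hUM (by
    have : (u0 : G)⁻¹ * ((u0 : G) * x) = x := by group
    rw [this]; exact hx)
  show aff (D.ε (D.k ((u0 : G) * x))) (D.P ((u0 : G) * x)) = aff w A
  rw [h6, hPg, hu0, Equiv.apply_symm_apply]

theorem Phi_z (hn : U.Normal) (hUM : U ⊓ M = ⊥) (hc : ∀ a ∈ U, ∀ b ∈ U, a * b = b * a) (hz : z ∈ C) :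
    (Phi D hC hn hUM ⟨z, hz⟩ : SL (m + 1 + 2)) = z1 := by
  apply Subtype.ext
  rw [Phi_coe, Ph]
  have h1 : D.k z = ⟨z, D.zU⟩ := k_eq D hUM (by
    have : ((⟨z, D.zU⟩ : U) : G)⁻¹ * z = 1 := inv_mul_cancel z
    rw [this]; exact M.one_mem)
  have h2 : D.P z = 1 := P_of_mem D hn hc ⟨z, D.zU⟩
  show aff (D.ε (D.k z)) (D.P z) = blk 1 0 0 ((1 : SL (m + 1)) : Mt (m + 1))
  rw [h1, h2, D.ε_z]
  have e1 : ((1 : SL (m + 1)) : Mt (m + 1)) = 1 := rfl
  rw [e1, aff]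
  have h3 : (fun j : Fin (m + 1) => (1 : Mt (m + 1 + 1)) 0 j.succ) = 0 := by
    funext j; rw [Matrix.one_apply_ne (Fin.succ_ne_zero _).symm]; rfl
  have h4 : (1 : Mt (m + 1 + 1)).submatrix Fin.succ Fin.succ = (1 : Mt (m + 1)) := by
    ext i j; rw [Matrix.submatrix_apply, Matrix.one_apply, Matrix.one_apply]; simp
  have h5 : (fun i : Fin (m + 1) => (Pi.single 0 1 : V (m + 1 + 1)) i.succ) = 0 := by
    funext i; simp
  rw [h3, h4, h5]; simp

end hol

theorem GL_eq_SL (n : ℕ) : Nonempty (SL n ≃* GL (Fin n) (ZMod 2)) := by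
  refine ⟨MulEquiv.ofBijective (Matrix.SpecialLinearGroup.toGL) ⟨?_, ?_⟩⟩
  · intro a b h
    apply Subtype.ext
    exact congrArg (fun x : GL (Fin n) (ZMod 2) => (x : Mt n)) h
  · intro g
    have hdet : (g : Mt n).det = 1 := by
      apply det_eq_one_of_mul (B := ((g⁻¹ : GL (Fin n) (ZMod 2)) : Mt n))
      rw [← Units.val_mul, mul_inv_cancel]; rfl
    refine ⟨⟨(g : Mt n), hdet⟩, ?_⟩
    apply Units.ext
    rfl

theorem final {G : Type*} [Group G] [Finite G] {m : ℕ} {U M : Subgroup G} (hn : U.Normal)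
    (hU : IsElementaryAbelian 2 U) (hcard : Nat.card U = 2 ^ (m + 1 + 1)) (hUM : U ⊓ M = ⊥) (hUM' : U ⊔ M = ⊤)
    (hfaith : ∀ x ∈ M, (∀ u ∈ U, x * u * x⁻¹ = u) → x = 1)
    (hfull : ∀ φ : ↥U ≃* ↥U, ∃ x ∈ M, ∀ u : ↥U, ((φ u : ↥U) : G) = x * u * x⁻¹)
    {z : G} (hzU : z ∈ U) (hz1 : z ≠ 1) (C : Subgroup G) (hC : ∀ g, g ∈ C ↔ g * z = z * g)
    (Q : Subgroup G) (hQ : Q = (pCore 2 C).map C.subtype) :
    IsExtraspecial 2 Q ∧ Nat.card Q = 2 ^ (2 * (m + 1) + 1) ∧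
      (∃ E : Subgroup G, E ≤ Q ∧ IsElementaryAbelian 2 E ∧ Nat.card E = 2 ^ (m + 1 + 1)) ∧
      IsLargeExtraspecial Q ∧
      ∃ K : Subgroup G, K ≤ C ∧ Q ⊓ K = ⊥ ∧ Q ⊔ K = C ∧
        Nonempty (K ≃* Matrix.GeneralLinearGroup (Fin (m + 1)) (ZMod 2)) := by
  have hc : ∀ a ∈ U, ∀ b ∈ U, a * b = b * a := fun a ha b hb =>
    congrArg Subtype.val (hU.1.1.1 ⟨a, ha⟩ ⟨b, hb⟩)
  obtain ⟨D⟩ := exists_dat hn hc hU.2 hcard hUM hUM' hzU hz1
  have hzC : z ∈ C := (hC z).2 rfl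
  let Φ : C ≃* Subgroup.centralizer ({z1} : Set (SL (m + 1 + 2))) :=
    MulEquiv.ofBijective (Phi D hC hn hUM) ⟨Phi_inj D hC hn hUM hfaith, Phi_surj D hC hn hUM hc hfull⟩
  let π : C →* SL (m + 1) := (piC H91.Holomorph.hz1 hC1).comp Φ.toMonoidHom
  let σ : SL (m + 1) →* C := Φ.symm.toMonoidHom.comp (sigC H91.Holomorph.hz1 hC1)
  let κ : EM m 0 →* C := Φ.symm.toMonoidHom.comp (kap H91.Holomorph.hz1 hC1)
  have hπσ : ∀ x, π (σ x) = x := by
    intro x
    show piC H91.Holomorph.hz1 hC1 (Φ (Φ.symm (sigC H91.Holomorph.hz1 hC1 x))) = x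
    rw [MulEquiv.apply_symm_apply, pi_sig]
  have hκ : Function.Injective κ := Φ.symm.injective.comp (kap_inj _ _)
  have hκr : ∀ c : C, π c = 1 ↔ ∃ p, κ p = c := by
    intro c
    show piC H91.Holomorph.hz1 hC1 (Φ c) = 1 ↔ _
    rw [kap_range]
    constructor
    · rintro ⟨p, hp⟩
      exact ⟨p, by show Φ.symm (kap H91.Holomorph.hz1 hC1 p) = c; rw [hp, MulEquiv.symm_apply_apply]⟩
    · rintro ⟨p, rfl⟩
      exact ⟨p, by
        show _ = Φ (Φ.symm (kap H91.Holomorph.hz1 hC1 p)); rw [MulEquiv.apply_symm_apply]⟩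
  have hκz : (κ zet : G) = z := by
    have h1 : Φ ⟨z, hzC⟩ = kap H91.Holomorph.hz1 hC1 zet := by
      apply Subtype.ext
      rw [kap_zet]
      exact Phi_z D hC hn hUM hc hzC
    show ((Φ.symm (kap H91.Holomorph.hz1 hC1 zet) : C) : G) = z
    rw [← h1, MulEquiv.symm_apply_apply]
  have hf : ∀ c : C, (∀ p, c * κ p = κ p * c) → π c = 1 := by
    intro c h
    apply faithful
    intro p
    have := congrArg Φ (h p)
    rw [map_mul, map_mul] at this
    have e : Φ (κ p) = kap H91.Holomorph.hz1 hC1 p := MulEquiv.apply_symm_apply _ _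
    rwa [e] at this
  have hs : Function.Surjective π := fun x => ⟨σ x, hπσ x⟩
  have hQr := Q_eq_range π hs (pCore_SL _) κ hκr Q hQ
  obtain ⟨⟨h1, h2, h3⟩, ⟨h4, h5⟩, ⟨K, hK1, hK2, hK3, ⟨hK4⟩⟩⟩ := main hC π σ hπσ (pCore_SL _) κ hκ hκr hκz hf Q hQ
  obtain ⟨eGL⟩ := GL_eq_SL (m + 1)
  refine ⟨h1, h2, h3, ⟨h1, h4, h5, ?_⟩, ⟨K, hK1, hK2, hK3, ⟨hK4.trans eGL⟩⟩⟩
  intro K hK hKn
  have hUQ : ∀ u ∈ U, u ∈ Q := by
    intro u hu
    have huC : u ∈ C := (hC u).2 (hc u hu z hzU)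
    have h6 : π ⟨u, huC⟩ = 1 := by
      apply Subtype.ext
      show lr (Ph D ⟨u, huC⟩) = 1
      have h7 : D.P u = 1 := P_of_mem D hn hc ⟨u, hu⟩
      show lr (aff (D.ε (D.k u)) (D.P u)) = 1
      rw [h7]
      ext i j
      show (1 : Mt (m + 1 + 1)) i.succ j.succ = (1 : Mt (m + 1)) i j
      rw [Matrix.one_apply, Matrix.one_apply]; simp
    obtain ⟨p, hp⟩ := (hκr _).1 h6
    rw [hQr]
    exact ⟨p, congrArg Subtype.val hp⟩
  have hodd : ∀ x ∈ K, x ∈ U → x = 1 := by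
    intro x hx hxU
    have h1 : orderOf x ∣ 2 := orderOf_dvd_of_pow_eq_one (hU.2 x hxU)
    have h2 : orderOf x ∣ Nat.card K := Subgroup.orderOf_dvd_natCard K hx
    have h3 : Odd (orderOf x) := hK.of_dvd_nat h2
    rcases (Nat.dvd_prime Nat.prime_two).1 h1 with h4 | h4
    · exact orderOf_eq_one_iff.1 h4
    · rw [h4] at h3; exact absurd h3 (by decide)
  rw [eq_bot_iff]
  intro k hk
  rw [Subgroup.mem_bot]
  have hcomm : ∀ u ∈ U, k * u * k⁻¹ = u := by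
    intro u hu
    have h6 : u * k⁻¹ * u⁻¹ ∈ K := (Subgroup.mem_normalizer_iff.1 (hKn (hUQ u hu)) _).1 (K.inv_mem hk)
    have h7 : k * (u * k⁻¹ * u⁻¹) = 1 := by
      apply hodd
      · exact K.mul_mem hk h6
      · have : k * (u * k⁻¹ * u⁻¹) = (k * u * k⁻¹) * u⁻¹ := by group
        rw [this]
        exact U.mul_mem (hn.conj_mem _ hu k) (U.inv_mem hu)
    have h8 : k * u * k⁻¹ * u⁻¹ = 1 := by rw [← h7]; group
    rw [mul_inv_eq_one] at h8; exact h8
  apply hodd k hk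
  obtain ⟨u, hu, x, hx, hux⟩ := Subgroup.mem_sup_of_normal_left.1 (show k ∈ U ⊔ M by rw [hUM']; trivial)
  have h6 : x = 1 := by
    apply hfaith x hx
    intro v hv
    have h7 : x * v * x⁻¹ = u⁻¹ * (k * v * k⁻¹) * u := by rw [← hux]; group
    rw [h7, hcomm v hv, mul_assoc, hc v hv u hu]; group
  rw [← hux, h6, mul_one]; exact hu

end H91.Holomorph
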