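import Cfsg.Agent.Lib.H91.ExtModel
import Cfsg.Agent.Lib.H56.Heis
import Cfsg.Prelude.Def_MonsterType

/-!
Involution centralizers that are split extensions of an extraspecial group of plus type.
-/

set_option autoImplicit false

namespace H91.LargeAbs

open Cfsg H91.MonsterForm H91.ExtModel

theorem pCore_eq_ker {C X : Type*} [Group C] [Group X] [Finite C] (π : C →* X) (hs : Function.Surjective π)
    (hX : pCore 2 X = ⊥) (hk : IsPGroup 2 π.ker) : pCore 2 C = π.ker := by
  have hfact : Fact (Nat.Prime 2) := ⟨Nat.prime_two⟩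
  apply le_antisymm
  · have h1 : IsPGroup 2 (pCore 2 C) := H91.LargeExtra.isPGroup_pCore
    have h2 : (pCore 2 C).Normal := by
      unfold pCore
      exact Subgroup.sSup_normal _ (fun N hN => hN.1)
    have h3 : (pCore 2 C).map π ≤ pCore 2 X := by
      unfold pCore
      exact le_sSup ⟨Subgroup.Normal.map h2 π hs, IsPGroup.map h1 π⟩
    rw [hX] at h3
    intro c hc
    exact (Subgroup.mem_bot).1 (h3 ⟨c, hc, rfl⟩)
  · unfold pCore
    exact le_sSup ⟨MonoidHom.normal_ker π, hk⟩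

theorem Q_eq_range {G X : Type*} [Group G] [Finite G] [Group X] {m : ℕ} {C : Subgroup G}
    (π : C →* X) (hs : Function.Surjective π) (hX : pCore 2 X = ⊥)
    (κ : EM m 0 →* C) (hκr : ∀ c : C, π c = 1 ↔ ∃ p, κ p = c) (Q : Subgroup G)
    (hQ : Q = (pCore 2 C).map C.subtype) : Q = (C.subtype.comp κ).range := by
  have hker : π.ker = κ.range := by
    ext c
    rw [MonoidHom.mem_ker, hκr, MonoidHom.mem_range]
  have hEM : IsPGroup 2 (EM m 0) := IsPGroup.of_card (n := 2 * (m + 1) + 1) card_EM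
  have hk : IsPGroup 2 π.ker := by
    rw [hker]
    exact IsPGroup.of_surjective hEM κ.rangeRestrict κ.rangeRestrict_surjective
  have hpc := pCore_eq_ker π hs hX hk
  rw [hQ, hpc, hker, MonoidHom.range_eq_map, MonoidHom.range_eq_map, Subgroup.map_map]

theorem main {G X : Type*} [Group G] [Finite G] [Group X] {m : ℕ} {z : G} {C : Subgroup G}
    (hC : ∀ g, g ∈ C ↔ g * z = z * g) (π : C →* X) (σ : X →* C) (hπσ : ∀ x, π (σ x) = x) (hX : pCore 2 X = ⊥)
    (κ : EM m 0 →* C) (hκ : Function.Injective κ) (hκr : ∀ c : C, π c = 1 ↔ ∃ p, κ p = c)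
    (hκz : (κ zet : G) = z) (hf : ∀ c : C, (∀ p, c * κ p = κ p * c) → π c = 1) (Q : Subgroup G)
    (hQ : Q = (pCore 2 C).map C.subtype) :
    (IsExtraspecial 2 Q ∧ Nat.card Q = 2 ^ (2 * (m + 1) + 1) ∧
      (∃ E : Subgroup G, E ≤ Q ∧ IsElementaryAbelian 2 E ∧ Nat.card E = 2 ^ (m + 1 + 1))) ∧
    (Subgroup.centralizer (Q : Set G) = (Subgroup.center Q).map Q.subtype ∧
      Subgroup.centralizer (((Subgroup.center Q).map Q.subtype : Subgroup G) : Set G) ≤
        Subgroup.normalizer (Q : Set G)) ∧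
    ∃ K : Subgroup G, K ≤ C ∧ Q ⊓ K = ⊥ ∧ Q ⊔ K = C ∧ Nonempty (K ≃* X) := by
  have hs : Function.Surjective π := fun x => ⟨σ x, hπσ x⟩
  have hker : π.ker = κ.range := by
    ext c
    rw [MonoidHom.mem_ker, hκr, MonoidHom.mem_range]
  have hEM : IsPGroup 2 (EM m 0) := IsPGroup.of_card (n := 2 * (m + 1) + 1) card_EM
  have hk : IsPGroup 2 π.ker := by
    rw [hker]
    exact IsPGroup.of_surjective hEM κ.rangeRestrict κ.rangeRestrict_surjective
  have hpc := pCore_eq_ker π hs hX hk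
  let κ' : EM m 0 →* G := C.subtype.comp κ
  have hκ' : Function.Injective κ' := C.subtype_injective.comp hκ
  have hQr : Q = κ'.range := by
    rw [hQ, hpc, hker, MonoidHom.range_eq_map, MonoidHom.range_eq_map, Subgroup.map_map]
  subst hQr
  have e : EM m 0 ≃* κ'.range := MonoidHom.ofInjective hκ'
  have hz' : κ' zet = z := hκz
  have hcen : ∀ p : EM m 0, (∀ r, κ' r * κ' p = κ' p * κ' r) → κ' p = 1 ∨ κ' p = z := by
    intro p hp
    have : p ∈ Subgroup.center (EM m 0) := by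
      rw [Subgroup.mem_center_iff]
      intro r
      apply hκ'
      rw [map_mul, map_mul]; exact hp r
    rw [xs.center] at this
    rcases this with rfl | rfl
    · left; exact map_one _
    · right; exact hz'
  have hcz : ∀ r, κ' r * z = z * κ' r := by
    intro r
    rw [← hz', ← map_mul, ← map_mul, xs.comm]
  have hcenter : ∀ x : G, x ∈ (Subgroup.center κ'.range).map κ'.range.subtype ↔ x = 1 ∨ x = z := by
    intro x
    constructor
    · rintro ⟨⟨_, p, rfl⟩, hp, rfl⟩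
      apply hcen p
      intro r
      have := Subgroup.mem_center_iff.1 hp ⟨κ' r, r, rfl⟩
      exact congrArg Subtype.val this
    · rintro (rfl | rfl)
      · exact Subgroup.one_mem _
      · refine ⟨⟨x, zet, hz'⟩, ?_, rfl⟩
        rw [SetLike.mem_coe, Subgroup.mem_center_iff]
        rintro ⟨_, r, rfl⟩
        exact Subtype.ext (hcz r)
  refine ⟨⟨?_, ?_, ?_⟩, ⟨?_, ?_⟩, ?_⟩
  · exact H56.Heis.isExtraspecial_congr e extraspecial
  · rw [← Nat.card_congr e.toEquiv, card_EM]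
  · refine ⟨(A0 m 0).map κ', ?_, ?_, ?_⟩
    · rintro _ ⟨p, -, rfl⟩
      exact ⟨p, rfl⟩
    · have h0 := A0_elem (m := m) (c := 0)
      refine ⟨⟨⟨?_⟩⟩, ?_⟩
      · rintro ⟨_, p, hp, rfl⟩ ⟨_, r, hr, rfl⟩
        apply Subtype.ext
        show κ' p * κ' r = κ' r * κ' p
        rw [← map_mul, ← map_mul]
        congr 1
        exact congrArg Subtype.val (h0.1.1.1 ⟨p, hp⟩ ⟨r, hr⟩)
      · rintro _ ⟨p, hp, rfl⟩
        rw [← map_pow, h0.2 p hp, map_one]
    · rw [← card_A0_zero (m := m)]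
      exact (Nat.card_congr ((A0 m 0).equivMapOfInjective κ' hκ').toEquiv).symm
  · ext g
    rw [hcenter]
    constructor
    · intro hg
      rw [Subgroup.mem_centralizer_iff] at hg
      have hgz : g * z = z * g := (hg z ⟨zet, hz'⟩).symm
      have hgC : g ∈ C := (hC g).2 hgz
      have h1 : π ⟨g, hgC⟩ = 1 := by
        apply hf
        intro p
        apply Subtype.ext
        exact (hg (κ' p) ⟨p, rfl⟩).symm
      obtain ⟨p, hp⟩ := (hκr _).1 h1
      have hp' : κ' p = g := congrArg Subtype.val hp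
      rw [← hp']
      apply hcen
      intro r
      rw [hp']
      exact hg (κ' r) ⟨r, rfl⟩
    · rintro (rfl | rfl)
      · exact Subgroup.one_mem _
      · rw [Subgroup.mem_centralizer_iff]
        rintro _ ⟨r, rfl⟩
        exact hcz r
  · intro g hg
    have hgz : g * z = z * g := by
      rw [Subgroup.mem_centralizer_iff] at hg
      exact (hg z ((hcenter z).2 (Or.inr rfl))).symm
    have hgC : g ∈ C := (hC g).2 hgz
    have hN : ∀ (c : C) (p : EM m 0), (c : G) * κ' p * (c : G)⁻¹ ∈ κ'.range := by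
      intro c p
      have h1 : π (c * κ p * c⁻¹) = 1 := by
        rw [map_mul, map_mul, map_inv, (hκr (κ p)).2 ⟨p, rfl⟩]; simp
      obtain ⟨r, hr⟩ := (hκr _).1 h1
      exact ⟨r, congrArg Subtype.val hr⟩
    rw [Subgroup.mem_normalizer_iff]
    intro x
    constructor
    · rintro ⟨p, rfl⟩
      exact hN ⟨g, hgC⟩ p
    · rintro ⟨p, hp⟩
      have h2 := hN ⟨g, hgC⟩⁻¹ p
      have h3 : (((⟨g, hgC⟩ : C)⁻¹ : C) : G) * κ' p * (((⟨g, hgC⟩ : C)⁻¹ : C) : G)⁻¹ = x := by
        show g⁻¹ * κ' p * (g⁻¹)⁻¹ = x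
        rw [hp]; group
      rw [h3] at h2
      exact h2
  · refine ⟨(C.subtype.comp σ).range, ?_, ?_, ?_, ?_⟩
    · rintro _ ⟨x, rfl⟩
      exact (σ x).2
    · rw [eq_bot_iff]
      rintro _ ⟨⟨p, rfl⟩, x, hx⟩
      have h1 : σ x = κ p := Subtype.ext hx
      have h2 : x = 1 := by
        rw [← hπσ x, h1]; exact (hκr _).2 ⟨p, rfl⟩
      have h3 : κ p = 1 := by rw [← h1, h2, map_one]
      rw [Subgroup.mem_bot]
      show ((κ p : C) : G) = 1
      rw [h3]; rfl
    · apply le_antisymm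
      · rw [sup_le_iff]
        constructor
        · rintro _ ⟨p, rfl⟩
          exact (κ p).2
        · rintro _ ⟨x, rfl⟩
          exact (σ x).2
      · intro g hg
        have h1 : π ((⟨g, hg⟩ : C) * (σ (π ⟨g, hg⟩))⁻¹) = 1 := by
          rw [map_mul, map_inv, hπσ, mul_inv_cancel]
        obtain ⟨p, hp⟩ := (hκr _).1 h1
        have h2 : g = κ' p * (C.subtype.comp σ) (π ⟨g, hg⟩) := by
          show g = ((κ p : C) : G) * ((σ (π ⟨g, hg⟩) : C) : G)
          rw [hp]
          show g = g * ((σ (π ⟨g, hg⟩) : C) : G)⁻¹ * ((σ (π ⟨g, hg⟩) : C) : G)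
          group
        rw [h2]
        exact Subgroup.mul_mem_sup ⟨p, rfl⟩ ⟨_, rfl⟩
    · have hinj : Function.Injective (C.subtype.comp σ) := by
        intro x y hxy
        have : σ x = σ y := Subtype.ext hxy
        rw [← hπσ x, this, hπσ]
      exact ⟨(MonoidHom.ofInjective hinj).symm⟩

/-- four-group acting without fixed points on an odd order group -/
theorem eq_bot_of_four {G : Type*} [Group G] {K : Subgroup G} [Finite K] (hK : Odd (Nat.card K)) {s t : G}
    (hs : s * s = 1) (ht : t * t = 1) (hst : s * t = t * s)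
    (h1 : ∀ k ∈ K, s * k * s⁻¹ ∈ K) (h2 : ∀ k ∈ K, t * k * t⁻¹ ∈ K)
    (f1 : ∀ k ∈ K, s * k = k * s → k = 1) (f2 : ∀ k ∈ K, t * k = k * t → k = 1)
    (f3 : ∀ k ∈ K, s * t * k = k * (s * t) → k = 1) : K = ⊥ := by
  -- an involution acting without fixed points inverts
  have key : ∀ r : G, r * r = 1 → (∀ k ∈ K, r * k * r⁻¹ ∈ K) → (∀ k ∈ K, r * k = k * r → k = 1) →
      ∀ k ∈ K, r * k * r⁻¹ = k⁻¹ := by
    intro r hr hn hfr
    have hri : r⁻¹ = r := by rw [inv_eq_iff_mul_eq_one]; exact hr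
    let f : K → K := fun k => ⟨k⁻¹ * (r * k * r⁻¹), K.mul_mem (K.inv_mem k.2) (hn k k.2)⟩
    have hinj : Function.Injective f := by
      intro a c hac
      have h3 : (a : G)⁻¹ * (r * a * r⁻¹) = (c : G)⁻¹ * (r * c * r⁻¹) := congrArg Subtype.val hac
      have h4 : r * ((a : G) * (c : G)⁻¹) = ((a : G) * (c : G)⁻¹) * r := by
        have h5 : r * (a : G) * r⁻¹ = a * ((c : G)⁻¹ * (r * c * r⁻¹)) := by
          rw [← h3]; group
        have h6 : r * ((a : G) * (c : G)⁻¹) = (r * (a : G) * r⁻¹) * (r * (c : G)⁻¹) := by group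
        rw [h6, h5]; group
      have h5 := hfr _ (K.mul_mem a.2 (K.inv_mem c.2)) h4
      apply Subtype.ext
      rw [mul_inv_eq_one] at h5; exact h5
    have hsurj : Function.Surjective f := Finite.surjective_of_injective hinj
    intro k hk
    obtain ⟨a, ha⟩ := hsurj ⟨k, hk⟩
    have h3 : (a : G)⁻¹ * (r * a * r⁻¹) = k := congrArg Subtype.val ha
    rw [← h3]
    have : r * ((a : G)⁻¹ * (r * a * r⁻¹)) * r⁻¹ = (r * (a : G)⁻¹ * r⁻¹) * ((r * r) * a * (r * r)⁻¹) := by group
    rw [this, hr]; group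
  have i1 := key s hs h1 f1
  have i2 := key t ht h2 f2
  rw [eq_bot_iff]
  intro k hk
  rw [Subgroup.mem_bot]
  apply f3 k hk
  have h3 : s * t * k * (s * t)⁻¹ = k := by
    calc s * t * k * (s * t)⁻¹ = s * (t * k * t⁻¹) * s⁻¹ := by group
      _ = (s * k * s⁻¹)⁻¹ := by rw [i2 k hk]; group
      _ = k := by rw [i1 k hk, inv_inv]
  rw [mul_inv_eq_iff_eq_mul] at h3; exact h3

end H91.LargeAbs
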