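import Cfsg.Agent.Lib.H91.Holomorph
import Cfsg.Agent.Lib.H57.M24Fus
import Cfsg.Agent.Lib.H47.A8GL4

/-!
The centralizer in `M24` of an involution fixing an octad pointwise.
-/

set_option autoImplicit false

namespace H91.M24Cent

open Cfsg Matrix H91.MonsterForm H91.ExtModel H91.TransvCent H91.LargeAbs H91.Holomorph

section iso

/-- everything but the odd-order clause, from an isomorphism with the centralizer of a transvection -/
theorem main_of_iso {G : Type*} [Group G] [Finite G] {m : ℕ} {z : G} (C : Subgroup G)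
    (hC : ∀ g, g ∈ C ↔ g * z = z * g) (Φ : C ≃* Subgroup.centralizer ({z1} : Set (SL (m + 1 + 2))))
    (hΦ : ∀ hz : z ∈ C, (Φ ⟨z, hz⟩ : SL (m + 1 + 2)) = z1) (Q : Subgroup G) (hQ : Q = (pCore 2 C).map C.subtype) :
    (IsExtraspecial 2 Q ∧ Nat.card Q = 2 ^ (2 * (m + 1) + 1) ∧
      (∃ E : Subgroup G, E ≤ Q ∧ IsElementaryAbelian 2 E ∧ Nat.card E = 2 ^ (m + 1 + 1))) ∧
    (Subgroup.centralizer (Q : Set G) = (Subgroup.center Q).map Q.subtype ∧
      Subgroup.centralizer (((Subgroup.center Q).map Q.subtype : Subgroup G) : Set G) ≤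
        Subgroup.normalizer (Q : Set G)) ∧
    ∃ K : Subgroup G, K ≤ C ∧ Q ⊓ K = ⊥ ∧ Q ⊔ K = C ∧ Nonempty (K ≃* SL (m + 1)) := by
  have hzC : z ∈ C := (hC z).2 rfl
  let π : C →* SL (m + 1) := (piC H91.Holomorph.hz1 hC1).comp Φ.toMonoidHom
  let σ : SL (m + 1) →* C := Φ.symm.toMonoidHom.comp (sigC H91.Holomorph.hz1 hC1)
  let κ : EM m 0 →* C := Φ.symm.toMonoidHom.comp (kap H91.Holomorph.hz1 hC1)
  have hπσ : ∀ x, π (σ x) = x := by
    intro x
    show piC H91.Holomorph.hz1 hC1 (Φ (Φ.symm (sigC H91.Holomorph.hz1 hC1 x))) = x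
    rw [MulEquiv.apply_symm_apply, pi_sig]
  have hκ : Function.Injective κ := Φ.symm.injective.comp (kap_inj _ _)
  have hκr : ∀ c : C, π c = 1 ↔ ∃ p, κ p = c := by
    intro c
    show piC H91.Holomorph.hz1 hC1 (Φ c) = 1 ↔ _
    rw [kap_range]
    constructor
    · rintro ⟨p, hp⟩
      exact ⟨p, by show Φ.symm (kap H91.Holomorph.hz1 hC1 p) = c; rw [hp, MulEquiv.symm_apply_apply]⟩
    · rintro ⟨p, rfl⟩
      exact ⟨p, by
        show _ = Φ (Φ.symm (kap H91.Holomorph.hz1 hC1 p)); rw [MulEquiv.apply_symm_apply]⟩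
  have hκz : (κ zet : G) = z := by
    have h1 : Φ ⟨z, hzC⟩ = kap H91.Holomorph.hz1 hC1 zet := by
      apply Subtype.ext
      rw [kap_zet]
      exact hΦ hzC
    show ((Φ.symm (kap H91.Holomorph.hz1 hC1 zet) : C) : G) = z
    rw [← h1, MulEquiv.symm_apply_apply]
  have hf : ∀ c : C, (∀ p, c * κ p = κ p * c) → π c = 1 := by
    intro c h
    apply faithful
    intro p
    have := congrArg Φ (h p)
    rw [map_mul, map_mul] at this
    have e : Φ (κ p) = kap H91.Holomorph.hz1 hC1 p := MulEquiv.apply_symm_apply _ _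
    rwa [e] at this
  exact main hC π σ hπσ (pCore_SL _) κ hκ hκr hκz hf Q hQ

/-- a faithful complement of the right order realises all automorphisms -/
theorem hfull_of_card {G : Type*} [Group G] [Finite G] {m : ℕ} {U M : Subgroup G} {z : G} (D : Dat U M z (m + 1))
    (hn : U.Normal) (hfaith : ∀ x ∈ M, (∀ u ∈ U, x * u * x⁻¹ = u) → x = 1)
    (hcard : Nat.card M = Nat.card (GL (Fin (m + 1 + 1)) (ZMod 2))) :
    ∀ φ : ↥U ≃* ↥U, ∃ x ∈ M, ∀ u : ↥U, ((φ u : ↥U) : G) = x * u * x⁻¹ := by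
  have hPP : ∀ g h : G, g * h = 1 → D.P g * D.P h = 1 := by
    intro g h hgh
    rw [← P_mul D hn, hgh, P_one D]
  let r : M →* GL (Fin (m + 1 + 1)) (ZMod 2) :=
    { toFun := fun x => ⟨D.P x, D.P (x : G)⁻¹, hPP _ _ (mul_inv_cancel _), hPP _ _ (inv_mul_cancel _)⟩
      map_one' := Units.ext (P_one D)
      map_mul' := fun x y => Units.ext (P_mul D hn x y) }
  have hinj : Function.Injective r := by
    rw [injective_iff_map_eq_one]
    intro x hx
    have h1 : D.P x = 1 := congrArg (fun y : GL (Fin (m + 1 + 1)) (ZMod 2) => (y : Mt (m + 1 + 1))) hx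
    exact Subtype.ext (hfaith x x.2 (fun u hu => conj_trivial_of_P D hn h1 ⟨u, hu⟩))
  have hbij : Function.Bijective r := (Nat.bijective_iff_injective_and_card r).mpr ⟨hinj, hcard⟩
  intro φ
  let cj : V (m + 1 + 1) →+ V (m + 1 + 1) := AddMonoidHom.mk' (fun v => D.ε (φ (D.ε.symm v))) (by
    intro v w
    have h3 : D.ε.symm (v + w) = D.ε.symm v * D.ε.symm w := by
      rw [Equiv.symm_apply_eq, D.ε_mul, Equiv.apply_symm_apply, Equiv.apply_symm_apply]
    rw [h3, map_mul, D.ε_mul])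
  let cj' : V (m + 1 + 1) →+ V (m + 1 + 1) := AddMonoidHom.mk' (fun v => D.ε (φ.symm (D.ε.symm v))) (by
    intro v w
    have h3 : D.ε.symm (v + w) = D.ε.symm v * D.ε.symm w := by
      rw [Equiv.symm_apply_eq, D.ε_mul, Equiv.apply_symm_apply, Equiv.apply_symm_apply]
    rw [h3, map_mul, D.ε_mul])
  let A : Mt (m + 1 + 1) := LinearMap.toMatrix' (cj.toZModLinearMap 2)
  let A' : Mt (m + 1 + 1) := LinearMap.toMatrix' (cj'.toZModLinearMap 2)
  have hA : ∀ v, A *ᵥ v = D.ε (φ (D.ε.symm v)) := fun v => by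
    rw [LinearMap.toMatrix'_mulVec]; rfl
  have hA' : ∀ v, A' *ᵥ v = D.ε (φ.symm (D.ε.symm v)) := fun v => by
    rw [LinearMap.toMatrix'_mulVec]; rfl
  have h1 : A * A' = 1 := by
    apply mat_ext
    intro v
    rw [← Matrix.mulVec_mulVec, hA', hA, Equiv.symm_apply_apply, MulEquiv.apply_symm_apply, Equiv.apply_symm_apply,
      Matrix.one_mulVec]
  have h2 : A' * A = 1 := by
    apply mat_ext
    intro v
    rw [← Matrix.mulVec_mulVec, hA, hA', Equiv.symm_apply_apply, MulEquiv.symm_apply_apply, Equiv.apply_symm_apply,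
      Matrix.one_mulVec]
  obtain ⟨x, hx⟩ := hbij.2 ⟨A, A', h1, h2⟩
  have hPx : D.P x = A := congrArg (fun y : GL (Fin (m + 1 + 1)) (ZMod 2) => (y : Mt (m + 1 + 1))) hx
  refine ⟨x, x.2, fun u => ?_⟩
  have h3 := D.P_ε x u ⟨x * u * (x : G)⁻¹, hn.conj_mem _ u.2 x⟩ rfl
  rw [hPx, hA, Equiv.symm_apply_apply] at h3
  exact congrArg Subtype.val (D.ε.injective h3)

end iso

open H8.GolayCode H8.GolayCount H8.GolayBasic H8.M24Mem H8.M24Chain H57.OctTab H57.OctStab H57.M24Fus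

/-- an element of `M24` fixing the complement of the octad pointwise is trivial -/
theorem comp_fix {g : Equiv.Perm GolayPt} (hg : g ∈ M24) (h : ∀ x, x ∉ O → g x = x) : g = 1 := by
  have hF : ∀ i ∈ [4, 6, 7, 8, 9, 10, 11, 12, 13, 15, 16, 18, 19, 20, 21, 22], g (pt i) = pt i := by
    intro i hi
    have h1 : i < 24 ∧ OM.testBit i = false := by
      revert i; decide
    exact h _ (pt_notMem_O h1.1 h1.2)
  have hok : ∀ m ∈ [0x49f002, 0xd4b004, 0x6e3008, 0x713021, 0x9b3010, 0x5c6011],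
      okMask [4, 6, 7, 8, 9, 10, 11, 12, 13, 15, 16, 18, 19, 20, 21, 22] m = true := by decide +kernel
  have h1 : ∀ x y : Fin 24, (∀ m ∈ [0x49f002, 0xd4b004, 0x6e3008, 0x713021, 0x9b3010, 0x5c6011],
      m.testBit y.1 = m.testBit x.1) → OM.testBit x.1 = true → y = x := by decide +kernel
  ext x
  by_cases hx : x ∈ O
  · have h2 : (⟨idx (g x), idx_lt _⟩ : Fin 24) = ⟨idx x, idx_lt _⟩ := by
      apply h1
      · intro m hm
        exact fixes_okMask hg hF (hok m hm) x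
      · exact mem_O.1 hx
    have h3 : idx (g x) = idx x := congrArg Fin.val h2
    have h4 : g x = x := by
      rw [← pt_idx (g x), h3, pt_idx]
    rw [h4]; rfl
  · rw [h x hx]; rfl

/-- the octad stabiliser -/
abbrev G0 := Hs M24

theorem card_G0 : Nat.card G0 = 322560 := by
  have h := card_Hs (D := ∅) (G := M24) (Finset.empty_subset _) (fun g => by simp)
  rw [Finset.card_empty] at h
  have h2 : (8 - 0).factorial = 40320 := by decide
  rw [h2] at h
  have h3 : 2 * Nat.card G0 = 16 * 40320 := h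
  omega

/-- the pointwise stabiliser -/
def U0 : Subgroup G0 := (Vs M24).subgroupOf G0

theorem mem_U0 {g : G0} : g ∈ U0 ↔ ((g : M24) : Equiv.Perm GolayPt) ∈ VO := Iff.rfl

theorem mem_G0 {g : M24} : g ∈ G0 ↔ ∀ x, (g : Equiv.Perm GolayPt) x ∈ O ↔ x ∈ O := Iff.rfl

/-- the stabiliser of the point `4` -/
def M0 : Subgroup G0 where
  carrier := {g | ((g : M24) : Equiv.Perm GolayPt) (pt 4) = pt 4}
  one_mem' := rfl
  mul_mem' := by
    intro a b ha hb
    show ((a : M24) : Equiv.Perm GolayPt) (((b : M24) : Equiv.Perm GolayPt) (pt 4)) = pt 4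
    have ha' : ((a : M24) : Equiv.Perm GolayPt) (pt 4) = pt 4 := ha
    have hb' : ((b : M24) : Equiv.Perm GolayPt) (pt 4) = pt 4 := hb
    rw [hb', ha']
  inv_mem' := by
    intro a ha
    show ((a : M24) : Equiv.Perm GolayPt)⁻¹ (pt 4) = pt 4
    have ha' : ((a : M24) : Equiv.Perm GolayPt) (pt 4) = pt 4 := ha
    rw [Equiv.Perm.inv_eq_iff_eq, ha']

theorem mem_M0 {g : G0} : g ∈ M0 ↔ ((g : M24) : Equiv.Perm GolayPt) (pt 4) = pt 4 := Iff.rfl

theorem pt4 : pt 4 ∉ O := pt_notMem_O (by norm_num) (by decide)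

theorem VO_G0 {v : Equiv.Perm GolayPt} (hv : v ∈ VO) : ∃ u : G0, u ∈ U0 ∧ ((u : M24) : Equiv.Perm GolayPt) = v :=
  ⟨⟨⟨v, hv.1⟩, fun _ => VO_mem_O hv⟩, hv, rfl⟩

theorem U0_normal : U0.Normal := by
  constructor
  intro u hu g
  exact conj_VO (g : M24).2 g.2 hu

theorem U0_elem : IsElementaryAbelian 2 U0 := by
  refine ⟨⟨⟨?_⟩⟩, ?_⟩
  · rintro ⟨a, ha⟩ ⟨b, hb⟩
    apply Subtype.ext; apply Subtype.ext; apply Subtype.ext
    exact VO_comm ha hb
  · intro a ha
    apply Subtype.ext; apply Subtype.ext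
    show ((a : M24) : Equiv.Perm GolayPt) ^ 2 = 1
    rw [pow_two]; exact VO_sq ha

theorem card_U0 : Nat.card U0 = 16 := by
  rw [← card_VO]
  exact Nat.card_congr
    { toFun := fun u => ⟨((u : G0) : M24), u.2⟩
      invFun := fun v => ⟨⟨⟨v, v.2.1⟩, fun _ => VO_mem_O v.2⟩, v.2⟩
      left_inv := fun _ => rfl
      right_inv := fun _ => rfl }

theorem inf_bot : U0 ⊓ M0 = ⊥ := by
  rw [eq_bot_iff]
  rintro g ⟨h1, h2⟩
  rw [Subgroup.mem_bot]
  apply Subtype.ext; apply Subtype.ext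
  exact VO_fpf h1 pt4 h2

theorem sup_top : U0 ⊔ M0 = ⊤ := by
  rw [eq_top_iff]
  intro g _
  have h1 : ((g : M24) : Equiv.Perm GolayPt) (pt 4) ∉ O := fun h => pt4 ((g.2 _).1 h)
  obtain ⟨v, hv, -, hv4⟩ := VO_trans h1
  obtain ⟨u, hu, huv⟩ := VO_G0 hv
  have h2 : u⁻¹ * g ∈ M0 := by
    rw [mem_M0]
    show ((u : M24) : Equiv.Perm GolayPt)⁻¹ (((g : M24) : Equiv.Perm GolayPt) (pt 4)) = pt 4
    rw [Equiv.Perm.inv_eq_iff_eq, huv, hv4]
  have h3 : g = u * (u⁻¹ * g) := by group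
  rw [h3]
  exact Subgroup.mul_mem_sup hu h2

theorem faith {g : G0} (hg : g ∈ M0) (h : ∀ u ∈ U0, g * u * g⁻¹ = u) : g = 1 := by
  apply Subtype.ext; apply Subtype.ext
  apply comp_fix (g : M24).2
  intro x hx
  obtain ⟨v, hv, -, hv4⟩ := VO_trans hx
  obtain ⟨u, hu, huv⟩ := VO_G0 hv
  have h1 := h u hu
  rw [mul_inv_eq_iff_eq_mul] at h1
  have h2 := congrArg (fun y : G0 => ((y : M24) : Equiv.Perm GolayPt) (pt 4)) h1
  have h3 : ((g : M24) : Equiv.Perm GolayPt) (((u : M24) : Equiv.Perm GolayPt) (pt 4)) =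
    ((u : M24) : Equiv.Perm GolayPt) (((g : M24) : Equiv.Perm GolayPt) (pt 4)) := h2
  rw [mem_M0.1 hg, huv, hv4] at h3
  exact h3

theorem card_M0 : Nat.card M0 = 20160 := by
  have h1 : Nat.card U0 * Nat.card M0 = Nat.card G0 := by
    haveI := U0_normal
    have hc : Subgroup.IsComplement' U0 M0 := by
      apply Subgroup.isComplement'_of_disjoint_and_mul_eq_univ (disjoint_iff.2 inf_bot)
      rw [← Subgroup.normal_mul, sup_top]; rfl
    exact hc.card_mul
  rw [card_U0, card_G0] at h1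
  omega

theorem exists_Phi {v : G0} (hv : v ∈ U0) (hv1 : v ≠ 1) :
    ∃ Φ : Subgroup.centralizer ({v} : Set G0) ≃* Subgroup.centralizer ({z1} : Set (SL (2 + 1 + 2))),
      ∀ h : v ∈ Subgroup.centralizer ({v} : Set G0), (Φ ⟨v, h⟩ : SL (2 + 1 + 2)) = z1 := by
  have hc : ∀ a ∈ U0, ∀ b ∈ U0, a * b = b * a := fun a ha b hb =>
    congrArg Subtype.val (U0_elem.1.1.1 ⟨a, ha⟩ ⟨b, hb⟩)
  obtain ⟨D⟩ := exists_dat (m := 2 + 1) U0_normal hc U0_elem.2 (by rw [card_U0]; norm_num) inf_bot sup_top hv hv1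
  have hfull := hfull_of_card D U0_normal (fun x hx h => faith hx h) (by
    rw [card_M0]; exact H47.A8GL4.card_GL4.symm)
  have hC : ∀ g, g ∈ Subgroup.centralizer ({v} : Set G0) ↔ g * v = v * g :=
    fun _ => Subgroup.mem_centralizer_singleton_iff
  exact ⟨MulEquiv.ofBijective (Phi D hC U0_normal inf_bot) ⟨Phi_inj D hC U0_normal inf_bot (fun x hx h => faith hx h),
    Phi_surj D hC U0_normal inf_bot hc hfull⟩, fun h => Phi_z D hC U0_normal inf_bot hc h⟩

/-- an element of `M24` preserving the octad and commuting with `VO` lies in `VO` -/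
theorem mem_VO_of_comm {k : Equiv.Perm GolayPt} (hk : k ∈ M24) (hkO : ∀ x, k x ∈ O ↔ x ∈ O)
    (h : ∀ v ∈ VO, k * v = v * k) : k ∈ VO := by
  have h1 : k (pt 4) ∉ O := fun h => pt4 ((hkO _).1 h)
  obtain ⟨w, hw, -, hw4⟩ := VO_trans h1
  have h2 : w⁻¹ * k = 1 := by
    apply comp_fix (M24.mul_mem (M24.inv_mem hw.1) hk)
    intro x hx
    obtain ⟨v, hv, -, hv4⟩ := VO_trans hx
    show w⁻¹ (k x) = x
    rw [Equiv.Perm.inv_eq_iff_eq, ← hv4]
    have h3 : k (v (pt 4)) = v (k (pt 4)) := congrArg (fun f : Equiv.Perm GolayPt => f (pt 4)) (h v hv)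
    rw [h3, ← hw4]
    exact congrArg (fun f : Equiv.Perm GolayPt => f (pt 4)) (VO_comm hv hw)
  rw [inv_mul_eq_one] at h2
  rw [← h2]; exact hw

section main24

variable {z g : M24} (hv : ((g * z * g⁻¹ : M24) : Equiv.Perm GolayPt) ∈ VO) (hz1 : z ≠ 1)

/-- `v ∈ U0` -/
def vv : G0 := ⟨g * z * g⁻¹, fun _ => VO_mem_O hv⟩

include hz1 in
theorem vv_ne : vv hv ≠ 1 := by
  intro h
  have h1 : g * z * g⁻¹ = 1 := congrArg Subtype.val h
  apply hz1
  rw [mul_inv_eq_one] at h1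
  exact mul_left_cancel (h1.trans (mul_one g).symm)

include hv hz1 in
theorem pres {c : M24} (hc : c * z = z * c) : g * c * g⁻¹ ∈ G0 := by
  have h1 : ((g * z * g⁻¹ : M24) : Equiv.Perm GolayPt) ≠ 1 := by
    intro h
    exact vv_ne hv hz1 (Subtype.ext (Subtype.ext h))
  apply preserves hv h1
  have h2 : (g * c * g⁻¹) * (g * z * g⁻¹) * (g * c * g⁻¹)⁻¹ = g * z * g⁻¹ := by
    have : (g * c * g⁻¹) * (g * z * g⁻¹) * (g * c * g⁻¹)⁻¹ = g * (c * z) * c⁻¹ * g⁻¹ := by group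
    rw [this, hc]; group
  have h3 := congrArg (fun x : M24 => (x : Equiv.Perm GolayPt)) h2
  have h4 : ((g * c * g⁻¹ : M24) : Equiv.Perm GolayPt) * ((g * z * g⁻¹ : M24) : Equiv.Perm GolayPt) *
    ((g * c * g⁻¹ : M24) : Equiv.Perm GolayPt)⁻¹ = ((g * z * g⁻¹ : M24) : Equiv.Perm GolayPt) := h3
  rw [h4]; exact hv

/-- conjugation -/
def Psi : Subgroup.centralizer ({z} : Set M24) ≃* Subgroup.centralizer ({vv hv} : Set G0) where
  toFun c := ⟨⟨g * c * g⁻¹, pres hv hz1 (Subgroup.mem_centralizer_singleton_iff.1 c.2)⟩, by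
    rw [Subgroup.mem_centralizer_singleton_iff]
    apply Subtype.ext
    show (g * c * g⁻¹) * (g * z * g⁻¹) = (g * z * g⁻¹) * (g * c * g⁻¹)
    have h := Subgroup.mem_centralizer_singleton_iff.1 c.2
    calc (g * c * g⁻¹) * (g * z * g⁻¹) = g * (c * z) * g⁻¹ := by group
      _ = g * (z * c) * g⁻¹ := by rw [h]
      _ = _ := by group⟩
  invFun c := ⟨g⁻¹ * (c : G0) * g, by
    rw [Subgroup.mem_centralizer_singleton_iff]
    have h := congrArg (fun x : G0 => (x : M24)) (Subgroup.mem_centralizer_singleton_iff.1 c.2)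
    have h' : ((c : G0) : M24) * (g * z * g⁻¹) = (g * z * g⁻¹) * ((c : G0) : M24) := h
    calc g⁻¹ * ((c : G0) : M24) * g * z = g⁻¹ * (((c : G0) : M24) * (g * z * g⁻¹)) * g := by group
      _ = g⁻¹ * ((g * z * g⁻¹) * ((c : G0) : M24)) * g := by rw [h']
      _ = _ := by group⟩
  left_inv c := by
    apply Subtype.ext
    show g⁻¹ * (g * c * g⁻¹) * g = c
    group
  right_inv c := by
    apply Subtype.ext; apply Subtype.ext
    show g * (g⁻¹ * ((c : G0) : M24) * g) * g⁻¹ = ((c : G0) : M24)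
    group
  map_mul' c d := by
    apply Subtype.ext; apply Subtype.ext
    show g * ((c : M24) * d) * g⁻¹ = (g * c * g⁻¹) * (g * d * g⁻¹)
    group

/-- the conjugate of the pointwise stabiliser -/
def Uz (g : M24) : Subgroup M24 := (Vs M24).comap (MulAut.conj g).toMonoidHom

theorem mem_Uz {x : M24} : x ∈ Uz g ↔ ((g * x * g⁻¹ : M24) : Equiv.Perm GolayPt) ∈ VO := Iff.rfl

theorem Uz_sq {x : M24} (hx : x ∈ Uz g) : x * x = 1 := by
  have h1 := VO_sq (mem_Uz.1 hx)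
  have h2 : (g * x * g⁻¹) * (g * x * g⁻¹) = 1 := Subtype.ext h1
  have h3 : x * x = g⁻¹ * ((g * x * g⁻¹) * (g * x * g⁻¹)) * g := by group
  rw [h3, h2]; group

theorem Uz_comm {x y : M24} (hx : x ∈ Uz g) (hy : y ∈ Uz g) : x * y = y * x := by
  have h1 := VO_comm (mem_Uz.1 hx) (mem_Uz.1 hy)
  have h2 : (g * x * g⁻¹) * (g * y * g⁻¹) = (g * y * g⁻¹) * (g * x * g⁻¹) := Subtype.ext h1
  have h3 : x * y = g⁻¹ * ((g * x * g⁻¹) * (g * y * g⁻¹)) * g := by group
  rw [h3, h2]; group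

theorem Uz_card : Nat.card (Uz g) = 2 ^ 4 := by
  have h1 : Nat.card (Vs M24) = 16 := by
    rw [← card_VO]
    exact Nat.card_congr
      { toFun := fun u => ⟨(u : M24), u.2⟩
        invFun := fun v => ⟨⟨v, v.2.1⟩, v.2⟩
        left_inv := fun _ => rfl
        right_inv := fun _ => rfl }
  have h2 : (Uz g).map (MulAut.conj g).toMonoidHom = Vs M24 :=
    Subgroup.map_comap_eq_self_of_surjective (MulAut.conj g).surjective _
  rw [show (2 : ℕ) ^ 4 = 16 by norm_num, ← h1, ← h2]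
  exact Nat.card_congr ((Uz g).equivMapOfInjective _ (MulAut.conj g).injective).toEquiv

include hv hz1 in
theorem Uz_le_Q : Uz g ≤ (pCore 2 (Subgroup.centralizer ({z} : Set M24))).map
    (Subgroup.centralizer ({z} : Set M24)).subtype := by
  have hzU : z ∈ Uz g := hv
  have hle : Uz g ≤ Subgroup.centralizer ({z} : Set M24) := by
    intro x hx
    rw [Subgroup.mem_centralizer_singleton_iff]
    exact Uz_comm hx hzU
  have hnorm : ((Uz g).subgroupOf (Subgroup.centralizer ({z} : Set M24))).Normal := by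
    constructor
    intro x hx c
    have h1 := pres hv hz1 (Subgroup.mem_centralizer_singleton_iff.1 c.2)
    show ((g * ((c : M24) * (x : M24) * (c : M24)⁻¹) * g⁻¹ : M24) : Equiv.Perm GolayPt) ∈ VO
    have h2 : g * ((c : M24) * (x : M24) * (c : M24)⁻¹) * g⁻¹ =
        (g * c * g⁻¹) * (g * x * g⁻¹) * (g * c * g⁻¹)⁻¹ := by group
    rw [h2]
    exact conj_VO (g * (c : M24) * g⁻¹).2 h1 hx
  have hp : IsPGroup 2 ((Uz g).subgroupOf (Subgroup.centralizer ({z} : Set M24))) := by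
    apply IsPGroup.comap_subtype
    exact IsPGroup.of_card (n := 4) Uz_card
  have h3 : (Uz g).subgroupOf (Subgroup.centralizer ({z} : Set M24)) ≤
      pCore 2 (Subgroup.centralizer ({z} : Set M24)) := le_sSup ⟨hnorm, hp⟩
  intro x hx
  exact ⟨⟨x, hle hx⟩, h3 hx, rfl⟩

theorem odd_clause (K : Subgroup M24) (hK : Odd (Nat.card K)) (hn : Uz g ≤ Subgroup.normalizer (K : Set M24)) :
    K = ⊥ := by
  have hodd : ∀ x ∈ K, x ∈ Uz g → x = 1 := by
    intro x hx hxU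
    have h1 : orderOf x ∣ 2 := orderOf_dvd_of_pow_eq_one (by rw [pow_two, Uz_sq hxU])
    have h2 : orderOf x ∣ Nat.card K := Subgroup.orderOf_dvd_natCard K hx
    have h3 : Odd (orderOf x) := hK.of_dvd_nat h2
    rcases (Nat.dvd_prime Nat.prime_two).1 h1 with h4 | h4
    · exact orderOf_eq_one_iff.1 h4
    · rw [h4] at h3; exact absurd h3 (by decide)
  have hfree : ∀ s ∈ Uz g, s ≠ 1 → ∀ k ∈ K, s * k = k * s → k = 1 := by
    intro s hs hs1 k hk hsk
    have hkG : g * k * g⁻¹ ∈ G0 := pres (z := s) hs hs1 hsk.symm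
    apply hodd k hk
    rw [mem_Uz]
    apply mem_VO_of_comm (g * k * g⁻¹).2 hkG
    intro v hv
    have hvM : v ∈ M24 := hv.1
    set u : M24 := g⁻¹ * ⟨v, hvM⟩ * g with hu
    have hgu : g * u * g⁻¹ = ⟨v, hvM⟩ := by rw [hu]; group
    have huU : u ∈ Uz g := by
      rw [mem_Uz, hgu]; exact hv
    have h1 : u * k⁻¹ * u⁻¹ ∈ K := (Subgroup.mem_normalizer_iff.1 (hn huU) _).1 (K.inv_mem hk)
    have h2 : k * (u * k⁻¹ * u⁻¹) = 1 := by
      apply hodd _ (K.mul_mem hk h1)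
      have h3 : k * (u * k⁻¹ * u⁻¹) = (k * u * k⁻¹) * u⁻¹ := by group
      rw [h3]
      refine (Uz g).mul_mem ?_ ((Uz g).inv_mem huU)
      rw [mem_Uz]
      have h4 : g * (k * u * k⁻¹) * g⁻¹ = (g * k * g⁻¹) * (g * u * g⁻¹) * (g * k * g⁻¹)⁻¹ := by group
      rw [h4]
      exact conj_VO (g * k * g⁻¹).2 hkG (mem_Uz.1 huU)
    have h5 : k * u = u * k := by
      have : k * u * k⁻¹ * u⁻¹ = 1 := by rw [← h2]; group
      rw [mul_inv_eq_one, mul_inv_eq_iff_eq_mul] at this; exact this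
    have h6 : (g * k * g⁻¹) * (g * u * g⁻¹) = (g * u * g⁻¹) * (g * k * g⁻¹) := by
      calc _ = g * (k * u) * g⁻¹ := by group
        _ = g * (u * k) * g⁻¹ := by rw [h5]
        _ = _ := by group
    rw [hgu] at h6
    exact congrArg (fun x : M24 => (x : Equiv.Perm GolayPt)) h6
  -- three involutions
  obtain ⟨v1, hv1, -, hv14⟩ := VO_trans (x := pt 6) (pt_notMem_O (by norm_num) (by decide))
  obtain ⟨v2, hv2, -, hv24⟩ := VO_trans (x := pt 7) (pt_notMem_O (by norm_num) (by decide))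
  have hmk : ∀ v (hv : v ∈ VO), (g⁻¹ * ⟨v, hv.1⟩ * g : M24) ∈ Uz g := by
    intro v hv
    rw [mem_Uz]
    have : g * (g⁻¹ * ⟨v, hv.1⟩ * g) * g⁻¹ = (⟨v, hv.1⟩ : M24) := by group
    rw [this]; exact hv
  have hne : ∀ v (hv : v ∈ VO), v (pt 4) ≠ pt 4 → (g⁻¹ * ⟨v, hv.1⟩ * g : M24) ≠ 1 := by
    intro v hv h h1
    apply h
    have h2 : (⟨v, hv.1⟩ : M24) = 1 := by
      have : (⟨v, hv.1⟩ : M24) = g * (g⁻¹ * ⟨v, hv.1⟩ * g) * g⁻¹ := by group
      rw [this, h1]; group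
    have h3 : v = 1 := congrArg Subtype.val h2
    rw [h3]; rfl
  set s := (g⁻¹ * ⟨v1, hv1.1⟩ * g : M24) with hs
  set t := (g⁻¹ * ⟨v2, hv2.1⟩ * g : M24) with ht
  have hsU : s ∈ Uz g := hmk v1 hv1
  have htU : t ∈ Uz g := hmk v2 hv2
  have hs1 : s ≠ 1 := hne v1 hv1 (by rw [hv14]; exact pt_ne (by norm_num) (by norm_num) (by norm_num))
  have ht1 : t ≠ 1 := hne v2 hv2 (by rw [hv24]; exact pt_ne (by norm_num) (by norm_num) (by norm_num))
  have hst1 : s * t ≠ 1 := by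
    intro h
    have h1 : s = t := by
      have := Uz_sq htU
      calc s = s * (t * t) := by rw [this, mul_one]
        _ = (s * t) * t := by group
        _ = t := by rw [h, one_mul]
    have h2 : (⟨v1, hv1.1⟩ : M24) = ⟨v2, hv2.1⟩ := by
      have e1 : (⟨v1, hv1.1⟩ : M24) = g * s * g⁻¹ := by rw [hs]; group
      have e2 : (⟨v2, hv2.1⟩ : M24) = g * t * g⁻¹ := by rw [ht]; group
      rw [e1, e2, h1]
    have h3 : v1 = v2 := congrArg Subtype.val h2
    rw [h3, hv24] at hv14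
    exact pt_ne (i := 7) (j := 6) (by norm_num) (by norm_num) (by norm_num) hv14
  refine eq_bot_of_four hK (Uz_sq hsU) (Uz_sq htU) (Uz_comm hsU htU)
    (fun k hk => (Subgroup.mem_normalizer_iff.1 (hn hsU) _).1 hk)
    (fun k hk => (Subgroup.mem_normalizer_iff.1 (hn htU) _).1 hk) (hfree s hsU hs1) (hfree t htU ht1)
    (hfree (s * t) ((Uz g).mul_mem hsU htU) hst1)

end main24

end H91.M24Cent
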