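import Cfsg.Prelude.Def_MonsterType
import Cfsg.Agent.Lib.H91.InvForm
import Cfsg.Agent.Lib.H91.LargeExtra

/-!
The invariant quadratic form on the Leech lattice attached to a group of Monster type.
-/

set_option autoImplicit false

namespace H91.MonsterForm

open Cfsg H91.InvForm

/-- An extraspecial 2-group, elementwise. -/
structure XS (P : Type*) [Group P] (ζ : P) : Prop where
  ne : ζ ≠ 1
  sq_ζ : ζ * ζ = 1
  comm : ∀ x, x * ζ = ζ * x
  center : ∀ x, x ∈ Subgroup.center P ↔ x = 1 ∨ x = ζ
  sq : ∀ x : P, x * x = 1 ∨ x * x = ζ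
  cm : ∀ x y : P, y * x = x * y ∨ y * x = ζ * (x * y)

theorem exists_XS {P : Type*} [Group P] [Finite P] (h : IsExtraspecial 2 P) : ∃ ζ : P, XS P ζ := by
  obtain ⟨⟨hP, hfr, hcom⟩, hcard⟩ := h
  obtain ⟨z0, hz0, hz1, huniq⟩ : ∃ z0 : P, z0 ∈ Subgroup.center P ∧ z0 ≠ 1 ∧
      ∀ x ∈ Subgroup.center P, x = 1 ∨ x = z0 := by
    rw [Nat.card_eq_two_iff' (1 : Subgroup.center P)] at hcard
    obtain ⟨y, hy, hyu⟩ := hcard
    refine ⟨y, y.2, ?_, ?_⟩
    · intro h; exact hy (Subtype.ext h)
    · intro x hx
      by_cases hx1 : x = 1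
      · exact Or.inl hx1
      · right
        have := hyu ⟨x, hx⟩ (fun h => hx1 (congrArg Subtype.val h))
        exact congrArg Subtype.val this
  have hzz : z0 * z0 = 1 := by
    rcases huniq _ (Subgroup.mul_mem _ hz0 hz0) with h | h
    · exact h
    · exfalso; apply hz1; simpa using h
  refine ⟨z0, hz1, hzz, fun x => Subgroup.mem_center_iff.1 hz0 x, fun x => ⟨huniq x, ?_⟩, fun x => ?_, fun x y => ?_⟩
  · rintro (rfl | rfl)
    · exact Subgroup.one_mem _
    · exact hz0
  · have := H91.LargeExtra.sq_mem_frattini hP x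
    rw [hfr] at this
    exact huniq _ this
  · have : (y * x * y⁻¹ * x⁻¹ : P) ∈ commutator P := by
      rw [← commutatorElement_def]
      exact Subgroup.commutator_mem_commutator (Subgroup.mem_top _) (Subgroup.mem_top _)
    rw [hcom] at this
    rcases huniq _ this with h | h
    · left
      rw [mul_inv_eq_one, mul_inv_eq_iff_eq_mul] at h
      exact h
    · right
      rw [mul_inv_eq_iff_eq_mul, mul_inv_eq_iff_eq_mul, mul_assoc] at h
      exact h

open Classical in
/-- the square of `x`, as an element of `ZMod 2` -/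
noncomputable def sqf {P : Type*} [Group P] (x : P) : ZMod 2 := if x * x = 1 then 0 else 1

open Classical in
/-- the commutator of `x` and `y`, as an element of `ZMod 2` -/
noncomputable def cmf {P : Type*} [Group P] (x y : P) : ZMod 2 := if x * y = y * x then 0 else 1

theorem sqf_eq_zero {P : Type*} [Group P] (x : P) : sqf x = 0 ↔ x * x = 1 := by
  unfold sqf; split_ifs with h <;> simp [h]

theorem cmf_eq_zero {P : Type*} [Group P] (x y : P) : cmf x y = 0 ↔ x * y = y * x := by
  unfold cmf; split_ifs with h <;> simp [h]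

theorem XS.xx_iff {P : Type*} [Group P] {ζ : P} (X : XS P ζ) (x : P) : sqf x = 1 ↔ x * x = ζ := by
  unfold sqf
  rcases X.sq x with h | h
  · simp only [h, if_true]
    constructor
    · intro h'; exact absurd h' (by decide)
    · intro h'; exact absurd h'.symm X.ne
  · simp [h, X.ne]

theorem XS.sqf_mul {P : Type*} [Group P] {ζ : P} (X : XS P ζ) (x y : P) :
    sqf (x * y) = sqf x + sqf y + cmf x y := by
  have key : ∀ a : ZMod 2, (a = 0 ∨ a = 1) := by decide
  have hxy : (x * y) * (x * y) = x * (y * x) * y := by group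
  have hζ := X.comm x
  have hc1 : x * (ζ * (x * y)) * y = ζ * ((x * x) * (y * y)) := by
    calc x * (ζ * (x * y)) * y = (x * ζ) * (x * y * y) := by group
      _ = (ζ * x) * (x * y * y) := by rw [X.comm x]
      _ = _ := by group
  have hc2 : x * (x * y) * y = (x * x) * (y * y) := by group
  unfold sqf cmf
  rcases X.sq x with h1 | h1 <;> rcases X.sq y with h2 | h2 <;> rcases X.cm x y with h3 | h3
  all_goals
    rw [hxy, h3]
    first | rw [hc1] | rw [hc2]
    rw [h1, h2]
    have hne : ζ * (x * y) ≠ x * y := fun h => X.ne (mul_eq_right.1 h)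
    have hne' : x * y ≠ ζ * (x * y) := fun h => hne h.symm
    simp [X.ne, X.sq_ζ, hne']
  all_goals decide

theorem XS.cmf_comm {P : Type*} [Group P] (x y : P) : cmf x y = cmf y x := by
  unfold cmf
  by_cases h : x * y = y * x
  · simp [h]
  · rw [if_neg h, if_neg (fun h' => h h'.symm)]

theorem XS.cmf_mul {P : Type*} [Group P] {ζ : P} (X : XS P ζ) (x y w : P) :
    cmf (x * y) w = cmf x w + cmf y w := by
  have h1 := X.sqf_mul (x * y) w
  have h2 := X.sqf_mul x (y * w)
  have h3 := X.sqf_mul x y
  have h4 := X.sqf_mul y w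
  unfold cmf
  rcases X.cm x w with h1 | h1 <;> rcases X.cm y w with h2 | h2
  · have : x * y * w = w * (x * y) := by
      calc x * y * w = x * (y * w) := by group
        _ = x * (w * y) := by rw [h2]
        _ = (x * w) * y := by group
        _ = (w * x) * y := by rw [h1]
        _ = _ := by group
    simp [this, h1, h2]
  · have : x * y * w ≠ w * (x * y) := by
      intro h
      have h5 : w * (x * y) = ζ * (x * y * w) := by
        calc w * (x * y) = (w * x) * y := by group
          _ = x * (w * y) := by rw [h1]; group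
          _ = x * (ζ * (y * w)) := by rw [h2]
          _ = (x * ζ) * (y * w) := by group
          _ = _ := by rw [X.comm]; group
      rw [← h] at h5
      exact X.ne (mul_eq_right.1 h5.symm)
    have h6 : y * w ≠ w * y := by
      intro h
      rw [h2] at h
      exact X.ne (mul_eq_right.1 h.symm)
    simp [this, h1, h6]
  · have : x * y * w ≠ w * (x * y) := by
      intro h
      have h5 : w * (x * y) = ζ * (x * y * w) := by
        calc w * (x * y) = (w * x) * y := by group
          _ = ζ * (x * (w * y)) := by rw [h1]; group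
          _ = ζ * (x * (y * w)) := by rw [h2]
          _ = _ := by group
      rw [← h] at h5
      exact X.ne (mul_eq_right.1 h5.symm)
    have h6 : x * w ≠ w * x := by
      intro h
      rw [h1] at h
      exact X.ne (mul_eq_right.1 h.symm)
    simp [this, h2, h6]
  · have : x * y * w = w * (x * y) := by
      have h5 : w * (x * y) = (ζ * ζ) * (x * y * w) := by
        calc w * (x * y) = (w * x) * y := by group
          _ = ζ * (x * (w * y)) := by rw [h1]; group
          _ = ζ * (x * (ζ * (y * w))) := by rw [h2]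
          _ = ζ * (x * ζ) * (y * w) := by group
          _ = _ := by rw [X.comm]; group
      rw [h5, X.sq_ζ, one_mul]
    have h6 : x * w ≠ w * x := by
      intro h
      rw [h1] at h
      exact X.ne (mul_eq_right.1 h.symm)
    have h7 : y * w ≠ w * y := by
      intro h
      rw [h2] at h
      exact X.ne (mul_eq_right.1 h.symm)
    simp [this, h6, h7]
    decide

theorem XS.cmf_center {P : Type*} [Group P] {ζ : P} (X : XS P ζ) {c : P} (hc : c ∈ Subgroup.center P) (w : P) :
    cmf c w = 0 := by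
  rw [cmf_eq_zero]
  exact (Subgroup.mem_center_iff.1 hc w).symm

theorem XS.sqf_center {P : Type*} [Group P] {ζ : P} (X : XS P ζ) {c : P} (hc : c ∈ Subgroup.center P) :
    sqf c = 0 := by
  rw [sqf_eq_zero]
  rcases (X.center c).1 hc with rfl | rfl
  · simp
  · exact X.sq_ζ

/-- equality mod centre -/
theorem XS.sqf_congr {P : Type*} [Group P] {ζ : P} (X : XS P ζ) {x y : P}
    (h : (QuotientGroup.mk x : P ⧸ Subgroup.center P) = QuotientGroup.mk y) : sqf x = sqf y := by
  rw [QuotientGroup.eq] at h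
  have : y = x * (x⁻¹ * y) := by group
  rw [this, X.sqf_mul, XS.cmf_comm, X.cmf_center h, X.sqf_center h, add_zero, add_zero]

theorem XS.cmf_congr {P : Type*} [Group P] {ζ : P} (X : XS P ζ) {x y : P}
    (h : (QuotientGroup.mk x : P ⧸ Subgroup.center P) = QuotientGroup.mk y) (w : P) : cmf x w = cmf y w := by
  rw [QuotientGroup.eq] at h
  have : y = (x⁻¹ * y) * x := by
    have h2 := Subgroup.mem_center_iff.1 h x
    rw [← h2]; group
  rw [this, X.cmf_mul, X.cmf_center h, zero_add]

theorem sqf_conj {C : Type*} [Group C] (Q : Subgroup C) [hn : Q.Normal] (h : C) (x : Q) :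
    sqf (⟨h * x * h⁻¹, hn.conj_mem (x : C) x.2 h⟩ : Q) = sqf x := by
  have h7 : ((⟨h * x * h⁻¹, hn.conj_mem (x : C) x.2 h⟩ : Q) * ⟨h * x * h⁻¹, hn.conj_mem (x : C) x.2 h⟩ = 1) ↔
      x * x = 1 := by
    have e1 : (x * x = 1) ↔ ((x : C) * x = 1) := by
      rw [Subtype.ext_iff]; rfl
    have e2 : ((⟨h * x * h⁻¹, hn.conj_mem (x : C) x.2 h⟩ : Q) * ⟨h * x * h⁻¹, hn.conj_mem (x : C) x.2 h⟩ = 1) ↔
        (h * (x : C) * h⁻¹) * (h * x * h⁻¹) = 1 := by
      rw [Subtype.ext_iff]; rfl
    rw [e1, e2]
    have h8 : (h * (x : C) * h⁻¹) * (h * x * h⁻¹) = h * (x * x) * h⁻¹ := by group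
    rw [h8]
    constructor
    · intro h9
      have : (x : C) * x = h⁻¹ * (h * (x * x) * h⁻¹) * h := by group
      rw [this, h9]; group
    · intro h9; rw [h9]; group
  unfold sqf
  by_cases h9 : x * x = 1
  · rw [if_pos (h7.2 h9), if_pos h9]
  · rw [if_neg (fun h => h9 (h7.1 h)), if_neg h9]

theorem exists_form {G : Type*} [Group G] [Finite G] {z : G} {Q : Subgroup (Subgroup.centralizer ({z} : Set G))}
    [Q.Normal] {e : (Subgroup.centralizer ({z} : Set G)) ⧸ Q ≃* Spor.Co1}
    {ψ : leechLattice → Q ⧸ Subgroup.center Q} (hQ : IsExtraspecial 2 Q) (hψ : IsLeechModTwoIso Q e ψ) :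
    ∃ (q : leechLattice → ZMod 2) (b : leechLattice → leechLattice → ZMod 2), InvForm q b ∧
      (∀ (v : leechLattice) (x : Q), ψ v = QuotientGroup.mk x → q v = sqf x) ∧
      (∀ (v w : leechLattice) (x y : Q), ψ v = QuotientGroup.mk x → ψ w = QuotientGroup.mk y → b v w = cmf x y) := by
  obtain ⟨ζ, X⟩ := exists_XS hQ
  obtain ⟨h1, h2, h3, h4⟩ := hψ
  let l : leechLattice → Q := fun v => (ψ v).out
  have hl : ∀ v, ψ v = QuotientGroup.mk (l v) := fun v => (QuotientGroup.out_eq' (ψ v)).symm
  have hq : ∀ (v : leechLattice) (x : Q), ψ v = QuotientGroup.mk x → sqf (l v) = sqf x := by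
    intro v x hx
    apply X.sqf_congr
    rw [← hl, hx]
  have hb : ∀ (v w : leechLattice) (x y : Q), ψ v = QuotientGroup.mk x → ψ w = QuotientGroup.mk y →
      cmf (l v) (l w) = cmf x y := by
    intro v w x y hx hy
    rw [X.cmf_congr (x := l v) (y := x) (by rw [← hl, hx]), XS.cmf_comm,
      X.cmf_congr (x := l w) (y := y) (by rw [← hl, hy]), XS.cmf_comm]
  refine ⟨fun v => sqf (l v), fun v w => cmf (l v) (l w), ?_, hq, hb⟩
  refine ⟨fun v w => ?_, fun u v w => ?_, fun v w => XS.cmf_comm _ _, fun v => ?_, fun g v => ?_⟩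
  · show sqf (l (v + w)) = _
    rw [hq (v + w) (l v * l w) (by rw [h1, hl v, hl w]; rfl), X.sqf_mul]
  · show cmf (l (u + v)) (l w) = _
    rw [hb (u + v) w (l u * l v) (l w) (by rw [h1, hl u, hl v]; rfl) (hl w), X.cmf_mul]
  · exact (cmf_eq_zero _ _).2 rfl
  · obtain ⟨h, hh⟩ := QuotientGroup.mk_surjective (e.symm (QuotientGroup.mk g))
    have h5 := h4 h g (by rw [hh, MulEquiv.apply_symm_apply]) v (l v) (hl v)
    show sqf (l (g • v)) = sqf (l v)
    rw [hq _ _ h5]
    exact sqf_conj Q h _

end H91.MonsterForm
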