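import Mathlib
import Cfsg.Prelude.Def_KGroupFacts
import Cfsg.Agent.Lib.H35.StemPerf
import Cfsg.Agent.Lib.H91.MulGen
import Cfsg.Agent.Lib.H9.M21
import Cfsg.Agent.Lib.H40.OutM22
import Cfsg.Agent.Lib.H91.TCL34A
import Cfsg.Agent.Lib.H91.TCL34B

set_option autoImplicit false
set_option maxRecDepth 100000
set_option linter.all false

/-! The Schur multiplier of PSL(3,4): order 3 · 4 · 4. -/

namespace H91.MulL34
open Subgroup H35.Stem H35.TC H35.Net H40.PermCode H40.MathieuBase H8.GolayCode MulAction Cfsg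
open scoped commutatorElement

abbrev X := Fin 3

/-- exponents of the letters -/
def nn : X → ℕ := ![7, 7, 7]

/-- the group: the stabiliser of three points in `M24` -/
def G0 : Subgroup (Equiv.Perm GolayPt) := (H9.M21.St (pt 21) (pt 22) (pt 23)).map M24.subtype

noncomputable def isoG0 : ↥(H9.M21.St (pt 21) (pt 22) (pt 23)) ≃* G0 :=
  (H9.M21.St (pt 21) (pt 22) (pt 23)).equivMapOfInjective _ M24.subtype_injective

/-- codes -/
def code : X → ℕ := ![0xbdaa7818514802f9386b22a6ca34a8, 0xbdaa38cc2b2150f33a90602493b542, 0xbdab3850011c9857a1678912a6b846]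
def codei : X → ℕ := ![0xbdaa32ae1362844419e0a48274c5ae, 0xbdaa991668628478048d1adcfa0226, 0xbdab2a38f35886d490aa4018678611]
theorem okk : ∀ x, okc 5 24 (code x) (codei x) = true := by intro x; fin_cases x <;> decide +kernel
noncomputable def perm (x : X) : Equiv.Perm GolayPt := ofCode E24 5 (code x) (codei x) (okk x)
theorem rep_c (x : X) : Rep E24 5 (perm x) (code x) := rep_ofCode _
theorem rep_ci (x : X) : Rep E24 5 (perm x)⁻¹ (codei x) := rep_ofCode_inv _

theorem mem_of {γ : Equiv.Perm GolayPt} {c : ℕ} (h : Rep E24 5 γ c) (hm : memc c = true)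
    (h1 : tab 5 c 21 = 21) (h2 : tab 5 c 22 = 22) (h3 : tab 5 c 23 = 23) : γ ∈ G0 :=
  ⟨⟨γ, mem_of_rep h hm⟩, ⟨⟨H40.OutM23.fix_of_rep h (by norm_num) h1, H40.OutM23.fix_of_rep h (by norm_num) h2⟩,
    H40.OutM23.fix_of_rep h (by norm_num) h3⟩, rfl⟩

theorem mem (x : X) : perm x ∈ G0 := by
  refine mem_of (rep_c x) ?_ ?_ ?_ ?_ <;> fin_cases x <;> decide +kernel
noncomputable def g (x : X) : G0 := ⟨perm x, mem x⟩
theorem tr {w : W X} (h : isOne 5 24 (evc 5 24 code codei w) = true) : ev g w = 1 :=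
  ev_one_of_code hn24 (g := g) rep_c rep_ci h
theorem hord (x : X) : g x ^ nn x = 1 := by
  have h : ∀ x, isOne 5 24 (evc 5 24 code codei (rep [(x, true)] (nn x))) = true := by intro x; fin_cases x <;> decide +kernel
  have h1 := tr (h x)
  rw [ev_rep] at h1
  change (g x * 1) ^ nn x = 1 at h1
  rwa [mul_one] at h1
theorem hn : ∀ x, Nat.Coprime (nn x) 288 := by decide

/-- letters of level A -/
def SA : X → Bool := ![true, true, true]

/-- lower letters of level A -/
def TA : X → Bool := ![true, true, false]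

/-- no letters -/
def UA : X → Bool := fun _ => false

def wdA : H91.TCL34A.Lt → W X
  | .b => [(0, true)]
  | .bi => [(0, false)]
  | .d => [(1, true)]
  | .di => [(1, false)]
  | .e => [(2, true)]
  | .ei => [(2, false)]

def rulesA : List (Rule X) := [
  .conj [(1, true), (0, false)] [(1, true)] [(0, false)] 7,
  .conj [(2, false), (1, true)] [(2, false), (2, false)] [(0, false)] 7,
  .conj [(2, false), (1, true)] [(2, true)] [(0, false), (0, false), (0, false)] 7,
  .conj [(1, true), (2, false), (0, false)] [(2, false)] [(0, false), (0, false)] 7,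
  .conj [(0, true), (2, true), (0, false)] [(1, true), (1, true)] [(2, false)] 7,
  .conj [(0, false), (1, false), (0, false), (2, false)] [(1, true)] [(2, false)] 7]

def cenA : H91.TCL34A.Lt → Bool
  | _ => false

def CA : CP X H91.TCL34A.Lt where
  iv := fun _ => false
  wd := wdA
  cen := cenA
  q := 288
  exact := rulesA.map fun r => red (fun _ => false) (r.word nn)

theorem htA : ∀ r ∈ rulesA, ∀ w ∈ r.needs nn, ev g w = 1 := by
  have h : ((rulesA.flatMap (Rule.needs nn)).all fun w => isOne 5 24 (evc 5 24 code codei w)) = true := by decide +kernel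
  intro r hr w hw
  exact tr (List.all_eq_true.1 h w (List.mem_flatMap.2 ⟨r, hr, hw⟩))
theorem hcA : ∀ z, CA.cen z = true → ev g (CA.wd z) = 1 := by
  intro z hz
  refine tr ?_
  cases z <;> first | (exact absurd hz (by decide)) | decide +kernel

theorem lvdA {P' : Type} [Group P'] [Finite P'] {f : X → P'}
    (ht : ∀ r ∈ rulesA, ev f (r.word nn) = 1) :
    Nat.card (Kl f SA) ≤ 2880 * Nat.card (Kl f TA) := by
  have hh : CA.Holds f := holdsD (rules := rulesA) (n := nn) (fun _ h => absurd (show false = true from h) (by decide)) rfl ht (fun z hz => absurd hz (by cases z <;> decide)) (fun z hz => absurd hz (by cases z <;> decide))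
  obtain ⟨hinv, hrel⟩ := CP.relOK hh (inv := H91.TCL34A.inv) (mm := H91.TCL34A.mm) (ex := H91.TCL34A.extra) (by intro x; cases x <;> decide +kernel)
    (by intro x y; cases x <;> cases y <;> decide +kernel) (by decide +kernel)
  exact level (subs := H91.TCL34A.subs) (fun H hH => H91.TCL34A.main hinv hrel.1 hrel.2 hH) (by decide +kernel) (by
    intro x hx
    fin_cases x
    · exact ⟨.b, rfl⟩
    · exact ⟨.d, rfl⟩
    · exact ⟨.e, rfl⟩)

/-- letters of level B -/
def SB : X → Bool := ![true, true, false]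

/-- lower letters of level B -/
def TB : X → Bool := ![true, false, false]

/-- no letters -/
def UB : X → Bool := fun _ => false

def wdB : H91.TCL34B.Lt → W X
  | .b => [(0, true)]
  | .bi => [(0, false)]
  | .d => [(1, true)]
  | .di => [(1, false)]

def rulesB : List (Rule X) := [
  .conj [(1, true), (0, false)] [(1, true)] [(0, false)] 7,
  .conj [(1, false), (0, false), (1, false), (1, false), (1, false)] [(0, false)] [(0, false), (0, false)] 7]

def cenB : H91.TCL34B.Lt → Bool
  | _ => false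

def CB : CP X H91.TCL34B.Lt where
  iv := fun _ => false
  wd := wdB
  cen := cenB
  q := 288
  exact := rulesB.map fun r => red (fun _ => false) (r.word nn)

theorem htB : ∀ r ∈ rulesB, ∀ w ∈ r.needs nn, ev g w = 1 := by
  have h : ((rulesB.flatMap (Rule.needs nn)).all fun w => isOne 5 24 (evc 5 24 code codei w)) = true := by decide +kernel
  intro r hr w hw
  exact tr (List.all_eq_true.1 h w (List.mem_flatMap.2 ⟨r, hr, hw⟩))
theorem hcB : ∀ z, CB.cen z = true → ev g (CB.wd z) = 1 := by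
  intro z hz
  refine tr ?_
  cases z <;> first | (exact absurd hz (by decide)) | decide +kernel

theorem lvdB {P' : Type} [Group P'] [Finite P'] {f : X → P'}
    (ht : ∀ r ∈ rulesB, ev f (r.word nn) = 1) :
    Nat.card (Kl f SB) ≤ 48 * Nat.card (Kl f TB) := by
  have hh : CB.Holds f := holdsD (rules := rulesB) (n := nn) (fun _ h => absurd (show false = true from h) (by decide)) rfl ht (fun z hz => absurd hz (by cases z <;> decide)) (fun z hz => absurd hz (by cases z <;> decide))
  obtain ⟨hinv, hrel⟩ := CP.relOK hh (inv := H91.TCL34B.inv) (mm := H91.TCL34B.mm) (ex := H91.TCL34B.extra) (by intro x; cases x <;> decide +kernel)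
    (by intro x y; cases x <;> cases y <;> decide +kernel) (by decide +kernel)
  exact level (subs := H91.TCL34B.subs) (fun H hH => H91.TCL34B.main hinv hrel.1 hrel.2 hH) (by decide +kernel) (by
    intro x hx
    fin_cases x
    · exact ⟨.b, rfl⟩
    · exact ⟨.d, rfl⟩
    · exact absurd hx (by decide))

/-- codes of the permutations on 63 + 224 + 224 points -/
def pcode : X → ℕ := ![0x74f81f2e5e7341dfdce270f85cbf3f83fedeeef71c6d9f9bc96cfae9fb57dcdeafd3aebd78317efeae3be1f4f5d86ef71aff8ef39ada65ab3acac6fbd1fae6fe7e370b2d8ec5eaf3fb349ddedf969ffcfdf0f7590cfd2ffb8dd8e469192a3fde8d88d7e0e89b6fb50a9994c67cf5395d44ff7f80b577a7bcabfe8ad7edb46875bd6fc5f27382c9ce38bc89bd7a77e2ccd9ba355b6d3acfee99d6aa3a6c24c7b350c3526ad5be75026d2ef0d73b9a5d9763af2bea74b99d094d926928e4f1f47b7baf138526ceef2a5b5a9c93613c91eaaed22abcab3d219ae62e76ec7d83154ab9606fd7bbc5d2656f985a6412d965768727aa4969b2f9f516831f9d2dda6b68e33160cd792edfedd81b9d41028b30d3ae44e44134ee6e479eb1849c25951b4645dca884a345b28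65ec11ed1941a8616b385201f6916a9fa26d6571e8f6c953361c6fe78b88e7087e3a0e4d275a79a8bf872c9851d351b1828d8a9d5bed75e2d4dc67679960ac74219228c534baa24af5246a0cdb6f3c0d6ab88a61725c43c3504ce5d1c0b27487b80b0ac2f3e4af0c77a6e0e5d80a5caa9054bddcc8e7694e007c293a4b4fd79be9f0c87a2289e56761a09ab15a22d3e6d543852ac638b6924783baf8ec4765b408c89313110ac02291170a35290d5a615529cf2a220a652c4a479fcfa51282049c3f26124966f24180cc632f96c8454200bc18250d0e0062e088f404270a0d812200d84c50011f0703e0a1a8644c0b180485a041b81c681d11000761614814740f160386218118ac2039030902e32068843c33040a82a3c, 0x7d377b0ec6bf47c1cef437b8af6f4793dfff6e3e5c7fd6bb23b5e9dab41e6b4d9f4bccb3642cb7af17b2c5f8bbe3ec189e5f3b19fbc156b65eef86df87d5c7553277ba8e5375acc2fe6b1c2cbfda9bfdadfd6af95d1767f99ce05934d47bc77795a7edd13af5fa1dcba950b76b70d88a06faf948f04f6ed6fd4f232d8db9cff673af47dfb97d9c7be95abf4cdb31f3dcfc69334d0f133dcfeb74bcfebf0da3cb55a77ab9b2ff1cbbc9de96dd6b92ced5b2573bcd66f6929a9d77554bc3f1a4f30e2dfa4dbfde49733b6925c76323ba58f5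132d26073f31a360e41928fe031739c24deff35bcccec370b6dae8b419557a5159ab54a9f4c91486853e9e3c56ccb87341cccd573fe24d86ea85f10273a75b31e5bc260f106e431aec15d3b966da5c2d131116740186a07535508ca5345a1719403bd4eab5fc4da49e3da59e4b53bc0de8d64e1cdc29a68c5e387e8c3f9a904392f4d515469f5d6c234bdd49055e418cc6e32c35eac56430126628eac976fd63181931b719d6348f7d17518a54733dd85a8a1e0f2742c3e4bcaa8795dc0e48515a10e5581e916f37dbc202534121df85f409a128ad542210cf66f138a09976935d2a374151444b4838894df24b6d2a6f4198ce24c69919986c63b1158445f19172432dac55e7c42aa484414fa6d2e9248a2912471f900fe4f289d89070369acce4530970b255290c81c260d0b8243a0305854021f0286c1e110047a151487442091a8943231068e40a2d088803834040f000280a010701016060480c1803c56031b82c5e17118cc0e1f0d89c263b, 0x7aff1f5d8f1721cfc4f9bd5f3ee6ab87dafa62b5775b7f52e3d7b5ff31facdafdb73e3e3d97cf7cba7ded9a6d4fbbfde2cc7a39bd6adf2f4f58d455f0156ad5a785a2fd632ff50c5d729dadbd537a1b6a6583bdfda5e6fb193cfd2393f9cbef6cf85a26834983cb777f741ce7b35d40e55e3abc49edef0fcc9e7c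6e53bb86967592e95a347cee37026fb7aaddec535b6fcb7547f84cfdf9ef6e6a6554ecf926195b272295e9e9f7fcbe1dff82593eedcaf7959954b7a37ed9ca3094f93ce71b81d960a8bc1d86fb77b8da61aa3afbcdaa855eafc97439d90666a594c8e3a3f889c5866d7d9a5dae731b74bebb66b1ca67f229354e4923a4d1a8721973e5d71469c1216ec86ab554df50b95c2c1542b93b1c89c0daef65fc25c493512494d114cb8d14d443ba10b0f8ec058b197ebc1708179ada00f83f2be2e8e86308f3084dc6978758ab7572de7e2f9feca36a30d86b3eadd46d9663a4d2ed489a1f4674e3be3d1b70408c8cb31c48eccf3b984e27030344d45f73179166f4d4620edb8b39d810e56165aa58853b96295883219a567db41d4978322501052a2c8c4a463a794a527a144b8fe283d49ef7273c9e24d53a0d869f2636896e4252a588ba48370908232b60aad63fb499c4564b18887b2daf576b45aacd607355a3cf0965010130942ba34cc88432107e7c3d124e8723711c8c4321174b441298043a251c8501030160a86c0e090ec3e17018242a2d188700038120887c060d0cc4e0f0583422291a860083c1009874020f0bc56130381432211e8401834140b8640a0b0dc461b]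
def pcodei : X → ℕ := ![0x7c363b8dbf238d8bd568fcfd8cf7f38bd9ee5e321beebf03c3c9dffab75e9e9602cfdefc65b7965ddf96e362b0e33b75fff57afb5cf95af8f5dfde52af84ab7b30b52db547e3fdccf2bdf4ef76d7efedaa69299cff5d8f5f49d3f831bccf151b3b9bf35d2c9bdaae4b1df9d9d069ffaf1f42ff3ef9f3b39a0c3eb35db49df6b619feece7eda8fadbfe973d36226d98c9cd7c98a9a77fa333ead16a7329ecdfa9c4984f2f7e8c8e5e5d8fbcdfb875ae1707ad3ae9e0a5566b65db9bcba1db6f927a5d36eb70dcdea4ba1d94e2ddadd5ea645a594e8a436acd48f2b48c0c7f1386c1da67f59bbcc6e52f925a2592bb050ab758945424d4aa3d12812d90419a11b802d9e9047f43d96bd74ae55f0a51b4d549c78bbe04dc4cad582f689c412e8d8ab8110db76a193c85493d60a8343c5dbeb24dc211e7f6bae914da89245fb0c70b78eca264ace29075a1c9f2e2643a1d6d58eb61f46a61aa2311a35c05c884601d17866873459a646a1b9eec78b29d5a618f4718c7b78348f9195c39cbaa05816d26772d38cbeb730161e5113cb5a1b0b4d424acae4b154eafb819c5d89429a4198ff3d208d0fc55be0cabf79aa49cee293a8a28c72b98b270379b594a46eb64e6a624314f0ce58b3d767e6211584be2219cb84621a7d30ac212254aa14ea012a404722ca04f40934fa4b249509447361a4c6622f104ae3f260ac6c000c854183a0f8c84e1d0202022231f0e04213070082e2d1a094780a0786c0c3014814382a178ec4c10048600233170886e0d0a0480e3d120a062030f02c2c201c8d4581a,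 0x7bf71b1e87af7dd8c56eb6dfec07b6fdcbc3733e7daba5bb078bbaf92e369b5f6ee797f85a35589d3d8f65fbd2ddf91a1f3ddbe5f6bc74adbe0e9ea7e392f655aa77ae4ef3f1afa866beb4ffef06ffeee5533d15dc6f3693fcfd7ab3dc0c25672745d46b7c343fcecef7e5a0de7efb0af57e9b81dde4769c2e2cf3d3deeb71f21d19cfd3a99cabe777f379f73e853a9ad4b1199e277267abebe56cd47c7e8a9530ca67e5f629779bc772f177fbbaea376663d5d24aab565dbf3a51bddac9ee1c6adc9b87a092dbf7324ac616fb98d64fe5ba6d1c86599bc74832d1fb063271879b60a697c995128154b65aacf64b0caeb929aad469d4ba448e453d9dc3176d95a2c5e0d76d3c9a0a775455f9084fc6d850678a6e149984b1990d47144122fa8b359708d49abd45116521182e14a3963c9277408fea966bdcfa7b87c65309c599d9ba9d3a20e2707394021b1482b81ecd535ba5b71a553ee30698e3d16abf33add80667cb3208be7598da4c75cc0cc2ff85c75c8fe80ae8bc972ec5d106576280b48776bcd58c93e1e624f82bba21cdf2b37100fd2ab98e2895e950a677582ad9ead4a948a28647214b6f537a3d16ef26b619c5c73a594aa67192964a46f34cda48383108e6823345968a22b158662372f086b6462855c422faa082a34f268807a480fc968126208fc6c3c1d4e649281a8886430164b04e278cc5a1a000e04415058c44e1c030f8480f048e84013068d45618010f04c11038bc521e020c0541d018ec4a12040d85817008e43e14070f44610050c8501b028dc4216060d05c19,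 0x75769e6d0f0f59fded78bf9effa5fb257bbcf5aef9eff7d6d9d2eefdad372f0752d166b56d745f3b1fc2e7b1f474333eab5e2ebbb9fc623a394e766f5b6eefe1ff598f8f16a186b3d3b5561a6df7c34cc26e3c74badd4ff74fa467779e4f6fcbafcbe6f631da5c4f1283a6d7de2819fd95da7dd3d5e8ee13cd863277f9f2ceaabc2dffbbef38cad2b5159d254aa9c9e0d7269dccb6ee8f9ac14cbd9db98e47d38ff5cbeffd9f3d1b8d8ad4cb3bd6f95e066db6a1d125bbee7f1ec1cce57230774934f693c0ac6f775b7d9db647aebe48aa3a790d17419c94d932f93c8636ad37c2cd70133bd5d661719747ebd65b157e555aabc9e8525924a2413f9cb15ef0c62389e8ae74aadbf1c85afa009f7c2a22ee78ca8e0ce456a5d291a85309eced6ca21e6db4db263cec424210c8b77a0902f26328999188ea659cfa552ce24787f41622c38a371bc72561e9a06e849b14afc8d9a96c9a5e1a53acf60360ce9e47999ea753eb9a20a983b68c4e1309d1baf1693b8be602f249425d7543a2ca72dc54ed0f3fc051a9068c0e26573e23a1ac771abdfe554c16140548240996732d3a0a4d658bf52c507d93df24e3f1c1e09535bada64c3212dca595daf5c0492e12172b85811daed56a2d59aca64144dec15fa4574b75a2c88489319054ca429a70da931fa31148742a0d007b3c9dc947123114d0652210c8056268941618190547628010d43608110145638090185837088d838071085878270089818171884c7a2a0008c1a1a1800c5a3a080cc3a0a100d03c090f8105c39078901c19178507c29]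
theorem pok : ∀ x, okc 9 511 (pcode x) (pcodei x) = true := by intro x; fin_cases x <;> decide +kernel
noncomputable def pp (x : X) : Equiv.Perm (Fin 511) := ofCode (finCoding 511) 9 (pcode x) (pcodei x) (pok x)
theorem prep (x : X) : Rep (finCoding 511) 9 (pp x) (pcode x) := rep_ofCode _
theorem prepi (x : X) : Rep (finCoding 511) 9 (pp x)⁻¹ (pcodei x) := rep_ofCode_inv _
theorem ptr {w : W X} (h : isOne 9 511 (evc 9 511 pcode pcodei w) = true) : ev pp w = 1 :=
  (Rep.isOne_iff (rep_evc (by norm_num) (g := pp) prep prepi w)).1 h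
theorem ptr' {w : W X} (h : ev pp w = 1) : isOne 9 511 (evc 9 511 pcode pcodei w) = true :=
  (Rep.isOne_iff (rep_evc (by norm_num) (g := pp) prep prepi w)).2 h
theorem pt2 {w : W X} (h : (isOne 5 24 (evc 5 24 code codei w) && isOne 9 511 (evc 9 511 pcode pcodei w)) = true) :
    ev (pr pp g) w = 1 := by
  rw [Bool.and_eq_true] at h
  rw [ev_pr, tr h.1, ptr h.2]
  rfl

/-- words of the elementary transvections -/
def tw1 (i j : Fin 3) : W X :=
  match i.1, j.1 with
  | 0, 1 => [(0, true), (1, false), (2, true), (1, false), (1, false), (2, true), (1, false)]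
  | 0, 2 => [(0, false), (1, true), (2, true), (0, true), (2, false), (1, false), (2, true)]
  | 1, 0 => [(0, true), (1, true), (0, false), (2, true), (1, false), (2, false), (1, false)]
  | 1, 2 => [(0, true), (1, true), (2, false), (0, false), (1, true), (2, false), (2, false), (1, true)]
  | 2, 0 => [(0, true), (1, false), (0, false), (2, true), (2, true), (0, true)]
  | 2, 1 => [(1, true), (2, false), (1, false), (0, false), (1, false), (2, false), (2, false)]
  | _, _ => []
def tw2 (i j : Fin 3) : W X :=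
  match i.1, j.1 with
  | 0, 1 => [(0, false), (1, false), (1, false), (2, true), (1, true), (2, true), (2, true)]
  | 0, 2 => [(0, true), (0, true), (2, true), (0, true), (1, false), (0, true), (2, true), (1, false)]
  | 1, 0 => [(0, false), (1, false), (1, false), (2, false), (2, false)]
  | 1, 2 => [(0, false), (2, true), (1, true), (2, false), (0, true), (2, false)]
  | 2, 0 => [(0, false), (0, false), (2, true), (0, true), (1, false), (2, false), (1, false)]
  | 2, 1 => [(0, true), (2, true), (0, true), (1, false), (2, false), (1, true)]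
  | _, _ => []

/-- central words -/
def z3 : W X := [(2, true), (2, true), (1, true), (2, false), (1, false), (2, false), (0, false), (2, false), (0, false), (0, false)]
def z1 : W X := [(2, false), (0, false), (1, false), (2, true), (1, true), (1, true), (0, false), (0, false), (0, false)]
def z2 : W X := [(1, false), (2, false), (0, false), (0, false), (1, false), (0, false), (2, false), (1, true), (0, false), (0, false), (0, false)]

theorem gen_aux (γ : Equiv.Perm GolayPt) (w : W X) {c : ℕ} (hγ : Rep E24 5 γ c) (hmem : γ ∈ G0)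
    (h : eqc 5 24 c (evc 5 24 code codei w) = true) : (⟨γ, hmem⟩ : G0) ∈ Kl g SA := by
  rw [show (⟨γ, hmem⟩ : G0) = ev g w from eq_ev_of_code hn24 (g := g) rep_c rep_ci (p := ⟨γ, hmem⟩) hγ h]
  refine ev_mem_Kl ?_
  rw [List.all_eq_true]
  intro a _
  have : ∀ x : X, SA x = true := by decide
  exact this a.1

theorem okt1 : ∀ i j : Fin 3, i ≠ j → eqc 5 24 (H9.M21.tc1 i j) (evc 5 24 code codei (tw1 i j)) = true := by decide +kernel
theorem okt2 : ∀ i j : Fin 3, i ≠ j → eqc 5 24 (H9.M21.tc2 i j) (evc 5 24 code codei (tw2 i j)) = true := by decide +kernel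

theorem tab_eq (c i : ℕ) : H8.M24Mem.tab c i = H40.PermCode.tab 5 c i := by
  unfold H8.M24Mem.tab H40.PermCode.tab
  exact Nat.and_two_pow_sub_one_eq_mod (c >>> (5 * i)) 5

theorem rep_permOf {T : ℕ} (h : ∀ k : Fin 24, H8.M24Mem.tab T (H8.M24Mem.tab T k) = k ∧ H8.M24Mem.tab T k < 24) :
    Rep E24 5 (H9.M21.permOf (H8.M24Mem.tab T) h) T := by
  intro p
  have h1 := H9.M21.idx_permOf h p
  rw [tab_eq] at h1
  exact h1

/-- the subgroup of permutations generated by the letters -/
noncomputable def HP : Subgroup (Equiv.Perm GolayPt) := (Kl g SA).map G0.subtype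

theorem hom_G0 (A : Matrix.SpecialLinearGroup (Fin 3) H9.M21.K4) : (H9.M21.hom A).1 ∈ G0 :=
  ⟨H9.M21.hom A, (H9.M21.hom' A).2, rfl⟩

theorem hom_eq {A : Matrix.SpecialLinearGroup (Fin 3) H9.M21.K4} {γ : Equiv.Perm GolayPt} (h : H9.M21.Good A γ) :
    (H9.M21.hom A).1 = γ := (H9.M21.hom_good A).unique h

theorem hom_HP (A : Matrix.SpecialLinearGroup (Fin 3) H9.M21.K4) : (H9.M21.hom A).1 ∈ HP := by
  have hmul : ∀ A B : Matrix.SpecialLinearGroup (Fin 3) H9.M21.K4, (H9.M21.hom A).1 ∈ HP → (H9.M21.hom B).1 ∈ HP →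
      (H9.M21.hom (A * B)).1 ∈ HP := by
    intro A B hA hB
    rw [map_mul]
    exact HP.mul_mem hA hB
  refine H6.SLGen.transvection_induction (fun A => (H9.M21.hom A).1 ∈ HP) ?_ hmul A
  intro i j hij c
  have h1 := H9.M21.good_of_table hij 1 _ (H9.M21.ok_inv1 i j hij) (H9.M21.ok_code1 i j hij) (H9.M21.ok_act1 i j hij) (H9.M21.ok_fix1 i j hij)
  have h2 := H9.M21.good_of_table hij H9.M21.w _ (H9.M21.ok_inv2 i j hij) (H9.M21.ok_code2 i j hij) (H9.M21.ok_act2 i j hij) (H9.M21.ok_fix2 i j hij)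
  have m1 : (H9.M21.hom (Matrix.SpecialLinearGroup.transvection hij 1)).1 ∈ HP := by
    have e := hom_eq h1
    have hm := hom_G0 (Matrix.SpecialLinearGroup.transvection hij 1)
    rw [e] at hm ⊢
    exact ⟨⟨_, hm⟩, gen_aux _ (tw1 i j) (rep_permOf _) hm (okt1 i j hij), rfl⟩
  have m2 : (H9.M21.hom (Matrix.SpecialLinearGroup.transvection hij H9.M21.w)).1 ∈ HP := by
    have e := hom_eq h2
    have hm := hom_G0 (Matrix.SpecialLinearGroup.transvection hij H9.M21.w)
    rw [e] at hm ⊢
    exact ⟨⟨_, hm⟩, gen_aux _ (tw2 i j) (rep_permOf _) hm (okt2 i j hij), rfl⟩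
  rcases H9.M21.K4_eq c with rfl | rfl | rfl | rfl
  · have h0 : (Matrix.SpecialLinearGroup.transvection hij (0 : H9.M21.K4) : Matrix.SpecialLinearGroup (Fin 3) H9.M21.K4) = 1 := by
      apply Subtype.ext
      show Matrix.transvection i j (0 : H9.M21.K4) = 1
      simp
    change (H9.M21.hom (Matrix.SpecialLinearGroup.transvection hij 0)).1 ∈ HP
    rw [h0, map_one]
    exact HP.one_mem
  · exact m1
  · exact m2
  · change (H9.M21.hom (Matrix.SpecialLinearGroup.transvection hij (1 + H9.M21.w))).1 ∈ HP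
    rw [Matrix.SpecialLinearGroup.transvection_add]
    exact hmul _ _ m1 m2

theorem hom'_surj : Function.Surjective H9.M21.hom' := by
  have hsim : IsSimpleGroup (Matrix.ProjectiveSpecialLinearGroup (Fin 3) H9.M21.K4) := H6.SLGen.psl_isSimpleGroup (by simp)
  have hz : ∀ z ∈ Subgroup.center (Matrix.SpecialLinearGroup (Fin 3) H9.M21.K4), H9.M21.hom' z = 1 := by
    intro z hz
    obtain ⟨r, h1, hr⟩ := Matrix.SpecialLinearGroup.mem_center_iff.1 hz
    have hr0 : r ≠ 0 := by
      rintro rfl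
      simp at h1
    have hg : H9.M21.Good z 1 := by
      refine ⟨one_mem _, fun x _ => rfl, fun x => ⟨r, hr0, ?_⟩⟩
      rw [← hr]
      refine funext fun k => ?_
      simp [Matrix.mulVec_diagonal]
    apply Subtype.ext
    apply Subtype.ext
    exact (H9.M21.hom_good z).unique hg
  let ψ : Matrix.ProjectiveSpecialLinearGroup (Fin 3) H9.M21.K4 →* ↥(H9.M21.St (pt 21) (pt 22) (pt 23)) :=
    QuotientGroup.lift _ H9.M21.hom' hz
  have hψ : Function.Injective ψ := by
    refine H6.Frame.injective_of_simple _ ?_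
    refine ⟨(Matrix.SpecialLinearGroup.transvection (zero_ne_one) 1 : Matrix.SpecialLinearGroup (Fin 3) H9.M21.K4), ?_⟩
    intro h
    have h1 := H9.M21.hom_good (Matrix.SpecialLinearGroup.transvection zero_ne_one 1 : Matrix.SpecialLinearGroup (Fin 3) H9.M21.K4)
    have h2 : (H9.M21.hom (Matrix.SpecialLinearGroup.transvection zero_ne_one 1 : Matrix.SpecialLinearGroup (Fin 3) H9.M21.K4)).1 = 1 :=
      congrArg (fun z : ↥(H9.M21.St (pt 21) (pt 22) (pt 23)) => z.1.1) h
    rw [h2] at h1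
    obtain ⟨c, hc, hc'⟩ := h1.2.2 (pt 1)
    rw [H9.M21.transvection_mulVec] at hc'
    apply H9.M21.not_good
    rcases H9.M21.K4_eq c with rfl | rfl | rfl | rfl
    · exact absurd rfl hc
    · left; exact hc'
    · right; left; exact hc'
    · right; right; exact hc'
  have h1 : pt 21 ≠ pt 22 := by decide +kernel
  have h2 : pt 21 ≠ pt 23 := by decide +kernel
  have h3 : pt 22 ≠ pt 23 := by decide +kernel
  have hbij : Function.Bijective ψ := by
    rw [Nat.bijective_iff_injective_and_card]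
    exact ⟨hψ, by rw [H9.M21.card_psl34, H9.M24Stab.card_three h1 h2 h3]⟩
  intro s
  obtain ⟨y, hy⟩ := hbij.2 s
  obtain ⟨A, rfl⟩ := QuotientGroup.mk_surjective y
  exact ⟨A, hy⟩

theorem gen : Kl g SA = ⊤ := by
  rw [eq_top_iff]
  rintro ⟨y, hy⟩ -
  obtain ⟨s, hs, rfl⟩ := hy
  obtain ⟨A, hA⟩ := hom'_surj ⟨s, hs⟩
  have h1 := hom_HP A
  have h2 : (H9.M21.hom A).1 = s.1 := congrArg (fun z : ↥(H9.M21.St (pt 21) (pt 22) (pt 23)) => z.1.1) hA
  rw [h2] at h1
  obtain ⟨z, hz, hzy⟩ := h1
  have h3 : z = ⟨s.1, ⟨s, hs, rfl⟩⟩ := Subtype.ext hzy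
  rw [h3] at hz
  exact hz

theorem card_G0 : Nat.card G0 = 20160 := by
  rw [← Nat.card_congr isoG0.toEquiv]
  exact H9.M24Stab.card_three (by decide +kernel) (by decide +kernel) (by decide +kernel)

theorem simpleG0 : IsSimpleGroup G0 := by
  have hs : IsSimpleGroup (Matrix.ProjectiveSpecialLinearGroup (Fin 3) H9.M21.K4) := H6.SLGen.psl_isSimpleGroup (by simp)
  obtain ⟨φ⟩ := H9.M21.std_iso
  have : Nontrivial G0 := (φ.trans isoG0).toEquiv.symm.nontrivial
  exact IsSimpleGroup.isSimpleGroup_of_surjective (φ.trans isoG0).toMonoidHom (φ.trans isoG0).surjective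

theorem perf : commutator G0 = ⊤ := by
  have hs := simpleG0
  have hn : (commutator G0).Normal := inferInstance
  rcases hn.eq_bot_or_eq_top with h | h
  · exfalso
    have h1 : (⁅g 0, g 1⁆ : G0) ∈ commutator G0 := Subgroup.commutator_mem_commutator (mem_top _) (mem_top _)
    rw [h, mem_bot] at h1
    have h2 : ev (fun x => ((g x : G0) : Equiv.Perm GolayPt)) [(0, true), (1, true), (0, false), (1, false)] = 1 := by
      have h3 : ev g [(0, true), (1, true), (0, false), (1, false)] = 1 := by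
        rw [← h1]
        change g 0 * (g 1 * ((g 0)⁻¹ * ((g 1)⁻¹ * 1))) = g 0 * g 1 * (g 0)⁻¹ * (g 1)⁻¹
        group
      have h4 := ev_hom G0.subtype g [(0, true), (1, true), (0, false), (1, false)]
      rw [h3, map_one] at h4
      exact h4.symm
    have h5 := (Rep.isOne_iff (rep_evc hn24 (g := fun x => ((g x : G0) : Equiv.Perm GolayPt)) rep_c rep_ci _)).2 h2
    exact absurd h5 (by decide +kernel)
  · exact h

/-- the exponent of a rule is 7 -/
def m7 : Rule X → Bool
  | .conj _ _ _ m => decide (m = 7)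
  | _ => true

theorem ok_q {q : ℕ} (h7 : Nat.Coprime 7 q) {r : Rule X} (h : r.ok 288 nn UA = true)
    (hm : m7 r = true) : r.ok q nn UA = true := by
  cases r with
  | ord x => rfl
  | low r => exact h
  | conj w u v m =>
    have hm' : m = 7 := of_decide_eq_true hm
    subst hm'
    unfold Rule.ok at h ⊢
    rw [Bool.and_eq_true] at h ⊢
    exact ⟨decide_eq_true h7, h.2⟩

theorem bound {q : ℕ} (h7 : Nat.Coprime 7 q) (Γ : Type) [Group Γ] [Finite Γ] (σ : Γ →* G0) (f : X → Γ) (h : Lifts σ q nn g f) :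
    Nat.card (Kl f SA) ≤ 967680 := by
  have hi : Inj g f UA := Inj.none _ (fun _ => rfl)
  have ra : ∀ r ∈ rulesA, ev f (r.word nn) = 1 := by
    have h1 : (rulesA.all fun r => r.ok 288 nn UA && m7 r) = true := by
      decide +kernel
    intro r hr
    have h2 := List.all_eq_true.1 h1 r hr
    rw [Bool.and_eq_true] at h2
    exact Rule.holds h hi (ok_q h7 h2.1 h2.2) (htA r hr)
  have rb : ∀ r ∈ rulesB, ev f (r.word nn) = 1 := by
    have h1 : (rulesB.all fun r => r.ok 288 nn UA && m7 r) = true := by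
      decide +kernel
    intro r hr
    have h2 := List.all_eq_true.1 h1 r hr
    rw [Bool.and_eq_true] at h2
    exact Rule.holds h hi (ok_q h7 h2.1 h2.2) (htB r hr)
  have e1 : Kl f TA = Kl f SB := by congr 1
  have c1 : Nat.card (Kl f TB) ≤ 7 := card_Kl_one (x0 := 0) (by decide) (by norm_num) (h.ord 0)
  have f2 := lvdB rb
  have f1 := lvdA ra
  rw [e1] at f1
  omega

theorem pord (x : X) : pp x ^ nn x = 1 := by
  have h : ∀ x, isOne 9 511 (evc 9 511 pcode pcodei (rep [(x, true)] (nn x))) = true := by intro x; fin_cases x <;> decide +kernel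
  have h1 := ptr (h x)
  rw [ev_rep] at h1
  change (pp x * 1) ^ nn x = 1 at h1
  rwa [mul_one] at h1
theorem htAd : ∀ r ∈ rulesA, ev (pr pp g) (r.word nn) = 1 := by
  have h : (rulesA.all fun r => isOne 5 24 (evc 5 24 code codei (r.word nn)) && isOne 9 511 (evc 9 511 pcode pcodei (r.word nn))) = true := by decide +kernel
  intro r hr
  exact pt2 (List.all_eq_true.1 h r hr)
theorem htBd : ∀ r ∈ rulesB, ev (pr pp g) (r.word nn) = 1 := by
  have h : (rulesB.all fun r => isOne 5 24 (evc 5 24 code codei (r.word nn)) && isOne 9 511 (evc 9 511 pcode pcodei (r.word nn))) = true := by decide +kernel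
  intro r hr
  exact pt2 (List.all_eq_true.1 h r hr)
theorem card_E : Nat.card (EE pp g SA) ≤ 48 * Nat.card G0 := by
  have f1 := lvdA (f := pr pp g) htAd
  have f2 := lvdB (f := pr pp g) htBd
  have e1 : Kl (pr pp g) TA = Kl (pr pp g) SB := by congr 1
  have c1 : Nat.card (Kl (pr pp g) TB) ≤ 7 := card_Kl_one (x0 := 0) (by decide) (by norm_num) (by
    apply Prod.ext
    · exact pord 0
    · exact hord 0)
  rw [e1] at f1
  rw [card_G0]
  change Nat.card (Kl (pr pp g) SA) ≤ _
  omega

theorem z3_pow : ev pp z3 ^ 3 = 1 := by rw [← ev_rep]; exact ptr (by decide +kernel)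
theorem z1_pow : ev pp z1 ^ 4 = 1 := by rw [← ev_rep]; exact ptr (by decide +kernel)
theorem z2_pow : ev pp z2 ^ 4 = 1 := by rw [← ev_rep]; exact ptr (by decide +kernel)

theorem comm_of {u v : W X} (h : isOne 9 511 (evc 9 511 pcode pcodei (u ++ (v ++ (winv u ++ winv v)))) = true) :
    Commute (ev pp u) (ev pp v) := by
  have h1 := ptr h
  rw [ev_append, ev_append, ev_append, ev_winv, ev_winv, ← mul_assoc, ← mul_assoc, mul_inv_eq_one, mul_inv_eq_iff_eq_mul] at h1
  exact h1

theorem c31 : Commute (ev pp z3) (ev pp z1) := comm_of (by decide +kernel)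
theorem c32 : Commute (ev pp z3) (ev pp z2) := comm_of (by decide +kernel)
theorem c12 : Commute (ev pp z1) (ev pp z2) := comm_of (by decide +kernel)

theorem cx (z : W X) (h : ∀ x, isOne 9 511 (evc 9 511 pcode pcodei ([(x, true)] ++ (z ++ (winv [(x, true)] ++ winv z)))) = true) (x : X) :
    Commute (pp x) (ev pp z) := by
  have h1 := comm_of (h x)
  change Commute (pp x * 1) (ev pp z) at h1
  rwa [mul_one] at h1

theorem cx3 (x : X) : Commute (pp x) (ev pp z3) := cx z3 (by intro x; fin_cases x <;> decide +kernel) x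
theorem cx1 (x : X) : Commute (pp x) (ev pp z1) := cx z1 (by intro x; fin_cases x <;> decide +kernel) x
theorem cx2 (x : X) : Commute (pp x) (ev pp z2) := cx z2 (by intro x; fin_cases x <;> decide +kernel) x

/-- the kernel -/
abbrev A : Type := Multiplicative (ZMod 3) × (Multiplicative (ZMod 4) × Multiplicative (ZMod 4))

noncomputable def psi : A →* Equiv.Perm (Fin 511) :=
  H91.Mul.zh3 3 4 4 (ev pp z3) (ev pp z1) (ev pp z2) z3_pow z1_pow z2_pow c31 c32 c12

theorem psi_eq (a : A) : psi a = ev pp (rep z3 a.1.toAdd.val ++ (rep z1 a.2.1.toAdd.val ++ rep z2 a.2.2.toAdd.val)) := by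
  obtain ⟨i, j, k⟩ := a
  have := H91.Mul.zh3_apply 3 4 4 (ev pp z3) (ev pp z1) (ev pp z2) z3_pow z1_pow z2_pow c31 c32 c12 i.toAdd j.toAdd k.toAdd
  change psi (i, j, k) = _ at this
  rw [this, ev_append, ev_append, ev_rep, ev_rep, ev_rep]

theorem psi_inj : Function.Injective psi := by
  rw [injective_iff_map_eq_one]
  rintro ⟨i, j, k⟩ h
  rw [psi_eq] at h
  have h1 := ptr' h
  have key : ∀ i : Fin 3, ∀ j : Fin 4, ∀ k : Fin 4,
      isOne 9 511 (evc 9 511 pcode pcodei (rep z3 i.val ++ (rep z1 j.val ++ rep z2 k.val))) = true → i = 0 ∧ j = 0 ∧ k = 0 := by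
    decide +kernel
  obtain ⟨h2, h3, h4⟩ := key i j k h1
  have e1 : i = 1 := h2
  have e2 : j = 1 := h3
  have e3 : k = 1 := h4
  rw [e1, e2, e3]
  rfl

theorem z_G (z : W X) (h : isOne 5 24 (evc 5 24 code codei z) = true) (n : ℕ) : ev g (rep z n) = 1 := by
  rw [ev_rep, tr h, one_pow]

theorem psi_mem (a : A) : ((psi a, 1) : Equiv.Perm (Fin 511) × G0) ∈ EE pp g SA := by
  have h1 : ev (pr pp g) (rep z3 a.1.toAdd.val ++ (rep z1 a.2.1.toAdd.val ++ rep z2 a.2.2.toAdd.val)) ∈ EE pp g SA := by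
    refine ev_mem_Kl ?_
    rw [List.all_eq_true]
    intro b _
    have : ∀ x : X, SA x = true := by decide
    exact this b.1
  rw [ev_pr, ev_append g, ev_append g, z_G z3 (by decide +kernel), z_G z1 (by decide +kernel), z_G z2 (by decide +kernel), one_mul, one_mul] at h1
  rw [psi_eq]
  exact h1

theorem psi_comm (a : A) (x : X) : pp x * psi a = psi a * pp x := by
  obtain ⟨i, j, k⟩ := a
  have := H91.Mul.zh3_apply 3 4 4 (ev pp z3) (ev pp z1) (ev pp z2) z3_pow z1_pow z2_pow c31 c32 c12 i.toAdd j.toAdd k.toAdd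
  change psi (i, j, k) = _ at this
  rw [this]
  exact ((cx3 x).pow_right _).mul_right (((cx1 x).pow_right _).mul_right ((cx2 x).pow_right _))

theorem card_A : Nat.card A = 48 := by
  rw [Nat.card_prod, Nat.card_prod]
  simp [Nat.card_eq_fintype_card, ZMod.card]

theorem ex : ∃ (Γ : Type) (_ : Group Γ) (_ : Finite Γ) (σ : Γ →* G0), Cfsg.IsStemExtension σ ∧ Nonempty (σ.ker ≃* A) :=
  H91.Mul.exists_cover_gen (p := pp) (g := g) (S := SA) (n := nn) gen perf (by rw [card_A]; exact card_E) psi psi_inj psi_mem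
    (fun a x _ => psi_comm a x) (fun x _ => pord x) (fun x _ => hord x) (fun x _ => by rw [card_A]; fin_cases x <;> decide)

theorem card_ker {Γ : Type} [Group Γ] [Finite Γ] {σ : Γ →* G0} (hσ : Cfsg.IsStemExtension σ) : Nat.card σ.ker ≤ 48 := by
  have h7 : ¬ 7 ∣ Nat.card σ.ker := H91.Mul.not_dvd_ker (by norm_num) (by rw [card_G0]; norm_num) hσ
  have hc : Nat.Coprime 7 (Nat.card σ.ker) := (Nat.Prime.coprime_iff_not_dvd (by norm_num)).2 h7
  by_contra hlt
  have h1 : NoExt G0 (Nat.card σ.ker) := noExt_of_bound (q := Nat.card σ.ker) (dvd_refl _) hord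
    (fun x => by fin_cases x <;> exact hc) gen (bound hc) (by rw [card_G0]; omega)
  exact h1 Γ σ hσ rfl

theorem mult0 : Cfsg.HasSchurMultiplier G0 A :=
  H91.Mul.hasMult_of perf ex (fun Γ _ _ σ hσ => by rw [card_A]; exact card_ker hσ)

theorem isoA : Nonempty (A ≃* Multiplicative (ZMod 3 × ZMod 4 × ZMod 4)) :=
  ⟨{ toFun := fun a => Multiplicative.ofAdd (a.1.toAdd, a.2.1.toAdd, a.2.2.toAdd)
     invFun := fun a => (Multiplicative.ofAdd a.toAdd.1, Multiplicative.ofAdd a.toAdd.2.1, Multiplicative.ofAdd a.toAdd.2.2)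
     left_inv := fun _ => rfl
     right_inv := fun _ => rfl
     map_mul' := fun _ _ => rfl }⟩

/-- **the Schur multiplier of PSL(3,4)** -/
theorem mult {F : Type*} [Field F] [Fintype F] (hF : Fintype.card F = 4) :
    Cfsg.HasSchurMultiplier (Matrix.ProjectiveSpecialLinearGroup (Fin 3) F) (Multiplicative (ZMod 3 × ZMod 4 × ZMod 4)) := by
  obtain ⟨e⟩ := isoA
  have h1 := H40.StemFinish.HasSchurMultiplier.congr_right e mult0
  obtain ⟨φ⟩ := H9.M21.main (p := pt 21) (q := pt 22) (r := pt 23) (by decide +kernel) (by decide +kernel) (by decide +kernel) F hF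
  exact H40.StemFinish.HasSchurMultiplier.congr (isoG0.symm.trans φ) h1

end H91.MulL34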