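import Mathlib
import Cfsg.Prelude.Def_Classical
import Cfsg.Agent.Lib.H7.UnitSU
import Cfsg.Agent.Lib.H40.PermCode
import Cfsg.Agent.Lib.H35.StemPerm
import Cfsg.Agent.Lib.H91.MulGen

/-!
# Words in `SU(4,3)` computed with coded matrices over the field of nine elements
-/

set_option autoImplicit false
set_option linter.all false

namespace H91.U43

open Matrix H40.PermCode H35.Stem Cfsg

section digits

variable {K : Type} [Field K]

/-- value of a digit -/
def D (i : K) (x : ℕ) : K := ((x % 3 : ℕ) : K) + ((x / 3 : ℕ) : K) * i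

/-- digit of `Σ x_j y_j` -/
def dot8 (x0 y0 x1 y1 x2 y2 x3 y3 : ℕ) : ℕ :=
  ((x0 % 3) * (y0 % 3) + 2 * ((x0 / 3) * (y0 / 3)) + ((x1 % 3) * (y1 % 3) + 2 * ((x1 / 3) * (y1 / 3))) +
    ((x2 % 3) * (y2 % 3) + 2 * ((x2 / 3) * (y2 / 3))) + ((x3 % 3) * (y3 % 3) + 2 * ((x3 / 3) * (y3 / 3)))) % 3 +
  3 * (((x0 % 3) * (y0 / 3) + (x0 / 3) * (y0 % 3) + ((x1 % 3) * (y1 / 3) + (x1 / 3) * (y1 % 3)) +
    ((x2 % 3) * (y2 / 3) + (x2 / 3) * (y2 % 3)) + ((x3 % 3) * (y3 / 3) + (x3 / 3) * (y3 % 3))) % 3)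

theorem dot8_lt (x0 y0 x1 y1 x2 y2 x3 y3 : ℕ) : dot8 x0 y0 x1 y1 x2 y2 x3 y3 < 9 := by
  unfold dot8
  omega

theorem cast_mod (h3 : (3 : K) = 0) (n : ℕ) : ((n % 3 : ℕ) : K) = (n : K) := by
  conv_rhs => rw [← Nat.mod_add_div n 3]
  push_cast
  rw [h3, zero_mul, add_zero]

theorem D_ri (h3 : (3 : K) = 0) (i : K) (r s : ℕ) : D i (r % 3 + 3 * (s % 3)) = (r : K) + (s : K) * i := by
  unfold D
  have h1 : (r % 3 + 3 * (s % 3)) % 3 = r % 3 := by omega
  have h2 : (r % 3 + 3 * (s % 3)) / 3 = s % 3 := by omega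
  rw [h1, h2, cast_mod h3, cast_mod h3]

theorem D_dot (h3 : (3 : K) = 0) {i : K} (hi : i * i = -1) (x0 y0 x1 y1 x2 y2 x3 y3 : ℕ) :
    D i (dot8 x0 y0 x1 y1 x2 y2 x3 y3) = D i x0 * D i y0 + D i x1 * D i y1 + D i x2 * D i y2 + D i x3 * D i y3 := by
  unfold dot8
  rw [D_ri h3]
  unfold D
  push_cast
  generalize ((x0 % 3 : ℕ) : K) = a0
  generalize ((x0 / 3 : ℕ) : K) = b0
  generalize ((x1 % 3 : ℕ) : K) = a1
  generalize ((x1 / 3 : ℕ) : K) = b1
  generalize ((x2 % 3 : ℕ) : K) = a2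
  generalize ((x2 / 3 : ℕ) : K) = b2
  generalize ((x3 % 3 : ℕ) : K) = a3
  generalize ((x3 / 3 : ℕ) : K) = b3
  generalize ((y0 % 3 : ℕ) : K) = c0
  generalize ((y0 / 3 : ℕ) : K) = d0
  generalize ((y1 % 3 : ℕ) : K) = c1
  generalize ((y1 / 3 : ℕ) : K) = d1
  generalize ((y2 % 3 : ℕ) : K) = c2
  generalize ((y2 / 3 : ℕ) : K) = d2
  generalize ((y3 % 3 : ℕ) : K) = c3
  generalize ((y3 / 3 : ℕ) : K) = d3
  linear_combination (b0 * d0 + b1 * d1 + b2 * d2 + b3 * d3) * h3 - (b0 * d0 + b1 * d1 + b2 * d2 + b3 * d3) * hi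

theorem D_zero (i : K) : D i 0 = 0 := by simp [D]

theorem D_one (i : K) : D i 1 = 1 := by simp [D]

theorem D_eq_zero [CharP K 3] {i : K} (hi : i * i = -1) {x : ℕ} (hx : x < 9) (h : D i x = 0) : x = 0 := by
  unfold D at h
  have h1 : (((x % 3) ^ 2 + (x / 3) ^ 2 : ℕ) : K) = 0 := by
    push_cast
    generalize ((x % 3 : ℕ) : K) = a at h ⊢
    generalize ((x / 3 : ℕ) : K) = b at h ⊢
    linear_combination (a - b * i) * h + b ^ 2 * hi
  rw [CharP.cast_eq_zero_iff K 3] at h1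
  interval_cases x <;> revert h1 <;> decide

theorem D_inj [CharP K 3] {i : K} (hi : i * i = -1) {x y : ℕ} (hx : x < 9) (hy : y < 9) (h : D i x = D i y) : x = y := by
  have h3 : (3 : K) = 0 := by
    have := CharP.cast_eq_zero K 3
    exact_mod_cast this
  have h1 : D i ((x % 3 + 2 * (y % 3)) % 3 + 3 * ((x / 3 + 2 * (y / 3)) % 3)) = 0 := by
    rw [D_ri h3]
    unfold D at h
    push_cast
    generalize ((x % 3 : ℕ) : K) = a at h ⊢
    generalize ((x / 3 : ℕ) : K) = b at h ⊢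
    generalize ((y % 3 : ℕ) : K) = c at h ⊢
    generalize ((y / 3 : ℕ) : K) = d at h ⊢
    linear_combination h + (c + d * i) * h3
  have h2 := D_eq_zero hi (by omega) h1
  have key : ∀ x y : Fin 9, (x.val % 3 + 2 * (y.val % 3)) % 3 + 3 * ((x.val / 3 + 2 * (y.val / 3)) % 3) = 0 → x.val = y.val := by
    decide +kernel
  exact key ⟨x, hx⟩ ⟨y, hy⟩ h2

/-- conjugate digit -/
def conjN (x : ℕ) : ℕ := x % 3 + 3 * ((2 * (x / 3)) % 3)

theorem D_conj [CharP K 3] {i : K} (hi : i * i = -1) (x : ℕ) : D i (conjN x) = D i x ^ 3 := by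
  have h3 : (3 : K) = 0 := by
    have := CharP.cast_eq_zero K 3
    exact_mod_cast this
  have : Fact (Nat.Prime 3) := ⟨by norm_num⟩
  unfold conjN
  have h4 : x % 3 + 3 * ((2 * (x / 3)) % 3) = (x % 3) % 3 + 3 * ((2 * (x / 3)) % 3) := by omega
  rw [h4, D_ri h3]
  unfold D
  rw [add_pow_char, mul_pow]
  have e1 : ((x % 3 : ℕ) : K) ^ 3 = ((x % 3 : ℕ) : K) := by
    have := map_natCast (frobenius K 3) (x % 3)
    rwa [frobenius_def] at this
  have e2 : ((x / 3 : ℕ) : K) ^ 3 = ((x / 3 : ℕ) : K) := by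
    have := map_natCast (frobenius K 3) (x / 3)
    rwa [frobenius_def] at this
  rw [e1, e2]
  push_cast
  generalize ((x % 3 : ℕ) : K) = a
  generalize ((x / 3 : ℕ) : K) = b
  linear_combination (b * i) * h3 - (b * i) * hi

/-- the matrix of a code -/
def mat (i : K) (c : ℕ) : Matrix (Fin 4) (Fin 4) K := fun r s => D i (tab 4 c (4 * r.val + s.val))

/-- code of a product -/
noncomputable def mulc (a b : ℕ) : ℕ :=
  pack 4 (fun k => dot8 (tab 4 a (4 * (k / 4))) (tab 4 b (k % 4)) (tab 4 a (4 * (k / 4) + 1)) (tab 4 b (4 + k % 4))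
    (tab 4 a (4 * (k / 4) + 2)) (tab 4 b (8 + k % 4)) (tab 4 a (4 * (k / 4) + 3)) (tab 4 b (12 + k % 4))) 16

theorem tab_mulc (a b : ℕ) {k : ℕ} (hk : k < 16) : tab 4 (mulc a b) k =
    dot8 (tab 4 a (4 * (k / 4))) (tab 4 b (k % 4)) (tab 4 a (4 * (k / 4) + 1)) (tab 4 b (4 + k % 4))
    (tab 4 a (4 * (k / 4) + 2)) (tab 4 b (8 + k % 4)) (tab 4 a (4 * (k / 4) + 3)) (tab 4 b (12 + k % 4)) := by
  rw [mulc, tab_pack (fun i _ => lt_trans (dot8_lt _ _ _ _ _ _ _ _) (by norm_num)) hk]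

theorem mat_mul (h3 : (3 : K) = 0) {i : K} (hi : i * i = -1) (a b : ℕ) : mat i (mulc a b) = mat i a * mat i b := by
  ext r s
  rw [Matrix.mul_apply, Fin.sum_univ_four]
  have hr := r.2
  have hs := s.2
  change D i (tab 4 (mulc a b) (4 * r.val + s.val)) = _
  rw [tab_mulc _ _ (by omega)]
  have h1 : (4 * r.val + s.val) / 4 = r.val := by omega
  have h2 : (4 * r.val + s.val) % 4 = s.val := by omega
  rw [h1, h2, D_dot h3 hi]
  have e0 : mat i b 0 s = D i (tab 4 b s.val) := by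
    change D i (tab 4 b (4 * 0 + s.val)) = _
    rw [Nat.mul_zero, Nat.zero_add]
  rw [e0]
  rfl

/-- scalar code -/
def isSc (c : ℕ) : Bool :=
  (List.range 16).all fun k => Nat.beq (tab 4 c k) (bif Nat.beq (k / 4) (k % 4) then tab 4 c 0 else 0)

theorem isSc_iff (c : ℕ) : isSc c = true ↔ ∀ k < 16, tab 4 c k = if k / 4 = k % 4 then tab 4 c 0 else 0 := by
  unfold isSc
  rw [List.all_eq_true]
  constructor
  · intro h k hk
    have h1 := Nat.eq_of_beq_eq_true (h k (List.mem_range.2 hk))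
    rw [h1]
    by_cases h2 : k / 4 = k % 4
    · rw [if_pos h2, h2, Nat.beq_refl]
      rfl
    · rw [if_neg h2]
      have h3 : Nat.beq (k / 4) (k % 4) = false := by
        rw [← Bool.not_eq_true]
        intro h4
        exact h2 (Nat.eq_of_beq_eq_true h4)
      rw [h3]
      rfl
  · intro h k hk
    have h1 := h k (List.mem_range.1 hk)
    rw [h1]
    by_cases h2 : k / 4 = k % 4
    · rw [if_pos h2, h2, Nat.beq_refl]
      simp
    · rw [if_neg h2]
      have h3 : Nat.beq (k / 4) (k % 4) = false := by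
        rw [← Bool.not_eq_true]
        intro h4
        exact h2 (Nat.eq_of_beq_eq_true h4)
      rw [h3]
      rfl

theorem mat_of_isSc {i : K} {c : ℕ} (h : isSc c = true) : mat i c = diagonal (fun _ => D i (tab 4 c 0)) := by
  rw [isSc_iff] at h
  ext r s
  have hr := r.2
  have hs := s.2
  change D i (tab 4 c (4 * r.val + s.val)) = _
  rw [h _ (by omega)]
  have h1 : (4 * r.val + s.val) / 4 = r.val := by omega
  have h2 : (4 * r.val + s.val) % 4 = s.val := by omega
  rw [h1, h2, diagonal_apply]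
  by_cases hrs : r = s
  · rw [if_pos (by rw [hrs]), if_pos hrs]
  · rw [if_neg (fun h => hrs (Fin.ext h)), if_neg hrs, D_zero]

/-- all digits are below 9 -/
def can (c : ℕ) : Bool := (List.range 16).all fun k => decide (tab 4 c k < 9)

theorem can_iff (c : ℕ) : can c = true ↔ ∀ k < 16, tab 4 c k < 9 := by
  unfold can
  rw [List.all_eq_true]
  exact ⟨fun h k hk => of_decide_eq_true (h k (List.mem_range.2 hk)), fun h k hk => decide_eq_true (h k (List.mem_range.1 hk))⟩

theorem can_mulc (a b : ℕ) : can (mulc a b) = true := by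
  rw [can_iff]
  intro k hk
  rw [tab_mulc _ _ hk]
  exact dot8_lt _ _ _ _ _ _ _ _

theorem isSc_of_mat [CharP K 3] {i : K} (hi : i * i = -1) {c : ℕ} (hc : can c = true) {x : K}
    (h : mat i c = diagonal (fun _ => x)) : isSc c = true := by
  rw [isSc_iff]
  rw [can_iff] at hc
  intro k hk
  have h1 : mat i c ⟨k / 4, by omega⟩ ⟨k % 4, by omega⟩ = D i (tab 4 c k) := by
    change D i (tab 4 c (4 * (k / 4) + k % 4)) = _
    rw [Nat.div_add_mod]
  have h0 : mat i c 0 0 = D i (tab 4 c 0) := rfl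
  rw [h, diagonal_apply] at h1
  rw [h, diagonal_apply, if_pos rfl] at h0
  by_cases h2 : k / 4 = k % 4
  · rw [if_pos h2]
    rw [if_pos (Fin.ext h2), h0] at h1
    exact (D_inj hi (hc 0 (by norm_num)) (hc k hk) h1).symm
  · rw [if_neg h2]
    rw [if_neg (fun h => h2 (congrArg Fin.val h))] at h1
    exact D_eq_zero hi (hc k hk) h1.symm

/-- code of the identity -/
def idm : ℕ := 1 + 2 ^ 20 + 2 ^ 40 + 2 ^ 60

theorem mat_idm (i : K) : mat i idm = 1 := by
  have h : ∀ r s : Fin 4, tab 4 idm (4 * r.val + s.val) = if r = s then 1 else 0 := by decide +kernel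
  ext r s
  change D i (tab 4 idm (4 * r.val + s.val)) = _
  rw [h, Matrix.one_apply]
  by_cases hrs : r = s
  · rw [if_pos hrs, if_pos hrs, D_one]
  · rw [if_neg hrs, if_neg hrs, D_zero]

end digits

section group

variable {K : Type} [Field K] [Fintype K] [CharP K 3] {i : K}

/-- hermitian code -/
def herm (c : ℕ) : Bool := (List.range 16).all fun k => Nat.beq (conjN (tab 4 c k)) (tab 4 c (4 * (k % 4) + k / 4))

theorem bar_of_herm (hi : i * i = -1) {c : ℕ} (h : herm c = true) : H7.UnitSU.bar 3 (mat i c) = (mat i c)ᵀ := by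
  unfold herm at h
  rw [List.all_eq_true] at h
  ext r s
  have hr := r.2
  have hs := s.2
  have h1 := Nat.eq_of_beq_eq_true (h (4 * r.val + s.val) (List.mem_range.2 (by omega)))
  have e1 : (4 * r.val + s.val) / 4 = r.val := by omega
  have e2 : (4 * r.val + s.val) % 4 = s.val := by omega
  rw [e1, e2] at h1
  change D i (tab 4 c (4 * r.val + s.val)) ^ 3 = D i (tab 4 c (4 * s.val + r.val))
  rw [← D_conj hi, h1]

/-- code of `diag(1,1,-1,-1)` -/
def tcode : ℕ := 1 + 2 ^ 20 + 2 * 2 ^ 40 + 2 * 2 ^ 60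

theorem det_t (h3 : (3 : K) = 0) : (mat i tcode).det = 1 := by
  have h : ∀ r s : Fin 4, tab 4 tcode (4 * r.val + s.val) = if r = s then (![1, 1, 2, 2] : Fin 4 → ℕ) r else 0 := by decide +kernel
  have e : mat i tcode = diagonal (fun r => D i ((![1, 1, 2, 2] : Fin 4 → ℕ) r)) := by
    ext r s
    change D i (tab 4 tcode (4 * r.val + s.val)) = _
    rw [h, diagonal_apply]
    by_cases hrs : r = s
    · rw [if_pos hrs, if_pos hrs]
    · rw [if_neg hrs, if_neg hrs, D_zero]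
  rw [e, det_diagonal, Fin.prod_univ_four]
  simp [D]
  linear_combination h3

/-- check of a letter: the matrix is an involution of `SU` -/
noncomputable def okL (c h h' : ℕ) : Bool :=
  herm c && (Nat.beq (mulc c c) idm && (Nat.beq (mulc c h) (mulc h tcode) && Nat.beq (mulc h h') idm))

theorem okL_spec (h3 : (3 : K) = 0) (hi : i * i = -1) {c h h' : ℕ} (hk : okL c h h' = true) :
    mat i c * mat i c = 1 ∧ (mat i c).det = 1 ∧ (mat i c)ᵀ * H7.UnitSU.bar 3 (mat i c) = 1 := by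
  unfold okL at hk
  rw [Bool.and_eq_true, Bool.and_eq_true, Bool.and_eq_true] at hk
  obtain ⟨h1, h2, h4, h5⟩ := hk
  have e2 := Nat.eq_of_beq_eq_true h2
  have e4 := Nat.eq_of_beq_eq_true h4
  have e5 := Nat.eq_of_beq_eq_true h5
  have m2 : mat i c * mat i c = 1 := by rw [← mat_mul h3 hi, e2, mat_idm]
  have m4 : mat i c * mat i h = mat i h * mat i tcode := by rw [← mat_mul h3 hi, e4, mat_mul h3 hi]
  have m5 : mat i h * mat i h' = 1 := by rw [← mat_mul h3 hi, e5, mat_idm]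
  refine ⟨m2, ?_, ?_⟩
  · have d4 := congrArg Matrix.det m4
    have d5 := congrArg Matrix.det m5
    rw [det_mul, det_mul, det_t h3, mul_one] at d4
    rw [det_mul, det_one] at d5
    have hne : (mat i h).det ≠ 0 := left_ne_zero_of_mul_eq_one d5
    exact mul_right_cancel₀ hne (by rw [d4, one_mul])
  · rw [bar_of_herm hi h1, ← transpose_mul, m2, transpose_one]

variable {X : Type}

/-- matrix code of a word in involutions -/
noncomputable def evm (cL : X → ℕ) : W X → ℕ
  | [] => idm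
  | a :: t => mulc (cL a.1) (evm cL t)

theorem can_evm (cL : X → ℕ) (w : W X) : can (evm cL w) = true := by
  cases w with
  | nil =>
    change can idm = true
    decide +kernel
  | cons a t => exact can_mulc _ _

/-- underlying matrix -/
def mx (z : SU 4 K 3) : Matrix (Fin 4) (Fin 4) K := ((z : SpecialLinearGroup (Fin 4) K) : Matrix (Fin 4) (Fin 4) K)

omit [Fintype K] [CharP K 3] in
theorem mx_mul (z w : SU 4 K 3) : mx (z * w) = mx z * mx w := rfl

omit [Fintype K] [CharP K 3] in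
theorem mx_inj {z w : SU 4 K 3} (h : mx z = mx w) : z = w := Subtype.ext (Subtype.ext h)

omit [Fintype K] [CharP K 3] in
theorem mx_ev (h3 : (3 : K) = 0) (hi : i * i = -1) {s : X → SU 4 K 3} {cL : X → ℕ} (hs : ∀ x, mx (s x) = mat i (cL x))
    (h2 : ∀ x, s x * s x = 1) (w : W X) : mx (ev s w) = mat i (evm cL w) := by
  induction w with
  | nil =>
    change (1 : Matrix (Fin 4) (Fin 4) K) = mat i idm
    rw [mat_idm]
  | cons a t ih =>
    have e : ev s (a :: t) = s a.1 * ev s t := by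
      rw [ev_cons]
      obtain ⟨x, b⟩ := a
      cases b
      · change (s x)⁻¹ * _ = _
        rw [inv_eq_of_mul_eq_one_left (h2 x)]
      · rfl
    rw [e, mx_mul, ih, hs]
    change _ = mat i (mulc (cL a.1) (evm cL t))
    rw [mat_mul h3 hi]

theorem mk_one_iff (hK : Fintype.card K = 9) (hi : i * i = -1) {z : SU 4 K 3} {c : ℕ} (hc : can c = true) (hz : mx z = mat i c) :
    (QuotientGroup.mk z : PSU 4 K 3) = 1 ↔ isSc c = true := by
  rw [QuotientGroup.eq_one_iff]
  constructor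
  · intro h
    obtain ⟨x, hx⟩ := H7.UnitSU.center_scalar (q := 3) (by rw [hK]; norm_num) (by norm_num) h
    change mx z = _ at hx
    rw [hz] at hx
    exact isSc_of_mat hi hc hx
  · intro h
    refine H7.UnitSU.scalar_mem_center (c := D i (tab 4 c 0)) ?_
    change mx z = _
    rw [hz, mat_of_isSc h]

end group

/-- four commuting elements of exponent `n` generating a group of order `n ^ 4` -/
theorem pow_four_dvd {G : Type*} [Group G] [Finite G] (H : Subgroup G) (n : ℕ) [NeZero n] {x y z t : G} (hx : x ∈ H) (hy : y ∈ H)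
    (hz : z ∈ H) (ht : t ∈ H) (x1 : x ^ n = 1) (y1 : y ^ n = 1) (z1 : z ^ n = 1) (t1 : t ^ n = 1)
    (hxy : Commute x y) (hxz : Commute x z) (hxt : Commute x t) (hyz : Commute y z) (hyt : Commute y t) (hzt : Commute z t)
    (h : ∀ i j k l : Fin n, x ^ i.val * (y ^ j.val * (z ^ k.val * t ^ l.val)) = 1 → i.val = 0 ∧ j.val = 0 ∧ k.val = 0 ∧ l.val = 0) :
    n ^ 4 ∣ Nat.card H := by
  let φ := (H91.Mul.zh n x x1).noncommCoprod (H91.Mul.zh3 n n n y z t y1 z1 t1 hyz hyt hzt) (by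
    rintro i ⟨j, k, l⟩
    have hi : i = Multiplicative.ofAdd i.toAdd := rfl
    have hj : j = Multiplicative.ofAdd j.toAdd := rfl
    have hk : k = Multiplicative.ofAdd k.toAdd := rfl
    have hl : l = Multiplicative.ofAdd l.toAdd := rfl
    rw [hi, hj, hk, hl, H91.Mul.zh_apply, H91.Mul.zh3_apply]
    exact (hxy.pow_pow _ _).mul_right ((hxz.pow_pow _ _).mul_right (hxt.pow_pow _ _)))
  have hφ : ∀ i j k l : ZMod n, φ (Multiplicative.ofAdd i, Multiplicative.ofAdd j, Multiplicative.ofAdd k, Multiplicative.ofAdd l) =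
      x ^ i.val * (y ^ j.val * (z ^ k.val * t ^ l.val)) := by
    intro i j k l
    change (H91.Mul.zh n x x1).noncommCoprod _ _ (Multiplicative.ofAdd i, (Multiplicative.ofAdd j, Multiplicative.ofAdd k, Multiplicative.ofAdd l)) = _
    rw [MonoidHom.noncommCoprod_apply, H91.Mul.zh_apply, H91.Mul.zh3_apply]
  have hinj : Function.Injective φ := by
    rw [injective_iff_map_eq_one]
    rintro ⟨i, j, k, l⟩ h1
    have h2 := hφ i.toAdd j.toAdd k.toAdd l.toAdd
    change φ (i, j, k, l) = _ at h2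
    rw [h1] at h2
    have lt : ∀ a : ZMod n, a.val < n := fun a => ZMod.val_lt a
    obtain ⟨a1, a2, a3, a4⟩ := h ⟨_, lt i.toAdd⟩ ⟨_, lt j.toAdd⟩ ⟨_, lt k.toAdd⟩ ⟨_, lt l.toAdd⟩ h2.symm
    have e1 : i = 1 := (ZMod.val_eq_zero _).1 a1
    have e2 : j = 1 := (ZMod.val_eq_zero _).1 a2
    have e3 : k = 1 := (ZMod.val_eq_zero _).1 a3
    have e4 : l = 1 := (ZMod.val_eq_zero _).1 a4
    rw [e1, e2, e3, e4]
    rfl
  have hle : φ.range ≤ H := by
    rintro _ ⟨⟨i, j, k, l⟩, rfl⟩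
    have h2 := hφ i.toAdd j.toAdd k.toAdd l.toAdd
    change φ (i, j, k, l) = _ at h2
    rw [h2]
    exact H.mul_mem (H.pow_mem hx _) (H.mul_mem (H.pow_mem hy _) (H.mul_mem (H.pow_mem hz _) (H.pow_mem ht _)))
  have hc : Nat.card φ.range = n ^ 4 := by
    rw [← Nat.card_congr (MonoidHom.ofInjective hinj).toEquiv, Nat.card_prod, Nat.card_prod, Nat.card_prod]
    have : Nat.card (Multiplicative (ZMod n)) = n := by
      rw [Nat.card_congr Multiplicative.toAdd, Nat.card_zmod]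
    rw [this]
    ring
  rw [← hc]
  exact Subgroup.card_dvd_of_le hle

end H91.U43
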