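import Mathlib
import Cfsg.Prelude.Def_KGroupFacts
import Cfsg.Agent.Lib.H35.StemPerf
import Cfsg.Agent.Lib.H35.StemRule
import Cfsg.Agent.Lib.H91.MulGen
import Cfsg.Agent.Lib.H91.U43Mat
import Cfsg.Agent.Lib.H86.U43SevenC
import Cfsg.Agent.Lib.H6.SUGenC
import Cfsg.Agent.S2150
import Cfsg.Agent.Lib.H91.TCU43A
import Cfsg.Agent.Lib.H91.TCU43B
import Cfsg.Agent.Lib.H91.TCU43C
import Cfsg.Agent.Lib.H91.TCU43D

set_option autoImplicit false
set_option maxRecDepth 100000
set_option linter.all false

/-! The 3-part of the Schur multiplier of PSU(4,3): order 9, elementary abelian. -/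

namespace H91.MulU43
open Subgroup H35.Stem H35.TC H35.Net H40.PermCode MulAction Cfsg H91.U43 Matrix
open scoped commutatorElement

abbrev X := Fin 5

/-- exponents of the letters -/
def nn : X → ℕ := ![2, 2, 2, 2, 2]

/-- matrix codes of the letters -/
def cL : X → ℕ := ![0x2510824517060832, 0x2622326623122321, 0x2213206813126520, 0x1460720130270141, 0x318622212135260]
def hL : X → ℕ := ![0x1010010107276430, 0x1010300101231223, 0x1010010154828213, 0x1010010137075052, 0x1010010177342536]
def hL' : X → ℕ := ![0x1510814507204087, 0x1622230203116033, 0x1213226801261234, 0x460710118305002, 0x2318612226243011]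
theorem okl : ∀ x, okL (cL x) (hL x) (hL' x) = true := by intro x; fin_cases x <;> decide +kernel

section field

variable {K : Type} [Field K] [Fintype K] [CharP K 3] (hK : Fintype.card K = 9) {i : K} (hi : i * i = -1)

theorem three (K : Type) [Field K] [CharP K 3] : (3 : K) = 0 := by
  have := CharP.cast_eq_zero K 3
  exact_mod_cast this

/-- letters -/
def s (x : X) : SU 4 K 3 :=
  ⟨⟨mat i (cL x), (okL_spec (three K) hi (okl x)).2.1⟩,
    (H7.UnitSU.mem_SU_iff (by rw [hK]; norm_num) _).2 (okL_spec (three K) hi (okl x)).2.2⟩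

theorem mx_s (x : X) : mx (s hK hi x) = mat i (cL x) := rfl

theorem s_sq (x : X) : s hK hi x * s hK hi x = 1 := by
  apply mx_inj
  rw [mx_mul, mx_s]
  exact (okL_spec (three K) hi (okl x)).1

/-- letters of the simple group -/
def g (x : X) : PSU 4 K 3 := QuotientGroup.mk (s hK hi x)

theorem ev_g (w : W X) : ev (g hK hi) w = QuotientGroup.mk (ev (s hK hi) w) :=
  (ev_hom (QuotientGroup.mk' (Subgroup.center (SU 4 K 3))) (s hK hi) w).symm

theorem ev_one_iff (w : W X) : ev (g hK hi) w = 1 ↔ isSc (evm cL w) = true := by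
  rw [ev_g]
  exact mk_one_iff hK hi (can_evm cL w) (mx_ev (three K) hi (mx_s hK hi) (s_sq hK hi) w)

theorem tr {w : W X} (h : isSc (evm cL w) = true) : ev (g hK hi) w = 1 := (ev_one_iff hK hi w).2 h

theorem nn_two (x : X) : nn x = 2 := by fin_cases x <;> rfl

theorem hord (x : X) : g hK hi x ^ nn x = 1 := by
  rw [nn_two, pow_two]
  change (QuotientGroup.mk (s hK hi x * s hK hi x) : PSU 4 K 3) = 1
  rw [s_sq]
  rfl

end field

theorem hn : ∀ x, Nat.Coprime (nn x) 27 := by decide

/-- letters of level A -/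
def SA : X → Bool := ![true, true, true, true, false]

/-- lower letters of level A -/
def TA : X → Bool := ![true, true, true, false, false]

def wdA : H91.TCU43A.Lt → W X
  | .a => [(0, true)]
  | .b => [(1, true)]
  | .c => [(2, true)]
  | .d => [(3, true)]

def rulesA : List (Rule X) := [
  .conj [(0, true), (3, true)] [(0, true)] [(3, true)] 2,
  .conj [(2, true), (3, true)] [(2, true)] [(3, true)] 2,
  .conj [(1, true), (2, true), (1, true)] [(2, true)] [(2, true)] 2,
  .conj [(0, true), (1, true), (0, true), (1, true)] [(0, true)] [(1, true)] 2,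
  .conj [(1, true), (3, true), (1, true), (2, true)] [(0, true)] [(0, true)] 2,
  .conj [(1, true), (3, true), (1, true), (3, true)] [(1, true)] [(3, true)] 2,
  .conj [(1, true), (3, true), (2, true), (1, true), (0, true), (1, true)] [(3, true)] [(2, true)] 2,
  .conj [(3, true), (1, true), (2, true), (3, true), (1, true), (0, true), (3, true)] [(2, true)] [(0, true)] 2,
  .conj [(2, true), (1, true), (2, true), (0, true), (2, true), (1, true), (2, true)] [(0, true)] [(0, true)] 2,
  .conj [(3, true), (0, true)] [(3, true)] [(0, true)] 2,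
  .conj [(3, true), (2, true)] [(3, true)] [(2, true)] 2,
  .conj [(2, true), (1, true), (2, true)] [(1, true)] [(1, true)] 2,
  .conj [(1, true), (0, true), (1, true), (0, true)] [(1, true)] [(0, true)] 2,
  .conj [(3, true), (1, true), (3, true), (1, true)] [(3, true)] [(1, true)] 2]

def cenA : H91.TCU43A.Lt → Bool
  | _ => false

def CA : CP X H91.TCU43A.Lt where
  iv := fun x => decide (nn x = 2)
  wd := wdA
  cen := cenA
  q := 27
  exact := rulesA.map fun r => nrm (fun x => decide (nn x = 2)) (red (fun x => decide (nn x = 2)) (r.word nn))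

theorem hsA : (rulesA.all fun r => (r.needs nn).all fun w => isSc (evm cL w)) = true := by decide +kernel
theorem okA : (rulesA.all fun r => r.ok 27 nn (fun _ => false)) = true := by decide +kernel
theorem hcA : ∀ z, CA.cen z = true → isSc (evm cL (CA.wd z)) = true := by
  intro z hz
  cases z <;> first | (exact absurd hz (by decide)) | decide +kernel

theorem lvdA {P' : Type} [Group P'] [Finite P'] {f : X → P'} (hiv : ∀ x, CA.iv x = true → f x * f x = 1)
    (ht : ∀ r ∈ rulesA, ev f (r.word nn) = 1)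
    (hcen : ∀ z, CA.cen z = true → ∀ y : P', ev f (CA.wd z) * y = y * ev f (CA.wd z))
    (hpow : ∀ z, CA.cen z = true → ev f (CA.wd z) ^ CA.q = 1) :
    Nat.card (Kl f SA) ≤ 1134 * Nat.card (Kl f TA) := by
  have hh : CA.Holds f := holdsDF (rules := rulesA) (n := nn) hiv rfl ht hcen hpow
  obtain ⟨hinv, hrel⟩ := CP.relOK hh (inv := H91.TCU43A.inv) (mm := H91.TCU43A.mm) (ex := H91.TCU43A.extra) (by intro x; cases x <;> decide +kernel)
    (by intro x y; cases x <;> cases y <;> decide +kernel) (by decide +kernel)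
  exact level (subs := H91.TCU43A.subs) (fun H hH => H91.TCU43A.main hinv hrel.1 hrel.2 hH) (by decide +kernel) (by
    intro x hx
    fin_cases x
    · exact ⟨.a, rfl⟩
    · exact ⟨.b, rfl⟩
    · exact ⟨.c, rfl⟩
    · exact ⟨.d, rfl⟩
    · exact absurd hx (by decide))

/-- letters of level B -/
def SB : X → Bool := ![true, true, true, false, true]

/-- lower letters of level B -/
def TB : X → Bool := ![true, false, true, false, true]

def wdB : H91.TCU43B.Lt → W X
  | .a => [(0, true)]
  | .b => [(1, true)]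
  | .c => [(2, true)]
  | .e => [(4, true)]

def rulesB : List (Rule X) := [
  .conj [(1, true), (4, true), (1, true)] [(0, true)] [(0, true)] 2,
  .conj [(0, true), (2, true), (0, true)] [(2, true)] [(2, true)] 2,
  .conj [(4, true), (2, true), (4, true)] [(0, true)] [(0, true)] 2,
  .conj [(2, true), (4, true), (2, true)] [(1, true)] [(1, true)] 2,
  .conj [(0, true), (1, true), (0, true), (1, true)] [(0, true)] [(1, true)] 2,
  .conj [(1, true), (0, true), (4, true), (0, true)] [(2, true)] [(2, true)] 2,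
  .conj [(1, true), (2, true), (0, true), (1, true), (0, true), (2, true)] [(4, true)] [(0, true)] 2,
  .conj [(2, true), (0, true), (2, true)] [(0, true)] [(0, true)] 2,
  .conj [(1, true), (0, true), (1, true), (0, true)] [(1, true)] [(0, true)] 2]

def cenB : H91.TCU43B.Lt → Bool
  | _ => false

def CB : CP X H91.TCU43B.Lt where
  iv := fun x => decide (nn x = 2)
  wd := wdB
  cen := cenB
  q := 27
  exact := rulesB.map fun r => nrm (fun x => decide (nn x = 2)) (red (fun x => decide (nn x = 2)) (r.word nn))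

theorem hsB : (rulesB.all fun r => (r.needs nn).all fun w => isSc (evm cL w)) = true := by decide +kernel
theorem okB : (rulesB.all fun r => r.ok 27 nn (fun _ => false)) = true := by decide +kernel
theorem hcB : ∀ z, CB.cen z = true → isSc (evm cL (CB.wd z)) = true := by
  intro z hz
  cases z <;> first | (exact absurd hz (by decide)) | decide +kernel

theorem lvdB {P' : Type} [Group P'] [Finite P'] {f : X → P'} (hiv : ∀ x, CB.iv x = true → f x * f x = 1)
    (ht : ∀ r ∈ rulesB, ev f (r.word nn) = 1)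
    (hcen : ∀ z, CB.cen z = true → ∀ y : P', ev f (CB.wd z) * y = y * ev f (CB.wd z))
    (hpow : ∀ z, CB.cen z = true → ev f (CB.wd z) ^ CB.q = 1) :
    Nat.card (Kl f SB) ≤ 36 * Nat.card (Kl f TB) := by
  have hh : CB.Holds f := holdsDF (rules := rulesB) (n := nn) hiv rfl ht hcen hpow
  obtain ⟨hinv, hrel⟩ := CP.relOK hh (inv := H91.TCU43B.inv) (mm := H91.TCU43B.mm) (ex := H91.TCU43B.extra) (by intro x; cases x <;> decide +kernel)
    (by intro x y; cases x <;> cases y <;> decide +kernel) (by decide +kernel)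
  exact level (subs := H91.TCU43B.subs) (fun H hH => H91.TCU43B.main hinv hrel.1 hrel.2 hH) (by decide +kernel) (by
    intro x hx
    fin_cases x
    · exact ⟨.a, rfl⟩
    · exact ⟨.b, rfl⟩
    · exact ⟨.c, rfl⟩
    · exact absurd hx (by decide)
    · exact ⟨.e, rfl⟩)

/-- letters of level C -/
def SC : X → Bool := ![true, false, true, false, true]

/-- lower letters of level C -/
def TC : X → Bool := ![false, false, true, false, true]

def wdC : H91.TCU43C.Lt → W X
  | .a => [(0, true)]
  | .c => [(2, true)]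
  | .e => [(4, true)]
  | .z => [(0, true), (2, true), (4, true), (0, true), (2, true), (4, true), (0, true), (2, true), (4, true), (0, true), (2, true), (4, true), (0, true), (2, true), (4, true)]
  | .zi => [(4, false), (2, false), (0, false), (4, false), (2, false), (0, false), (4, false), (2, false), (0, false), (4, false), (2, false), (0, false), (4, false), (2, false), (0, false)]
  | .y => [(0, true), (2, true), (0, true), (4, true), (2, true), (0, true), (2, true), (4, true), (0, true), (2, true), (4, true), (2, true), (0, true), (4, true), (0, true), (2, true), (4, true)]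
  | .yi => [(4, false), (2, false), (0, false), (4, false), (0, false), (2, false), (4, false), (2, false), (0, false), (4, false), (2, false), (0, false), (2, false), (4, false), (0, false), (2, false), (0, false)]

def rulesC : List (Rule X) := [
  .conj [(4, true), (2, true), (4, true)] [(0, true)] [(0, true)] 2]

def cenC : H91.TCU43C.Lt → Bool
  | .z => true
  | .zi => true
  | .y => true
  | .yi => true
  | _ => false

def CC : CP X H91.TCU43C.Lt where
  iv := fun x => decide (nn x = 2)
  wd := wdC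
  cen := cenC
  q := 27
  exact := rulesC.map fun r => nrm (fun x => decide (nn x = 2)) (red (fun x => decide (nn x = 2)) (r.word nn))

theorem hsC : (rulesC.all fun r => (r.needs nn).all fun w => isSc (evm cL w)) = true := by decide +kernel
theorem okC : (rulesC.all fun r => r.ok 27 nn (fun _ => false)) = true := by decide +kernel
theorem hcC : ∀ z, CC.cen z = true → isSc (evm cL (CC.wd z)) = true := by
  intro z hz
  cases z <;> first | (exact absurd hz (by decide)) | decide +kernel

theorem lvdC {P' : Type} [Group P'] [Finite P'] {f : X → P'} (hiv : ∀ x, CC.iv x = true → f x * f x = 1)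
    (ht : ∀ r ∈ rulesC, ev f (r.word nn) = 1)
    (hcen : ∀ z, CC.cen z = true → ∀ y : P', ev f (CC.wd z) * y = y * ev f (CC.wd z))
    (hpow : ∀ z, CC.cen z = true → ev f (CC.wd z) ^ CC.q = 1) :
    Nat.card (Kl f SC) ≤ 60 * Nat.card (Kl f TC) := by
  have hh : CC.Holds f := holdsDF (rules := rulesC) (n := nn) hiv rfl ht hcen hpow
  obtain ⟨hinv, hrel⟩ := CP.relOK hh (inv := H91.TCU43C.inv) (mm := H91.TCU43C.mm) (ex := H91.TCU43C.extra) (by intro x; cases x <;> decide +kernel)
    (by intro x y; cases x <;> cases y <;> decide +kernel) (by decide +kernel)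
  exact level (subs := H91.TCU43C.subs) (fun H hH => H91.TCU43C.main hinv hrel.1 hrel.2 hH) (by decide +kernel) (by
    intro x hx
    fin_cases x
    · exact ⟨.a, rfl⟩
    · exact absurd hx (by decide)
    · exact ⟨.c, rfl⟩
    · exact absurd hx (by decide)
    · exact ⟨.e, rfl⟩)

/-- letters of level D -/
def SD : X → Bool := ![false, false, true, false, true]

/-- lower letters of level D -/
def TD : X → Bool := ![false, false, true, false, false]

def wdD : H91.TCU43D.Lt → W X
  | .c => [(2, true)]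
  | .e => [(4, true)]

def rulesD : List (Rule X) := [
  .conj [(2, true), (4, true), (2, true), (4, true), (2, true)] [(4, true)] [(4, true)] 2,
  .conj [(4, true), (2, true), (4, true), (2, true), (4, true)] [(2, true)] [(2, true)] 2]

def cenD : H91.TCU43D.Lt → Bool
  | _ => false

def CD : CP X H91.TCU43D.Lt where
  iv := fun x => decide (nn x = 2)
  wd := wdD
  cen := cenD
  q := 27
  exact := rulesD.map fun r => nrm (fun x => decide (nn x = 2)) (red (fun x => decide (nn x = 2)) (r.word nn))

theorem hsD : (rulesD.all fun r => (r.needs nn).all fun w => isSc (evm cL w)) = true := by decide +kernel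
theorem okD : (rulesD.all fun r => r.ok 27 nn (fun _ => false)) = true := by decide +kernel
theorem hcD : ∀ z, CD.cen z = true → isSc (evm cL (CD.wd z)) = true := by
  intro z hz
  cases z <;> first | (exact absurd hz (by decide)) | decide +kernel

theorem lvdD {P' : Type} [Group P'] [Finite P'] {f : X → P'} (hiv : ∀ x, CD.iv x = true → f x * f x = 1)
    (ht : ∀ r ∈ rulesD, ev f (r.word nn) = 1)
    (hcen : ∀ z, CD.cen z = true → ∀ y : P', ev f (CD.wd z) * y = y * ev f (CD.wd z))
    (hpow : ∀ z, CD.cen z = true → ev f (CD.wd z) ^ CD.q = 1) :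
    Nat.card (Kl f SD) ≤ 6 * Nat.card (Kl f TD) := by
  have hh : CD.Holds f := holdsDF (rules := rulesD) (n := nn) hiv rfl ht hcen hpow
  obtain ⟨hinv, hrel⟩ := CP.relOK hh (inv := H91.TCU43D.inv) (mm := H91.TCU43D.mm) (ex := H91.TCU43D.extra) (by intro x; cases x <;> decide +kernel)
    (by intro x y; cases x <;> cases y <;> decide +kernel) (by decide +kernel)
  exact level (subs := H91.TCU43D.subs) (fun H hH => H91.TCU43D.main hinv hrel.1 hrel.2 hH) (by decide +kernel) (by
    intro x hx
    fin_cases x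
    · exact absurd hx (by decide)
    · exact absurd hx (by decide)
    · exact ⟨.c, rfl⟩
    · exact absurd hx (by decide)
    · exact ⟨.e, rfl⟩)

/-- codes of the permutations on 1134 points -/
def pcode : X → ℕ := ![0x231c6c8570e61345b83319a2d4648db17a2bc3a88d18a2ec008d1196024558c313a2c4438a6f6e2541a793159e3c31787145dcbb676517e1c3fb8a90fdd1c40884f89cd3977251823544571cf81c638f830e0e26381700dfa16bb08d6eb9bc3777f11a612bf4847089aeb5c6aaeb20ec1c69914233c33690d0da136e67cce608b93658ca206c0c816c698cb18794e75d2c5962500987c5c7fef7583bbc888c0d804275fefd9fac245f0bddf8bcf7acbc9f6bec6defa9922fe5d2d51e43e46270f972c367bee6dff37c8a4e2967ace598fbd63ac65e6be5602fb7e0af55daba73901e27be589aac99eb6d896ba9562b0554e1d54bfc550a9624aa45431214fad353d11dd8c2c64f0a9d6c1e708d3547a8e5c6a3602a8a882cdd43ba073ea12033cb7bd0f57231c878c7db82768210ed882fa8690dd60c354dcf6948a8377ce19333ab86498a1842f4bb0b964bdc4a2de94b429850935baa716e6dc9913957d7051e2349482d451f23c6ce8d9b2a324c8949573315868aa10c20450895aca2455a88a0fbe666887db535069e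875d541b438d29b64175b68c10b2eb82d05509a3842504de2a0c5ba96a0920974481101b53402855b01ff538cb8fec0f4e6bb4fc40e75ec98fa3e9646dc4f81ee72cc78f63983d702a04c084fe9b1821e57c700cf0391802779692fc5b8c28ebb087fa758eab157f4c08e9bf97eefa0e830c7a0e41e93f37e497ce59c97a6fb8eda985de70d951c1688f09f39cf37cb99f0b9974e730dda8138a6e19db0b68e6d9041b5462b40e01b3768c34d8ad67b2f60d7bd75966adbeabe7aaf50d29a46be721c6bd1342b21e719f79af30ce99c334ad8cca80404f1933bc032ed85abbc13ccefddebbb3ce655dd3b8492639db9a676aeccca32f4ac8514caf030ade4c618452660dc4982752ea1d328c2fee914497d7425f123b9e7105e9702b462e8f4ff1804f65d53c9734e0e513a970656901ba2772dae2cb5b162d0634b3a29562e14b1b634c6e092824b5ec979bf95a45ace8ab9542aaa6cd41524a6d89bda6129e6c9bb14d4c08b95194a50a7a522a4443451db5a7228cda53f36842e50cac340320d98dc93f27cd916bb4645e9292d9fa37ad793435b26c4d5ad358264d5898a206a44b9a734b25890c95929476d159929a682cfc92a1024848cecb3c2448299c2d92408188fb3666aacd9991c6609f5969fc2308b0f8b293ee4588d325284440fcb2121cc8086b1d6364b5231a254eaad8a11220e4c0833113be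c38b51045e276906902612c19828ff602748e8afd5d04e4e6ae25ea5917a2c21f23e16f8f75dc3d9762d51e8b9d158f35c23e91aade1e2b696c0f05a89396890159a3b0cf1ac59442474a551cea8162ac41ca7a15f8e45786b55cab81c4add5a8e155e6595329d3263746e2371b6a89352951b0364ac8d630e3554ba94524a40c0a7c5165f94428619ca08668cc1d63293d1744f05c8642742de5b9378c14da7746026b4d22fc5f1ca4ca5885e1601762e8ae8b9170970c4a394b25012ba58166950a88b149e2c92613b15a920560ab4848fc550b74747cc541564688cc950a6298294e70a314089d1313413c88d109e2136878f521b4324f50c09824e25d08a0f41c82c4a20740a24c8ea001247d4489fb11e7d84688c1d07905a9f221e7bcf6885216210d50833c6784411dc10c760d80803a81fc7e8a410e6e8e39c63887083d9bf3781e8db9b40f23b83c1ae2ee1d8d491334e1ccd19a00e466ccc0c50e01bcc919131e368c518b0d6620c306a1a6348348d00d05ecbc9781965d83297118e190700c4186188b61692cc5942f9612be578ae15b2882d88885a2a6538a80610ae2b8a5949290514299410a44f09d0fc2701405093709c4cc4e84d25e2682612824c12c2512123c46c8c84722e1188a91409e110448431f640c8610a2104141f9001fc1d01e8551ea3c8778ed0ce3a81c87e1cc38c1b8df1bc0d8368351ae350688cf0ee0d0648c60603085802f17a1781705c05a2d01605815e0a83e05415229c138a211627c4e09912c254248481202381008a1100781d01d1020f83e8260361043a81a0e21b8360660300c80b8630c01742d859028158098120a20f00802401e0880704502a1082000c0760e0058330620580f82b0520a0040250460840301c0320140201100e0340500900600401000,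 0x21bc658af0ca1d41a8cf19a3641682b04e28c0e8bf0f22ec2a7ecfe62cc588d6fc1f33e180711e30c50797139e6bc47fb0d614c218a4ec222c0d794e91f03a273ae6a03c5e8771a5c7bf38db0da254177071a9c14307af0ba16bff71717224bbe6ecf61ba36b846d7a243e57d4d6e0eb518371a1a4b4886919231b458c50499c32e81f18222325640d91f240887ac5189b128a6c3dd7b0a858dfe25b066acfea2d3ba70916d8d2fd870ee5ae4565e8fb998af168d07d9faeb7cf156104095ccb962a4415beec56a2d35a2b41de42685eb21dc365766b05e3b4c75ad4a26bcc89f10d5a3c87a2ae5e2c4c55eb0d7d2aa60f0a1653d9776fe1f93d5646ea562bb47a6c6def446802eb9e7a92756e1ddb32951ac45d2c42513101d0ba0642e6e1fa8273d0f93fb9861cb8582b945e49d138acc8729bdc6a6e856ac536a68754d61c2bf78670c54a35a7fcc65bea53610be185a4f49d09dbac25498919b8a456b290d212638488f9b4b6852abb1ea40a466d8917a784b108914bf183ce01b7b866aefed95a2043ef3a0e21e43a981613d069686e0cc1842efae0a24142a9dda0a127d28f507af367682904c114b2a2d9aa01578cc9f6aed65f041969fb6aa7e9d421464e8ea061f376e7c1cfc0b3dea18f92ae764fd5bf1e93d0798f2c0680b011d3310804e5cf5b0c6f30016f37b77eff1caa8a3a874d5d30053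2741fa1f4526f04e6b7a4c272d7abef678e4df62e3388bb9983667d0a6d599be5cef8df11bc5e06edcb2a17bec25289b756a709062ab4486e8fb3dd7b86c5edbda360a6966b90356ef4e2bd634e699daa5d784d35e91a8392680cfb3333cc05e31a556ea996dbc95d2661c5197786c70caa255b0f015499254ead8c898f40aa89702a031481d4e9885d4b397f9853c075db3b815f6eb0c3266506749d397f66cc11d1a882f8c78bda8451ee7140979732779119784f679cbab606845c4b83924e65bdc896d71ce31c496836867134b882c8a41329626d85857bb4e2ba56d621992b28e59bb5f38c54cd69906f85416e94f6f0ddcafb7349692924a4846adc9b81486dcdb5a214647eda99f145288c992d14136c5012394b6c68c918a306c28849ca002704ddae93626a60d562d74fa889173546a6d41a792c6948610ca1a68e4a1a1b2824cd010892467a4ecbf2d9372ce99c92053c47d51a0423c4759a22c2367f88c918658ca8c71f822ab548a2fc648c74b032263e434f690c61a7a98c3174f4c598a9073c6788d4a9720a9f8821dc25a40c811d852c400eab03604a387f2fe1fa62d7c8fb5ec3e95f9b237a95d64aef266b68888f41f0ba0e3ae45c4b59058f15b88dc7826b346721692cf1da6b92a91a5963a8f0ac058eb195c0e53663c8722be57aaec71a6a1ec6312e2b25604c9568de1baaa152a5454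87e46c99a39ca7c6ba9c2cca454c0d344c3486b0d151883467a8750a3354027c1944213c8c92e63213b2754e44193816c29c31cb4a6c17e61cb2a6717a991311f149a3bd2f95c4bc2dd2d9582ae2d08b0b34ac38858a524a05ac579174682b087a441789011e23b24a2a11c23614e4f85313c41c2a516a2b4548a11389e3866586189c15627ceda1c1322b84c21612e84ca1a1012a2506720840c80d010923fe6b0fe9fc298554fb9f5226224e088829221cf71ec108304419763c85b8ef9dd3b4764401d6188744e78b83987283e9bf0f866c7a9c00f4688dc1b52bc1e0d78860ec6a8748750e636cd21a133a548388701be650c98bb1cc1bcc686b312604350b2308608c00682fa484bd06618a5dcba1722d4284658ff2621fc850612ce180b19471b82882e8fc2b417c2d1562a8350a885829a4a82b14a25e1509d14227e4f4288a40e82e8630a025c4d0269301361309592924e258919220924702405908c1282288c0882288911021c3b02110b2120fc409011840f47c8f70d83cc1d8ee0743ac740a31ce0dc708e01b416c1a87b1b0354198d0064330188300c6188600be16c0b85c84f0dc2d4480b00ae2b42a8aa0500a4528260b81384e89a0462384989104223c4688b03c214208401040703f01b0f21dc1101f0e4064368180d219c3286402c1780a82505604c290530221401600f0960e42382007010c0603e07802c1b03402e0bc168090540201380d0480180801d0340280a0120080380100700201401800,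 0x236c648d709a34c3b8a119a0b46c8af18a30c608b317a2ec08898fd22fc548c6f9e2ac58823149ecc6789ef21e345b81cf022344888f125d7444886f2e20baf87f0fa1ec3c8d10ea1cc3086ee321ab8b7870c9f7c386fefce16b7b856e36004278511a9b9b82846faa09bcc6bcd4a0eb50832d2e0db9482f1960ab59842e8629b337ef12d92c0c8030299e45c629019dabd367100a05c29610de1febfc744f85e22ff81ebf57e45a85cf8da9af5862d2578bec5dd089763588acf9973ae67e4f89fd3e06e4ecd8c31576cef628bd8616e49b5ae2808d69742bf57af35e7420884ad1e4c4e565135583f9866ab15c44a77eac5ed3bc756e4579af472af6e02bb47bcec94ba968811154936a776a41d4b1a672a7d45ba46c0fee093a063ccd5ceb9c540e5d8b388734ce9dbc184e8f59dd2d44dee3a154368689b5bb3984ce9d55426570709160a5d85eb312d30585894127bfe658e25baa4c84af7d9db70654d295e2417aaeb180368612d9977b6446e8bd1fba345b07d72a28572f4a0a3e8446c81a2a407e30790f41c668ad535a1c834db9f72195b492daaa154c484da0a2167ec0d67c096e2e59d3c0366eaddcf34f8209cd98a163fcc094e3773f4dbd1d2763ee7d206b244a48d5433564ace7d8e9eb504ea0f4bdd55ae65ee40758c78103aa73bec38ee9da7ae75db3bff3acc19be1d467ccb97b3697f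0899fb3f539e738f8adc398c05f83b8772b1df69c46caface13e94586fcdf3d17caf91aea6c376f5143ae0370a60dbaf836cd1d031e84766d0d9b9036279168a4e67a6bd66b7e56c7ed4d9a75e4c4d2da94346689c09a17a0951e7b6d396675adbc166cb2da73ca330f1ddf3c555e9f98bbc2328aa8c9385620644d51c931c8e550b9b74c624c432d59283cc32de762ec0c22c4306eb538baa51ea38bfa0874a8f0bea105c2c84e32042f4c6cbc9e32f0ab9349764f6600ba20d2e2ca1c33936649c9489d971e5b1c52e469a9613e96570e58dc221b2c2d0cb02334347f1c01ad58adf52ca6a2a6c7ca92be2a0c8ca7b7a6f2b40a6b7468c52ca515829282ca424428e74db63546c267ca2a8a5aeca5511ee6c68d9912324c08d09e93c6c44e9afaeb3ea7fd14b5c430bf8fb1336ae4c5a012f25cd450134c4c897da4227250cc1a212668449508a885348393c12248c4849028c622b64aa2843348748e170454cbcb3a5e594cac8b11564e89515b263e67c97c90e2f68e0f692363842d8cad821242083ad25005c8f0b1261e411869dc24ec31381d8614c1c7fb044843f8e88fd5f6be87daf7576579520f936aa147baf01ecbb4e09395d4ba4799195c63c878adf5bab6ce3ad65aa3bd698ed59c5592e0eb1d4a94d48e75905647298b586b096015a47c38d5d0f428880c70ab31be5dc6f2ab2beaa5530db25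8a8c8f0d834835d4f29d1aaa6469a9552659868a7a51a33d448ce3dea0d40a7f32c9f064a791907893ba0018c30860a6e1ba300890bf3fa609340bd4cc2f131a613267289a0e81a8680d32481686b859a054ae954a8a534a22bd268ad49492523a454862a91e99b152508760a727e29918a3014a8b8e00a225227c4f15d448331110cb44087c4d18f2562609ba173b6851090963d8831052091266344920115c244de09022e7e4fc0b91145a44411010e7c04290c3d4404f39e63ca208829de102200851003aa748e807e39a1f4e407c38a70c4599c37a6e8dc879364270d81413586ac4795c3502dcd287233c1c4cc8e032e654b586e3201b43598c31420cc395b30a1a4c08d02fc5f066932260194ba9730c85bc3b8630c45b8b696a2d02f8b21620bc1748a06c1cc16c471572aa1642c0b029c46ca60550a8518a18522804f89d8750a04e05084e26c4d44e8ee1124b44c92a0964904a84923e4748d1181d22d4298441ea44c4d91121e108868411ac4188190207c3f07d0f80780ec7803a18a11c5203806e3907107006c3706d0b81b20cc690320ce0c4650c718830c1786005c2ec5d02d16c168590b1056158560ab11a2a0288a304a2801202312e1284a0210ec0802188c08a218420400381fc0d87b0f41e00d0740e61bc0c0190d41a0330160c217c2e0140ae0a81481d04e0402784d0980382404601a0301403f07a0e41a0350140c00482c0100480882601e0880f81e00a05c0a8130060080580100e01802000,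 0x236c318d70a234c6886905a32c638c915a07c1981b01e01c5c818fd5f93f07df189f444d7b714a1bbd089ef2a2a44c7f91160bbcc84311a253ac74f071e93b087f0f9d2c3c7fae3e0438e8a2fcddd4677550ca36430718dfdbdc2c6f4de614c6a84adce13c1a6bcfa623c2083efe9a8c428370923034b89319a0ab40826fb5d34108c303a2fc5b684d3a04c398bce798bbdc8bb001b0c026f0c1e1dc4b607079fcbf87eee4e2d2fb86d1657b4588aebd20935c7d6bb6114557ceba1a92e964aeb573ae2698b79c94048a6d3decbd87aecb1eabd458b105e8c505fcda1e6c48573139d8ab35c6bd5bb2af776db9722c477eaa5afaa87870d55234864ea7d5d29e6aca71e4c4052aa51f14445210cdd4b1c8870461eba46c4a217828650b019413575029fd4ea7c4f29e13b3827ecf75c8a708750e13742f57ee29c2269586999c2b894c6e512f2a585c9712baf785b0ae153ff630f152637484c9ad22a62488f0933a43682da9213ce476d9919b33460e8e00a2e77b08d97bec6a0d6912358738ecd1030c608f960eb5b7b50290e3df830aad0cbb8468859322c868702db5c1467e841202594168319cb3840a81d9aa2d6c8800ffa4a6ba7f596bd6656ca95e9f776eb39f1b243e0c8990a983da7b18eba86367a98537780a9a12db143c8c48f19df54cc396c3543b0c656b1d67fcc196e3537f6960ea1d23a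2f3d3b9cf7e8741291cc6f8fc5e33ee39071ce23a1394839f51c23808e1f23e67c26f4de3c178ef80df9b85bef78ecb053728c4dab0d368c255f1b7444821689b03b4c99369ac406a64d434440ca31e9bc070e694d09fc716b55949a339aed5e5a185006655a9987906e8cba65788654ce99469464ddf3bc322c3dc03b9320a88c618a76ced1ccbb230e6196532052e611d7bae30aa48c13ab30260146ac65165f904ba23dce81cf97a31ae75cdab77345dcbb3982ea9e9cbb965fae54c59712de934b73904dee3566a276e459dc43166dae1958345706dc0b115e4bee04ad37e62a55d9e3026fa958aa9b2424be528a502d853939375296cc0ab1f948e521b8b6f6d8da4a333d426514cf1f86ce898a12ea2808289fb476ca4f56d363274d819a1384568a89b2284d88e89a359446b4c99b5540487896b4d25e4ada4ab842ed18931a747e94c9433e3f6bb89133a6768d944ad266cb1d9b91e59687c95332662465972c041e45d2423c650450f09122224ec87323294a1d8fb1e216c68851093ba798b9313622418fa90562049cf3908206b3d6eb0b202c20813011fcc017fafa5f83f15daf81f4bbc7caf35e448c87af11f0bb07aaeb5c23cd732e51e4ac96dae05a83c16cad71de950772d02d25ec75acc356680752c942839961163578391609aa1c68f5568e22523855b2b4562379572ac55437d53aa331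e36941aa14eaa80c4965536a6949a961a4a4547a8e1a0a288f97c35ca106b9744fc9f53d97821a7953a0c64e69c461a4f180370d79684d4308c4164348984b08bb2be9805c95c2b69745b0b54b49252a9541682c8a4924160938a69134967bca8a461549051f0a926e8e46223746a4f9190a73e48bc5122c2868a4502254422744e11a4362690e899434804cda113bc8544b15038c834908932fa8104a0972364c0ff0b13f4238679f62987d0f98e838a7c4b990c3d67a4f41dc104788f00813b6754eb9000fe74c3f1ce0fa72ce49c310c1ece087a37c6ec3c9b63666c45787735a6a43a9101aa698391a233e670cd0bd3246583716a0da638398d82f21a8738be0d260c6897f22a19c330cc0ca2446486410a5c0319412da5983096b0c03507005e2c02b4ae85c0b6564ac1530b25488c14f1da1585d0ac10851ca20a82781445285011e4e42793513e134991310984b89604b2384944a91d2401206505714645836046116174218880843dc638ab07e41c8203e1fe3f47d83c1ec3d0788471d80e4748741b23941d8360de3746d88d0683586983519c334658c818a0bc608bf0602f0450b816e0b05982b1202b81482805a09c530a41420904f09b130088108920f02301181f11221c0e8381062000f07c0e20683b0400321c03406b03805c1885f0c40542985a0b00a82a8540a404c1284e08a1282480d0880f4208330160e81b80a0640241701404c0480880700c038100050360600b00302003c0600401000800001,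 0x1f61378a276c4e93c8411989509f778f6db01d68be5be2e9586bd16a2ca3c19f159103886445463593d504fad6433377eaa9b38610b0c7945c4447eec8bf25948901d200a135009011c387da408b9c2b3d4e3d6bac337eb5616b3a8690a99e22b1f8e3802a33846fe5d4c6779e9820eb2b2b506a0cb8c12cd713c2750610496eafb3684c0f9b2466ec98c21ce87ce5d85b9f292c757628650e5503b832382752110ea226fd9b2226408ecdf8a3056a9521bc6d89c8f88832a0e6151f2a9752ad74bca894a0c85029078c4464be84b31ad38cc0931a6ed4e123b83e70d1ba5c2a0f25e53494e8511078fd7067d99a9e2896b60bc46344661d8499b76e191e90897e5109d8bb0110969d6afe0ea1d21082940cdf9afb05746e89d0ba0808e7922b954902ac1eaae80cbc1ce17136c4a001a578650995c4185106f05cc541bc5847cb847866f9038f74b6e98ce37c2fede8c72c93ea59dba83906221db8b706a28b0e821e574da9b48c489244490bf5576ad1b0c6174b16df14165e4a7daca6438ecfdaab54268d31b7a1526cf596b35206e7e9e42b01c6d18a39626865b4b901e6ac77876c296770b1842f8816cd9e0a27898cc998a1c116a48dd038838fa0092ce28102992c0c5c114def32063111a011dd4a4c68aab1f17a9393f12f166c4951b1061e519820ad80ac29dcb39138341d230d28abf56db0000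2eb1810a88206912333821c7247219e30ad6d78b96410398e5c011786290b0f62a475c4d8b85b2a3424b233e278208a0b60269d71bbe862d36170d75028f460050100ca10811e1a2289bc44d566974a9a56860a74bd87242e36d211836c6dacc7b8d380619f7b6258e8900db48082e61368550bb12877aa854e5986a9336224e5298e56b41f16129c5289c14ca967c8a61f1a9b33ecb81987e2f4a397128c88a795f038b7ff000d30ac0c713d69a682c8c553e9144f69e80a41536049a0a3c74e69c938a9a25a65d569fb3448b43ca800d85d8793584c690c78c1e40457d633cc6feeba200f4720b109f3ee542c6d28bdf334c5837132340884d1b9b370be5cec3f4c4af50043d886fa9694587a08e91c85379a29ce684684849438bf03b850d3536e8508a8b4a1a668fd0d9ab277616925455238db04f3302e08a10989257eba5a810143250461acd78a209068ce5b882904aef702e9deebf33de97cffa414026480f82d4d8d28ac93f080f09bb81381a77d6f9f04063b0ed0513630cc358a300e2e9451e33c8f001f2de3e4cf98e22f8d47b46090b5cd18066bfa39e09c08b6d3a70211a94f5da6c97b08c6ae3606c91f79cf45fdab785ee081db8a128cb47da472c0e4c79c0f44a728f5a771be218708663041a4b743b5b4a14c5afa4929ac73a4b526bd09637d77093c713d54dc6589c0103267f8418b757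2de5eb8f834aba88b08a774ad979c095786acc086a6f7105ec97c582a3df0bbd0da998278af86ad05ca21b8bc6a5a110a1205a9148266eca988227f01ad11c31b74bc1f48d8f005d06cfcc5c21a23d8cbfe58ab9e293cb398178a685616852a0194868ac3981bc645c021093273f09562846812a0a1511958d8d3c4c35354893098c0e6284b93799d1351948eb921329d9191240fe481b2922388b3094a1f2ba0d5ed05f1026248aa7c7ee449b33e921ebdcab83f3b05b06907b7b8418829652070d90a03a1fe3f9e24273723d5c298c700ba07d25836a9953095c5523819e9ee068fe00e8e8342bb9502f568e664d68ee35ee1c6481557c038e29c65a8011528257a642565b068ae830ea8360e011c6e8c80c031862b68422294ecad10780598baeb164799c4ae43200b02514b6262ec588b02e82b9862847342a8212fc46c2986107a3d0b2a1e0a08c887634b075ca4ac9393512f05c9d9bb7a88603796b2ac188101c865e621da3af6e46b8218843228388bacf246a40af29e210291348787fa019d5baa7ceb01188cb122934bba673d2600d50680ce6b032bb650623a240c72305395585c0b28882dc470ae531563e64700a8f62d02ea1382684c7b02d57080b1948d00604410a2a5579f7218785cc8bf37a401ba32c6963308d0eb522ff1b9c1305e56cfe0b6056149d413a3a45a06a43a8720880c88d3fad007481c5620601081a02e2f86e2793e8ca4e899401e368b1845090028049423ce1da128d67220097f800]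
theorem pok : ∀ x, okc 11 1134 (pcode x) (pcode x) = true := by intro x; fin_cases x <;> decide +kernel
noncomputable def pp (x : X) : Equiv.Perm (Fin 1134) := ofCode (finCoding 1134) 11 (pcode x) (pcode x) (pok x)
theorem prep (x : X) : Rep (finCoding 1134) 11 (pp x) (pcode x) := rep_ofCode _
theorem prepi (x : X) : Rep (finCoding 1134) 11 (pp x)⁻¹ (pcode x) := rep_ofCode_inv _
theorem ptr {w : W X} (h : isOne 11 1134 (evc 11 1134 pcode pcode w) = true) : ev pp w = 1 :=
  (Rep.isOne_iff (rep_evc (by norm_num) (g := pp) prep prepi w)).1 h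
theorem ptr' {w : W X} (h : ev pp w = 1) : isOne 11 1134 (evc 11 1134 pcode pcode w) = true :=
  (Rep.isOne_iff (rep_evc (by norm_num) (g := pp) prep prepi w)).2 h

/-- central words -/
def z1 : W X := [(0, true), (1, true), (3, true), (0, true), (1, true), (3, true), (0, true), (1, true), (3, true), (0, true), (1, true), (3, true), (0, true), (1, true), (3, true)]
def z2 : W X := [(0, true), (2, true), (3, true), (0, true), (2, true), (3, true), (0, true), (2, true), (3, true), (0, true), (2, true), (3, true), (0, true), (2, true), (3, true)]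

/-- words of commuting elements of order 3 and of order 2, and of elements of order 5 and 7 -/
def t1 : W X := [(2, true), (3, true)]
def t2 : W X := [(1, true), (0, true), (1, true), (2, true), (3, true), (1, true), (0, true), (1, true)]
def t3 : W X := [(1, true), (2, true), (1, true), (2, true), (3, true), (1, true), (2, true), (1, true)]
def t4 : W X := [(0, true), (1, true), (0, true), (2, true), (0, true), (1, true), (0, true), (2, true), (3, true), (0, true), (1, true), (0, true), (2, true), (0, true), (1, true), (0, true)]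
def v1 : W X := [(1, true)]
def v2 : W X := [(2, true), (1, true), (2, true)]
def v3 : W X := [(3, true), (0, true), (1, true), (2, true), (1, true), (0, true), (3, true)]
def v4 : W X := [(2, true), (3, true), (0, true), (1, true), (2, true), (1, true), (0, true), (3, true), (2, true)]
def w5 : W X := [(0, true), (1, true)]
def w7 : W X := [(0, true), (1, true), (0, true), (1, true), (3, true)]

theorem mono_Kl {P' : Type} [Group P'] [Finite P'] (f : X → P') {S T : X → Bool} (h : ∀ x, S x = true → T x = true) :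
    Nat.card (Kl f S) ≤ Nat.card (Kl f T) := by
  refine Subgroup.card_le_of_le ?_
  rw [Kl, Kl]
  exact closure_mono (fun y ⟨x, hx, hy⟩ => ⟨x, h x hx, hy⟩)

/-- the total bound -/
theorem total {P' : Type} [Group P'] [Finite P'] {f : X → P'} (hsq : ∀ x, f x * f x = 1)
    (hA : ∀ r ∈ rulesA, ev f (r.word nn) = 1) (hB : ∀ r ∈ rulesB, ev f (r.word nn) = 1)
    (hC : ∀ r ∈ rulesC, ev f (r.word nn) = 1) (hD : ∀ r ∈ rulesD, ev f (r.word nn) = 1)
    (hcen : ∀ z, CC.cen z = true → ∀ y : P', ev f (CC.wd z) * y = y * ev f (CC.wd z))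
    (hpow : ∀ z, CC.cen z = true → ev f (CC.wd z) ^ 27 = 1) : Nat.card (Kl f SA) ≤ 29393280 := by
  have f1 := lvdA (fun x _ => hsq x) hA (fun z hz => absurd hz (by cases z <;> decide)) (fun z hz => absurd hz (by cases z <;> decide))
  have f2 := lvdB (fun x _ => hsq x) hB (fun z hz => absurd hz (by cases z <;> decide)) (fun z hz => absurd hz (by cases z <;> decide))
  have f3 := lvdC (fun x _ => hsq x) hC hcen hpow
  have f4 := lvdD (fun x _ => hsq x) hD (fun z hz => absurd hz (by cases z <;> decide)) (fun z hz => absurd hz (by cases z <;> decide))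
  have m1 : Nat.card (Kl f TA) ≤ Nat.card (Kl f SB) := mono_Kl f (by decide)
  have m2 : Nat.card (Kl f TB) ≤ Nat.card (Kl f SC) := mono_Kl f (by decide)
  have m3 : Nat.card (Kl f TC) ≤ Nat.card (Kl f SD) := mono_Kl f (by decide)
  have m4 : Nat.card (Kl f TD) ≤ 2 := card_Kl_one (x0 := 2) (by decide) (by norm_num) (by rw [pow_two]; exact hsq 2)
  omega

section field2

variable {K : Type} [Field K] [Fintype K] [CharP K 3] (hK : Fintype.card K = 9) {i : K} (hi : i * i = -1)

theorem lift_rules {Γ : Type} [Group Γ] [Finite Γ] {σ : Γ →* PSU 4 K 3} {f : X → Γ} (h : Lifts σ 27 nn (g hK hi) f)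
    {rules : List (Rule X)} (hs : (rules.all fun r => (r.needs nn).all fun w => isSc (evm cL w)) = true)
    (ok : (rules.all fun r => r.ok 27 nn (fun _ => false)) = true) : ∀ r ∈ rules, ev f (r.word nn) = 1 := by
  intro r hr
  exact Rule.holds h (Inj.none _ (fun _ => rfl)) (List.all_eq_true.1 ok r hr)
    (fun w hw => tr hK hi (List.all_eq_true.1 (List.all_eq_true.1 hs r hr) w hw))

theorem bound (Γ : Type) [Group Γ] [Finite Γ] (σ : Γ →* PSU 4 K 3) (f : X → Γ) (h : Lifts σ 27 nn (g hK hi) f) :
    Nat.card (Kl f SA) ≤ 29393280 := by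
  have hk : ∀ z, CC.cen z = true → ev f (CC.wd z) ∈ σ.ker := by
    intro z hz
    rw [MonoidHom.mem_ker, h.ev]
    exact tr hK hi (hcC z hz)
  refine total ?_ (lift_rules hK hi h hsA okA) (lift_rules hK hi h hsB okB) (lift_rules hK hi h hsC okC)
    (lift_rules hK hi h hsD okD) ?_ ?_
  · intro x
    have := h.ord x
    rwa [nn_two, pow_two] at this
  · intro z hz y
    exact (mem_center_iff.1 (h.cen (hk z hz)) y).symm
  · intro z hz
    exact h.pow _ (hk z hz)

theorem comm_g {u v : W X} (h : isSc (evm cL (u ++ (v ++ (winv u ++ winv v)))) = true) :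
    Commute (ev (g hK hi) u) (ev (g hK hi) v) := by
  have h1 := tr hK hi h
  rw [ev_append, ev_append, ev_append, ev_winv, ev_winv, ← mul_assoc, ← mul_assoc, mul_inv_eq_one, mul_inv_eq_iff_eq_mul] at h1
  exact h1

theorem pow_g {u : W X} {n : ℕ} (h : isSc (evm cL (rep u n)) = true) : ev (g hK hi) u ^ n = 1 := by
  rw [← ev_rep]
  exact tr hK hi h

theorem mem_g {u : W X} (h : (u.all fun a => SA a.1) = true) : ev (g hK hi) u ∈ Kl (g hK hi) SA := ev_mem_Kl h

theorem chk3 : ∀ i j k l : Fin 3, isSc (evm cL (rep t1 i.val ++ (rep t2 j.val ++ (rep t3 k.val ++ rep t4 l.val)))) = true →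
    i.val = 0 ∧ j.val = 0 ∧ k.val = 0 ∧ l.val = 0 := by decide +kernel

theorem chk2 : ∀ i j k l : Fin 2, isSc (evm cL (rep v1 i.val ++ (rep v2 j.val ++ (rep v3 k.val ++ rep v4 l.val)))) = true →
    i.val = 0 ∧ j.val = 0 ∧ k.val = 0 ∧ l.val = 0 := by decide +kernel

theorem d81 : 3 ^ 4 ∣ Nat.card (Kl (g hK hi) SA) := by
  refine pow_four_dvd _ 3 (mem_g hK hi (u := t1) (by decide)) (mem_g hK hi (u := t2) (by decide)) (mem_g hK hi (u := t3) (by decide))
    (mem_g hK hi (u := t4) (by decide)) (pow_g hK hi (by decide +kernel)) (pow_g hK hi (by decide +kernel))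
    (pow_g hK hi (by decide +kernel)) (pow_g hK hi (by decide +kernel)) (comm_g hK hi (by decide +kernel))
    (comm_g hK hi (by decide +kernel)) (comm_g hK hi (by decide +kernel)) (comm_g hK hi (by decide +kernel))
    (comm_g hK hi (by decide +kernel)) (comm_g hK hi (by decide +kernel)) ?_
  intro a b c d h
  refine chk3 a b c d ((ev_one_iff hK hi _).1 ?_)
  rw [ev_append, ev_append, ev_append, ev_rep, ev_rep, ev_rep, ev_rep]
  exact h

theorem d16 : 2 ^ 4 ∣ Nat.card (Kl (g hK hi) SA) := by
  refine pow_four_dvd _ 2 (mem_g hK hi (u := v1) (by decide)) (mem_g hK hi (u := v2) (by decide)) (mem_g hK hi (u := v3) (by decide))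
    (mem_g hK hi (u := v4) (by decide)) (pow_g hK hi (by decide +kernel)) (pow_g hK hi (by decide +kernel))
    (pow_g hK hi (by decide +kernel)) (pow_g hK hi (by decide +kernel)) (comm_g hK hi (by decide +kernel))
    (comm_g hK hi (by decide +kernel)) (comm_g hK hi (by decide +kernel)) (comm_g hK hi (by decide +kernel))
    (comm_g hK hi (by decide +kernel)) (comm_g hK hi (by decide +kernel)) ?_
  intro a b c d h
  refine chk2 a b c d ((ev_one_iff hK hi _).1 ?_)
  rw [ev_append, ev_append, ev_append, ev_rep, ev_rep, ev_rep, ev_rep]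
  exact h

theorem dp {u : W X} {p : ℕ} (hp : p.Prime) (hu : (u.all fun a => SA a.1) = true) (h1 : isSc (evm cL (rep u p)) = true)
    (h2 : isSc (evm cL u) = false) : p ∣ Nat.card (Kl (g hK hi) SA) := by
  have : Fact p.Prime := ⟨hp⟩
  have ho : orderOf (ev (g hK hi) u) = p := by
    refine orderOf_eq_prime (pow_g hK hi h1) ?_
    intro h3
    rw [ev_one_iff, h2] at h3
    exact absurd h3 (by simp)
  have h4 := orderOf_dvd_natCard (⟨ev (g hK hi) u, mem_g hK hi hu⟩ : Kl (g hK hi) SA)
  rwa [Subgroup.orderOf_mk, ho] at h4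

theorem gen : Kl (g hK hi) SA = ⊤ := by
  by_contra hne
  have h1 := (Cfsg.Agent.S2150.result (F := K) 3 (by rw [hK]; norm_num) (by norm_num)).1 (Kl (g hK hi) SA) hne
  have h2 := Subgroup.card_mul_index (Kl (g hK hi) SA)
  rw [H86.U43SevenC.card_PSU4 hK] at h2
  have d1 := d81 hK hi
  have d2 := d16 hK hi
  have d3 := dp hK hi (u := w5) (p := 5) (by norm_num) (by decide) (by decide +kernel) (by decide +kernel)
  have d4 := dp hK hi (u := w7) (p := 7) (by norm_num) (by decide) (by decide +kernel) (by decide +kernel)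
  have c1 : Nat.Coprime (3 ^ 4) (2 ^ 4) := by norm_num
  have c2 : Nat.Coprime (3 ^ 4 * 2 ^ 4) 5 := by norm_num
  have c3 : Nat.Coprime (3 ^ 4 * 2 ^ 4 * 5) 7 := by norm_num
  have d5 := c3.mul_dvd_of_dvd_of_dvd (c2.mul_dvd_of_dvd_of_dvd (c1.mul_dvd_of_dvd_of_dvd d1 d2) d3) d4
  obtain ⟨k, hk⟩ := d5
  rw [hk] at h2
  have h3 : k * (Kl (g hK hi) SA).index = 72 := by
    have : 45360 * (k * (Kl (g hK hi) SA).index) = 45360 * 72 := by
      calc 45360 * (k * (Kl (g hK hi) SA).index) = 3 ^ 4 * 2 ^ 4 * 5 * 7 * k * (Kl (g hK hi) SA).index := by ring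
        _ = 3265920 := h2
        _ = 45360 * 72 := by norm_num
    exact Nat.eq_of_mul_eq_mul_left (by norm_num) this
  have h4 : (Kl (g hK hi) SA).index ∣ 72 := ⟨k, by rw [← h3, mul_comm]⟩
  have h5 := Nat.le_of_dvd (by norm_num) h4
  norm_num at h1
  omega

include hK hi in
theorem noExt27 : NoExt (PSU 4 K 3) 27 :=
  noExt_of_bound (q := 27) (dvd_refl _) (hord hK hi) hn (gen hK hi) (bound hK hi) (by
    rw [H86.U43SevenC.card_PSU4 hK]; norm_num)

theorem perf (hK : Fintype.card K = 9) : commutator (PSU 4 K 3) = ⊤ := by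
  have h1 := H6.SUGenC.commutator_eq_top (F := K) (q := 3) (by rw [hK]; norm_num) 4 (by norm_num) (by omega)
  have h2 : (commutator (SU 4 K 3)).map (QuotientGroup.mk' (Subgroup.center (SU 4 K 3))) ≤ commutator (PSU 4 K 3) := by
    rw [_root_.commutator_def, Subgroup.map_commutator, _root_.commutator_def]
    exact Subgroup.commutator_mono le_top le_top
  rw [h1, ← MonoidHom.range_eq_map, MonoidHom.range_eq_top.2 (QuotientGroup.mk'_surjective _)] at h2
  exact top_le_iff.1 h2

theorem psq (x : X) : pp x * pp x = 1 := by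
  have h : ∀ x, isOne 11 1134 (evc 11 1134 pcode pcode [(x, true), (x, true)]) = true := by intro x; fin_cases x <;> decide +kernel
  have h1 := ptr (h x)
  change pp x * (pp x * 1) = 1 at h1
  rwa [mul_one] at h1

theorem chkP : ((rulesA ++ rulesB ++ rulesC ++ rulesD).all fun r =>
    isSc (evm cL (r.word nn)) && isOne 11 1134 (evc 11 1134 pcode pcode (r.word nn))) = true := by decide +kernel

theorem chkZ : ∀ z, CC.cen z = true → (isSc (evm cL (CC.wd z)) && isOne 11 1134 (evc 11 1134 pcode pcode (CC.wd z))) = true := by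
  intro z hz
  cases z <;> first | (exact absurd hz (by decide)) | decide +kernel

theorem pt2 {w : W X} (h : (isSc (evm cL w) && isOne 11 1134 (evc 11 1134 pcode pcode w)) = true) :
    ev (pr pp (g hK hi)) w = 1 := by
  rw [Bool.and_eq_true] at h
  rw [ev_pr, tr hK hi h.1, ptr h.2]
  rfl

theorem g_sq (x : X) : g hK hi x * g hK hi x = 1 := by
  have := hord hK hi x
  rwa [nn_two, pow_two] at this

theorem card_E : Nat.card (EE pp (g hK hi) SA) ≤ 9 * Nat.card (PSU 4 K 3) := by
  rw [H86.U43SevenC.card_PSU4 hK]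
  have hr := List.all_eq_true.1 chkP
  have hz : ∀ z, CC.cen z = true → ev (pr pp (g hK hi)) (CC.wd z) = 1 := fun z hz => pt2 hK hi (chkZ z hz)
  refine total (f := pr pp (g hK hi)) ?_ ?_ ?_ ?_ ?_ ?_ ?_
  · intro x
    apply Prod.ext
    · exact psq x
    · exact g_sq hK hi x
  · exact fun r h => pt2 hK hi (hr r (List.mem_append_left _ (List.mem_append_left _ (List.mem_append_left _ h))))
  · exact fun r h => pt2 hK hi (hr r (List.mem_append_left _ (List.mem_append_left _ (List.mem_append_right _ h))))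
  · exact fun r h => pt2 hK hi (hr r (List.mem_append_left _ (List.mem_append_right _ h)))
  · exact fun r h => pt2 hK hi (hr r (List.mem_append_right _ h))
  · intro z h y
    rw [hz z h, one_mul, mul_one]
  · intro z h
    rw [hz z h, one_pow]

end field2

theorem z1_pow : ev pp z1 ^ 3 = 1 := by rw [← ev_rep]; exact ptr (by decide +kernel)
theorem z2_pow : ev pp z2 ^ 3 = 1 := by rw [← ev_rep]; exact ptr (by decide +kernel)

theorem comm_of {u v : W X} (h : isOne 11 1134 (evc 11 1134 pcode pcode (u ++ (v ++ (winv u ++ winv v)))) = true) :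
    Commute (ev pp u) (ev pp v) := by
  have h1 := ptr h
  rw [ev_append, ev_append, ev_append, ev_winv, ev_winv, ← mul_assoc, ← mul_assoc, mul_inv_eq_one, mul_inv_eq_iff_eq_mul] at h1
  exact h1

theorem c12 : Commute (ev pp z1) (ev pp z2) := comm_of (by decide +kernel)

theorem cx (z : W X) (h : ∀ x, isOne 11 1134 (evc 11 1134 pcode pcode ([(x, true)] ++ (z ++ (winv [(x, true)] ++ winv z)))) = true) (x : X) :
    Commute (pp x) (ev pp z) := by
  have h1 := comm_of (h x)
  change Commute (pp x * 1) (ev pp z) at h1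
  rwa [mul_one] at h1

theorem cx1 (x : X) : Commute (pp x) (ev pp z1) := cx z1 (by intro x; fin_cases x <;> decide +kernel) x
theorem cx2 (x : X) : Commute (pp x) (ev pp z2) := cx z2 (by intro x; fin_cases x <;> decide +kernel) x

/-- the kernel -/
abbrev A : Type := Multiplicative (ZMod 3) × Multiplicative (ZMod 3)

noncomputable def psi : A →* Equiv.Perm (Fin 1134) :=
  (H91.Mul.zh 3 (ev pp z1) z1_pow).noncommCoprod (H91.Mul.zh 3 (ev pp z2) z2_pow) (by
    intro i j
    have hi : i = Multiplicative.ofAdd i.toAdd := rfl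
    have hj : j = Multiplicative.ofAdd j.toAdd := rfl
    rw [hi, hj, H91.Mul.zh_apply, H91.Mul.zh_apply]
    exact c12.pow_pow _ _)

theorem psi_apply (a : A) : psi a = ev pp z1 ^ a.1.toAdd.val * ev pp z2 ^ a.2.toAdd.val := by
  obtain ⟨i, j⟩ := a
  unfold psi
  change (H91.Mul.zh 3 (ev pp z1) z1_pow).noncommCoprod _ _ (Multiplicative.ofAdd i.toAdd, Multiplicative.ofAdd j.toAdd) = _
  rw [MonoidHom.noncommCoprod_apply, H91.Mul.zh_apply, H91.Mul.zh_apply]

theorem psi_eq (a : A) : psi a = ev pp (rep z1 a.1.toAdd.val ++ rep z2 a.2.toAdd.val) := by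
  rw [psi_apply, ev_append, ev_rep, ev_rep]

theorem psi_inj : Function.Injective psi := by
  rw [injective_iff_map_eq_one]
  rintro ⟨i, j⟩ h
  rw [psi_eq] at h
  have h1 := ptr' h
  have key : ∀ i : Fin 3, ∀ j : Fin 3,
      isOne 11 1134 (evc 11 1134 pcode pcode (rep z1 i.val ++ rep z2 j.val)) = true → i = 0 ∧ j = 0 := by
    decide +kernel
  obtain ⟨h2, h3⟩ := key i j h1
  have e1 : i = 1 := h2
  have e2 : j = 1 := h3
  rw [e1, e2]
  rfl

theorem psi_comm (a : A) (x : X) : pp x * psi a = psi a * pp x := by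
  rw [psi_apply]
  exact ((cx1 x).pow_right _).mul_right ((cx2 x).pow_right _)

theorem card_A : Nat.card A = 9 := by
  rw [Nat.card_prod]
  simp [Nat.card_eq_fintype_card, ZMod.card]

section field3

variable {K : Type} [Field K] [Fintype K] [CharP K 3] (hK : Fintype.card K = 9) {i : K} (hi : i * i = -1)

theorem z_G (z : W X) (h : isSc (evm cL z) = true) (n : ℕ) : ev (g hK hi) (rep z n) = 1 := by
  rw [ev_rep, tr hK hi h, one_pow]

theorem psi_mem (a : A) : ((psi a, 1) : Equiv.Perm (Fin 1134) × PSU 4 K 3) ∈ EE pp (g hK hi) SA := by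
  have h1 : ev (pr pp (g hK hi)) (rep z1 a.1.toAdd.val ++ rep z2 a.2.toAdd.val) ∈ EE pp (g hK hi) SA := by
    refine ev_mem_Kl ?_
    rw [List.all_append, Bool.and_eq_true]
    constructor
    · exact rep_all (p := fun a => SA a.1) (by decide) _
    · exact rep_all (p := fun a => SA a.1) (by decide) _
  rw [ev_pr, ev_append (g hK hi), z_G hK hi z1 (by decide +kernel), z_G hK hi z2 (by decide +kernel), one_mul] at h1
  rw [psi_eq]
  exact h1

include hK hi in
theorem ex9 : ∃ (Γ : Type) (_ : Group Γ) (_ : Finite Γ) (σ : Γ →* PSU 4 K 3), Cfsg.IsStemExtension σ ∧ Nonempty (σ.ker ≃* A) :=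
  H91.Mul.exists_cover_gen (p := pp) (g := g hK hi) (S := SA) (n := nn) (gen hK hi) (perf hK) (by rw [card_A]; exact card_E hK hi)
    psi psi_inj (psi_mem hK hi)
    (fun a x _ => psi_comm a x) (fun x _ => by rw [nn_two, pow_two]; exact psq x) (fun x _ => hord hK hi x)
    (fun x _ => by rw [card_A, nn_two]; decide)

end field3


end H91.MulU43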