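import Cfsg.Agent.Lib.H91.LargeAbs
import Cfsg.Agent.Lib.H50.Tv
import Cfsg.Agent.Lib.H91.LargeExtra

/-!
The centralizer of a transvection in `SL_{n+2}(2)`.
-/

set_option autoImplicit false

namespace H91.TransvCent

open Cfsg Matrix H91.MonsterForm H91.ExtModel

abbrev Mt (n : ℕ) := Matrix (Fin n) (Fin n) (ZMod 2)
abbrev SL (n : ℕ) := Matrix.SpecialLinearGroup (Fin n) (ZMod 2)

variable {n : ℕ}

/-- block matrices -/
def blk (b : ZMod 2) (a c : Fin n → ZMod 2) (A : Mt n) : Mt (n + 2) :=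
  fun i j => Fin.cases (Fin.cases 1 (fun j => Fin.cases b a j) j)
    (fun i => Fin.cases (Fin.cases 0 (fun j => Fin.cases 1 (fun _ => 0) j) j)
      (fun i => Fin.cases 0 (fun j => Fin.cases (c i) (A i) j) j) i) i

section entries
variable (b : ZMod 2) (a c : Fin n → ZMod 2) (A : Mt n) (i j : Fin n)
@[simp] theorem blk_00 : blk b a c A 0 0 = 1 := rfl
@[simp] theorem blk_01 : blk b a c A 0 1 = b := rfl
@[simp] theorem blk_0s : blk b a c A 0 j.succ.succ = a j := rfl
@[simp] theorem blk_10 : blk b a c A 1 0 = 0 := rfl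
@[simp] theorem blk_11 : blk b a c A 1 1 = 1 := rfl
@[simp] theorem blk_1s : blk b a c A 1 j.succ.succ = 0 := rfl
@[simp] theorem blk_s0 : blk b a c A i.succ.succ 0 = 0 := rfl
@[simp] theorem blk_s1 : blk b a c A i.succ.succ 1 = c i := rfl
@[simp] theorem blk_ss : blk b a c A i.succ.succ j.succ.succ = A i j := rfl
end entries

/-- matrices agree when the nine blocks do -/
theorem ext_blk {g h : Mt (n + 2)} (h00 : g 0 0 = h 0 0) (h01 : g 0 1 = h 0 1)
    (h0 : ∀ j : Fin n, g 0 j.succ.succ = h 0 j.succ.succ) (h10 : g 1 0 = h 1 0) (h11 : g 1 1 = h 1 1)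
    (h1 : ∀ j : Fin n, g 1 j.succ.succ = h 1 j.succ.succ) (hs0 : ∀ i : Fin n, g i.succ.succ 0 = h i.succ.succ 0)
    (hs1 : ∀ i : Fin n, g i.succ.succ 1 = h i.succ.succ 1)
    (hs : ∀ i j : Fin n, g i.succ.succ j.succ.succ = h i.succ.succ j.succ.succ) : g = h := by
  ext i j
  refine Fin.cases ?_ (fun i => Fin.cases ?_ (fun i => ?_) i) i
  · refine Fin.cases ?_ (fun j => Fin.cases ?_ (fun j => ?_) j) j
    · exact h00
    · exact h01
    · exact h0 j
  · refine Fin.cases ?_ (fun j => Fin.cases ?_ (fun j => ?_) j) j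
    · exact h10
    · exact h11
    · exact h1 j
  · refine Fin.cases ?_ (fun j => Fin.cases ?_ (fun j => ?_) j) j
    · exact hs0 i
    · exact hs1 i
    · exact hs i j

theorem mul_entry (g h : Mt (n + 2)) (i j : Fin (n + 2)) :
    (g * h) i j = g i 0 * h 0 j + g i 1 * h 1 j + ∑ k : Fin n, g i k.succ.succ * h k.succ.succ j := by
  rw [Matrix.mul_apply, Fin.sum_univ_succ, Fin.sum_univ_succ]
  rw [← add_assoc]; rfl

theorem blk_mul (b b' : ZMod 2) (a c a' c' : Fin n → ZMod 2) (A A' : Mt n) :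
    blk b a c A * blk b' a' c' A' =
      blk (b + b' + a ⬝ᵥ c') (a' + a ᵥ* A') (c + A *ᵥ c') (A * A') := by
  apply ext_blk
  · simp [mul_entry]
  · simp only [mul_entry, blk_00, blk_01, blk_11, blk_0s, blk_s1, dotProduct]; ring
  · intro j
    simp only [mul_entry, blk_00, blk_0s, blk_01, blk_1s, blk_ss, Pi.add_apply, vecMul, dotProduct]; ring
  · simp [mul_entry]
  · simp [mul_entry]
  · intro j; simp [mul_entry]
  · intro i; simp [mul_entry]
  · intro i
    simp only [mul_entry, blk_s0, blk_s1, blk_11, blk_ss, Pi.add_apply, mulVec, dotProduct]; ring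
  · intro i j
    rw [mul_entry]
    simp only [blk_s0, blk_s1, blk_1s, blk_ss, Matrix.mul_apply]; ring

theorem blk_one : (blk 0 0 0 1 : Mt (n + 2)) = 1 := by
  apply ext_blk
  · simp
  · simp
  · intro j; rw [blk_0s, Matrix.one_apply_ne (Fin.succ_ne_zero _).symm]; rfl
  · simp
  · simp
  · intro j; rw [blk_1s, Matrix.one_apply_ne]; intro h; exact absurd (congrArg Fin.val h) (by simp)
  · intro j; rw [blk_s0, Matrix.one_apply_ne (by simp)]
  · intro j; rw [blk_s1, Matrix.one_apply_ne]; rfl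
    intro h; exact absurd (congrArg Fin.val h) (by simp)
  · intro i j
    rw [blk_ss, Matrix.one_apply, Matrix.one_apply]
    simp

theorem det_eq_one_of_mul {k : ℕ} {A B : Mt k} (h : A * B = 1) : A.det = 1 := by
  have h1 : A.det * B.det = 1 := by rw [← Matrix.det_mul, h, Matrix.det_one]
  have key : ∀ a b : ZMod 2, a * b = 1 → a = 1 := by decide
  exact key _ _ h1

theorem transv_eq : (Matrix.transvection 0 1 1 : Mt (n + 2)) = blk 1 0 0 1 := by
  rw [Matrix.transvection]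
  apply ext_blk
  · simp [Matrix.add_apply, Matrix.single]
  · simp [Matrix.add_apply, Matrix.single]
  · intro j
    rw [blk_0s, Matrix.add_apply, Matrix.one_apply_ne (Fin.succ_ne_zero _).symm, Matrix.single_apply_of_ne]
    · simp
    · rintro ⟨-, h⟩; exact absurd (congrArg Fin.val h) (by simp)
  · simp [Matrix.add_apply, Matrix.single]
  · simp [Matrix.add_apply, Matrix.single]
  · intro j
    rw [blk_1s, Matrix.add_apply, Matrix.one_apply_ne, Matrix.single_apply_of_ne]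
    · simp
    · rintro ⟨h, -⟩; exact absurd (congrArg Fin.val h) (by simp)
    · intro h; exact absurd (congrArg Fin.val h) (by simp)
  · intro i
    rw [blk_s0, Matrix.add_apply, Matrix.one_apply_ne (by simp), Matrix.single_apply_of_ne]
    · simp
    · rintro ⟨h, -⟩; exact absurd (congrArg Fin.val h) (by simp)
  · intro i
    rw [blk_s1, Matrix.add_apply, Matrix.one_apply_ne, Matrix.single_apply_of_ne]
    · simp
    · rintro ⟨h, -⟩; exact absurd (congrArg Fin.val h) (by simp)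
    · intro h; exact absurd (congrArg Fin.val h) (by simp)
  · intro i j
    rw [blk_ss, Matrix.add_apply, Matrix.single_apply_of_ne]
    · rw [Matrix.one_apply, Matrix.one_apply]; simp
    · rintro ⟨h, -⟩; exact absurd (congrArg Fin.val h) (by simp)

/-- lower right block -/
def lr (g : Mt (n + 2)) : Mt n := fun i j => g i.succ.succ j.succ.succ

/-- being of block form -/
def IsB (g : Mt (n + 2)) : Prop :=
  g = blk (g 0 1) (fun j => g 0 j.succ.succ) (fun i => g i.succ.succ 1) (lr g)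

theorem isB_blk (b : ZMod 2) (a c : Fin n → ZMod 2) (A : Mt n) : IsB (blk b a c A) := rfl

theorem isB_iff (g : Mt (n + 2)) : IsB g ↔ ∃ b a c A, g = blk b a c A :=
  ⟨fun h => ⟨_, _, _, _, h⟩, by rintro ⟨b, a, c, A, rfl⟩; exact isB_blk b a c A⟩

theorem blk_inj {b b' : ZMod 2} {a c a' c' : Fin n → ZMod 2} {A A' : Mt n} (h : blk b a c A = blk b' a' c' A') :
    b = b' ∧ a = a' ∧ c = c' ∧ A = A' := by
  refine ⟨congrFun (congrFun h 0) 1, ?_, ?_, ?_⟩
  · funext j; exact congrFun (congrFun h 0) j.succ.succ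
  · funext i; exact congrFun (congrFun h i.succ.succ) 1
  · funext i j; exact congrFun (congrFun h i.succ.succ) j.succ.succ

/-- commuting with the transvection -/
theorem comm_iff (g : Mt (n + 2)) (hg : g.det ≠ 0) : g * blk 1 0 0 1 = blk 1 0 0 1 * g ↔ IsB g := by
  constructor
  · intro h
    have e : ∀ i j : Fin (n + 2), (g * blk 1 0 0 1 : Mt (n + 2)) i j = (blk 1 0 0 1 * g : Mt (n + 2)) i j :=
      fun i j => by rw [h]
    have h10 : g 1 0 = 0 := by
      have := e 1 1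
      simp [mul_entry] at this
      exact this
    have h01 : g 0 0 = g 1 1 := by
      have := e 0 1
      simp [mul_entry, Matrix.one_apply] at this
      rw [add_comm] at this
      exact add_left_cancel this
    have h1s : ∀ j : Fin n, g 1 j.succ.succ = 0 := by
      intro j
      have := e 0 j.succ.succ
      simp [mul_entry, Matrix.one_apply] at this
      exact this
    have hs0 : ∀ i : Fin n, g i.succ.succ 0 = 0 := by
      intro i
      have := e i.succ.succ 1
      simp [mul_entry, Matrix.one_apply] at this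
      exact this
    have h11 : g 1 1 = 1 := by
      have key : ∀ a : ZMod 2, a ≠ 0 → a = 1 := by decide
      apply key
      intro h0
      apply hg
      apply Matrix.det_eq_zero_of_row_eq_zero 1
      intro j
      refine Fin.cases h10 (fun j => Fin.cases h0 (fun j => h1s j) j) j
    apply ext_blk
    · rw [h01, h11]; rfl
    · rfl
    · intro j; rfl
    · exact h10
    · exact h11
    · exact h1s
    · exact hs0
    · intro i; rfl
    · intro i j; rfl
  · intro h
    rw [h, blk_mul, blk_mul]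
    simp [add_comm]

theorem mem_C_iff {z : SL (n + 2)} (hz : (z : Mt (n + 2)) = Matrix.transvection 0 1 1) (g : SL (n + 2)) :
    g * z = z * g ↔ IsB (g : Mt (n + 2)) := by
  rw [← comm_iff (g : Mt (n + 2)) (by rw [g.2]; exact one_ne_zero), ← transv_eq, ← hz]
  constructor
  · intro h; exact congrArg Subtype.val h
  · intro h; exact Subtype.ext h

section maps

variable {z : SL (n + 2)} (hz : (z : Mt (n + 2)) = Matrix.transvection 0 1 1) {C : Subgroup (SL (n + 2))}
  (hC : ∀ g, g ∈ C ↔ g * z = z * g)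

include hz hC in
theorem isB_of_mem (g : C) : IsB ((g : SL (n + 2)) : Mt (n + 2)) := (mem_C_iff hz g).1 ((hC g).1 g.2)

theorem lr_mul {g h : Mt (n + 2)} (hg : IsB g) (hh : IsB h) : lr (g * h) = lr g * lr h := by
  rw [hg, hh, blk_mul]; rfl

theorem lr_one : lr (1 : Mt (n + 2)) = 1 := by
  rw [← blk_one]; rfl

/-- the projection -/
def piC : C →* SL n where
  toFun g := ⟨lr ((g : SL (n + 2)) : Mt (n + 2)), by
    apply det_eq_one_of_mul (B := lr (((g⁻¹ : C) : SL (n + 2)) : Mt (n + 2)))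
    rw [← lr_mul (isB_of_mem hz hC g) (isB_of_mem hz hC g⁻¹)]
    have : ((g : SL (n + 2)) : Mt (n + 2)) * (((g⁻¹ : C) : SL (n + 2)) : Mt (n + 2)) = 1 := by
      have h := congrArg (fun x : C => ((x : SL (n + 2)) : Mt (n + 2))) (mul_inv_cancel g)
      exact h
    rw [this, lr_one]⟩
  map_one' := Subtype.ext lr_one
  map_mul' g h := Subtype.ext (lr_mul (isB_of_mem hz hC g) (isB_of_mem hz hC h))

theorem piC_coe (g : C) : ((piC hz hC g : SL n) : Mt n) = lr ((g : SL (n + 2)) : Mt (n + 2)) := rfl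

theorem det_blk (b : ZMod 2) (a c : Fin n → ZMod 2) (A : SL n) : (blk b a c (A : Mt n)).det = 1 := by
  have h1 : (A : Mt n) * ((A⁻¹ : SL n) : Mt n) = 1 := by
    have h := congrArg (fun x : SL n => (x : Mt n)) (mul_inv_cancel A)
    exact h
  apply det_eq_one_of_mul (B := blk (b + (a ⬝ᵥ (((A⁻¹ : SL n) : Mt n) *ᵥ c))) (-(a ᵥ* ((A⁻¹ : SL n) : Mt n)))
    (-(((A⁻¹ : SL n) : Mt n) *ᵥ c)) ((A⁻¹ : SL n) : Mt n))
  rw [blk_mul, ← blk_one, h1]
  congr 1
  · rw [dotProduct_neg]
    have : ∀ x y : ZMod 2, x + (x + y) + -y = 0 := by decide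
    exact this _ _
  · rw [neg_add_cancel]
  · rw [Matrix.mulVec_neg, Matrix.mulVec_mulVec, h1, Matrix.one_mulVec, add_neg_cancel]

/-- block elements -/
def el (b : ZMod 2) (a c : Fin n → ZMod 2) (A : SL n) : SL (n + 2) := ⟨blk b a c (A : Mt n), det_blk b a c A⟩

include hz hC in
theorem el_mem (b : ZMod 2) (a c : Fin n → ZMod 2) (A : SL n) : el b a c A ∈ C := by
  rw [hC, mem_C_iff hz]; exact isB_blk _ _ _ _

theorem el_mul (b b' : ZMod 2) (a c a' c' : Fin n → ZMod 2) (A A' : SL n) :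
    el b a c A * el b' a' c' A' = el (b + b' + a ⬝ᵥ c') (a' + a ᵥ* (A' : Mt n)) (c + (A : Mt n) *ᵥ c') (A * A') := by
  apply Subtype.ext
  show blk b a c (A : Mt n) * blk b' a' c' (A' : Mt n) = _
  rw [blk_mul]; rfl

/-- the section -/
def sigC : SL n →* C where
  toFun A := ⟨el 0 0 0 A, el_mem hz hC _ _ _ _⟩
  map_one' := Subtype.ext (Subtype.ext blk_one)
  map_mul' A B := by
    apply Subtype.ext
    show el 0 0 0 (A * B) = el 0 0 0 A * el 0 0 0 B
    rw [el_mul]; simp

theorem pi_sig (A : SL n) : piC hz hC (sigC hz hC A) = A := Subtype.ext rfl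

theorem eq_el_of_pi {g : C} (h : piC hz hC g = 1) :
    (g : SL (n + 2)) = el (((g : SL (n + 2)) : Mt (n + 2)) 0 1) (fun j => ((g : SL (n + 2)) : Mt (n + 2)) 0 j.succ.succ)
      (fun i => ((g : SL (n + 2)) : Mt (n + 2)) i.succ.succ 1) 1 := by
  apply Subtype.ext
  have h1 := isB_of_mem hz hC g
  have h2 : lr ((g : SL (n + 2)) : Mt (n + 2)) = 1 := congrArg (fun x : SL n => (x : Mt n)) h
  rw [IsB, h2] at h1
  exact h1

end maps

section kap

variable {m : ℕ} {z : SL (m + 1 + 2)} (hz : (z : Mt (m + 1 + 2)) = Matrix.transvection 0 1 1)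
  {C : Subgroup (SL (m + 1 + 2))} (hC : ∀ g, g ∈ C ↔ g * z = z * g)

/-- the kernel parametrised -/
def kap : EM m 0 →* C where
  toFun p := ⟨el p.a p.x p.y 1, el_mem hz hC _ _ _ _⟩
  map_one' := Subtype.ext (Subtype.ext blk_one)
  map_mul' p r := by
    apply Subtype.ext
    show el (p * r).a (p * r).x (p * r).y 1 = el p.a p.x p.y 1 * el r.a r.x r.y 1
    rw [el_mul]
    have e1 : ((1 : SL (m + 1)) : Mt (m + 1)) = 1 := rfl
    simp only [mul_a, mul_x, mul_y, be, zero_mul, add_zero, mul_one, e1, Matrix.vecMul_one,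
      Matrix.one_mulVec, dotProduct]
    rw [add_comm p.x r.x]

theorem kap_inj : Function.Injective (kap hz hC) := by
  intro p r h
  have h1 : blk p.a p.x p.y ((1 : SL (m + 1)) : Mt (m + 1)) = blk r.a r.x r.y ((1 : SL (m + 1)) : Mt (m + 1)) :=
    congrArg (fun x : C => ((x : SL (m + 1 + 2)) : Mt (m + 1 + 2))) h
  obtain ⟨h2, h3, h4, -⟩ := blk_inj h1
  exact EM.ext h3 h4 h2

theorem kap_range (c : C) : piC hz hC c = 1 ↔ ∃ p, kap hz hC p = c := by
  constructor
  · intro h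
    exact ⟨⟨_, _, _⟩, Subtype.ext (eq_el_of_pi hz hC h).symm⟩
  · rintro ⟨p, rfl⟩
    exact Subtype.ext rfl

theorem kap_zet : (kap hz hC zet : SL (m + 1 + 2)) = z := by
  apply Subtype.ext
  rw [hz, transv_eq]; rfl

theorem faithful (c : C) (h : ∀ p, c * kap hz hC p = kap hz hC p * c) : piC hz hC c = 1 := by
  apply Subtype.ext
  rw [piC_coe]
  have h1 := isB_of_mem hz hC c
  set g := ((c : SL (m + 1 + 2)) : Mt (m + 1 + 2)) with hg
  have h2 : ∀ y : Fin (m + 1) → ZMod 2, lr g *ᵥ y = y := by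
    intro y
    have h3 := congrArg (fun x : C => ((x : SL (m + 1 + 2)) : Mt (m + 1 + 2))) (h ⟨0, y, 0⟩)
    have h4 : g * blk 0 0 y 1 = blk 0 0 y 1 * g := h3
    rw [h1, blk_mul, blk_mul] at h4
    obtain ⟨-, -, h5, -⟩ := blk_inj h4
    rw [Matrix.one_mulVec] at h5
    have h6 := (add_comm _ _).trans h5
    exact add_right_cancel h6
  ext i j
  have h3 := congrFun (h2 (Pi.single j 1)) i
  rw [Matrix.mulVec_single_one] at h3
  rw [show (lr g) i j = (lr g).col j i from rfl, h3]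
  simp [Pi.single_apply, Matrix.one_apply]

end kap

/-- `O_2(SL_n(2)) = 1` -/
theorem pCore_SL (n : ℕ) : pCore 2 (SL n) = ⊥ := by
  have hfact : Fact (Nat.Prime 2) := ⟨Nat.prime_two⟩
  rw [eq_bot_iff]
  have h1 : IsPGroup 2 (pCore 2 (SL n)) := H91.LargeExtra.isPGroup_pCore
  have hN : (pCore 2 (SL n)).Normal := by
    unfold pCore
    exact Subgroup.sSup_normal _ (fun N hN => hN.1)
  set N := pCore 2 (SL n)
  letI : MulAction N (Fin n → ZMod 2) :=
    { smul := fun g v => ((g : SL n) : Mt n) *ᵥ v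
      one_smul := fun v => Matrix.one_mulVec v
      mul_smul := fun g h v => by
        show (((g * h : N) : SL n) : Mt n) *ᵥ v = ((g : SL n) : Mt n) *ᵥ (((h : SL n) : Mt n) *ᵥ v)
        rw [Matrix.mulVec_mulVec]; rfl }
  rcases Nat.eq_zero_or_pos n with h0 | hpos
  · subst h0
    intro g _
    rw [Subgroup.mem_bot]
    exact Subtype.ext (Subsingleton.elim _ _)
  have hc : 2 ∣ Nat.card (Fin n → ZMod 2) := by
    simp only [Nat.card_eq_fintype_card, Fintype.card_fun, ZMod.card, Fintype.card_fin]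
    exact dvd_pow_self 2 hpos.ne'
  have hfix : (0 : Fin n → ZMod 2) ∈ MulAction.fixedPoints N (Fin n → ZMod 2) := by
    intro g
    exact Matrix.mulVec_zero _
  obtain ⟨w, hw, hw0⟩ := h1.exists_fixed_point_of_prime_dvd_card_of_fixed_point (Fin n → ZMod 2) hc hfix
  intro g hg
  rw [Subgroup.mem_bot]
  have key : ∀ v : Fin n → ZMod 2, ((g : SL n) : Mt n) *ᵥ v = v := by
    intro v
    by_cases hv : v = 0
    · rw [hv, Matrix.mulVec_zero]
    obtain ⟨k, hk⟩ := H50.Tv.exists_GL_mulVec_eq (F := ZMod 2) hw0.symm hv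
    have hkdet : (k : Mt n).det = 1 := by
      apply det_eq_one_of_mul (B := ((k⁻¹ : GL (Fin n) (ZMod 2)) : Mt n))
      rw [← Units.val_mul, mul_inv_cancel]; rfl
    let k' : SL n := ⟨(k : Mt n), hkdet⟩
    have h2 : k'⁻¹ * g * k' ∈ N := by
      have := hN.conj_mem g hg k'⁻¹
      rwa [inv_inv] at this
    have h3 : ((k'⁻¹ * g * k' : SL n) : Mt n) *ᵥ w = w := hw ⟨_, h2⟩
    have h4 : (k' : Mt n) *ᵥ (((k'⁻¹ * g * k' : SL n) : Mt n) *ᵥ w) = (k' : Mt n) *ᵥ w := by rw [h3]
    rw [Matrix.mulVec_mulVec] at h4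
    have h5 : k' * (k'⁻¹ * g * k') = g * k' := by group
    have h5' : (k' : Mt n) * ((k'⁻¹ * g * k' : SL n) : Mt n) = (g : Mt n) * (k' : Mt n) := congrArg Subtype.val h5
    rw [h5', ← Matrix.mulVec_mulVec] at h4
    have h6 : (k' : Mt n) *ᵥ w = v := hk
    rw [h6] at h4
    exact h4
  apply Subtype.ext
  ext i j
  have h3 := congrFun (key (Pi.single j 1)) i
  rw [Matrix.mulVec_single_one] at h3
  rw [show ((g : SL n) : Mt n) i j = ((g : SL n) : Mt n).col j i from rfl, h3]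
  simp [Pi.single_apply, Matrix.one_apply]

section odd

variable {N : ℕ} [NeZero N]

theorem sq_T (f : Fin N → ZMod 2) (e : Fin N → ZMod 2) (h : f ⬝ᵥ e = 0) : H50.Tv.T e f h * H50.Tv.T e f h = 1 := by
  apply Subtype.ext
  show H50.Tv.tv e f * H50.Tv.tv e f = 1
  rw [H50.Tv.tv_mul_tv_left e f f h]
  have : f + f = 0 := by funext i; exact two2 _
  rw [this, H50.Tv.tv_zero_right]

/-- an odd order subgroup normalised by all transvections with centre `e` has no element commuting with one of them -/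
theorem odd_fixed (K : Subgroup (SL N)) (hK : Odd (Nat.card K)) (e : Fin N → ZMod 2) (he : e ≠ 0)
    (hn : ∀ f (h : f ⬝ᵥ e = 0), ∀ k ∈ K, H50.Tv.T e f h * k * (H50.Tv.T e f h)⁻¹ ∈ K)
    (f : Fin N → ZMod 2) (h : f ⬝ᵥ e = 0) (hf : f ≠ 0) (k : SL N) (hk : k ∈ K)
    (hkf : H50.Tv.T e f h * k = k * H50.Tv.T e f h) : k = 1 := by
  have hodd : ∀ x ∈ K, x * x = 1 → x = 1 := by
    intro x hx hxx
    have h1 : orderOf x ∣ 2 := orderOf_dvd_of_pow_eq_one (by rw [pow_two, hxx])
    have h2 : orderOf x ∣ Nat.card K := Subgroup.orderOf_dvd_natCard K hx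
    have h3 : Odd (orderOf x) := hK.of_dvd_nat h2
    rcases (Nat.dvd_prime Nat.prime_two).1 h1 with h4 | h4
    · exact orderOf_eq_one_iff.1 h4
    · rw [h4] at h3; exact absurd h3 (by decide)
  have hkk : (k : Mt N) * ((k⁻¹ : SL N) : Mt N) = 1 := congrArg (fun x : SL N => (x : Mt N)) (mul_inv_cancel k)
  have hkk' : ((k⁻¹ : SL N) : Mt N) * (k : Mt N) = 1 := congrArg (fun x : SL N => (x : Mt N)) (inv_mul_cancel k)
  have key : ∀ a : ZMod 2, a ≠ 0 → a = 1 := by decide
  -- `k` fixes `e`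
  have h1 : H50.Tv.tv ((k : Mt N) *ᵥ e) (f ᵥ* ((k⁻¹ : SL N) : Mt N)) = H50.Tv.tv e f := by
    rw [← H50.Tv.conj_tv _ _ hkk]
    have h2 : (k : Mt N) * H50.Tv.tv e f = H50.Tv.tv e f * (k : Mt N) := (congrArg Subtype.val hkf).symm
    rw [h2, mul_assoc, hkk, mul_one]
  have hke0 : (k : Mt N) *ᵥ e ≠ 0 := by
    intro h0
    apply he
    have : ((k⁻¹ : SL N) : Mt N) *ᵥ ((k : Mt N) *ᵥ e) = e := by rw [Matrix.mulVec_mulVec, hkk', Matrix.one_mulVec]
    rw [← this, h0, Matrix.mulVec_zero]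
  have hfk0 : f ᵥ* ((k⁻¹ : SL N) : Mt N) ≠ 0 := by
    intro h0
    apply hf
    have : (f ᵥ* ((k⁻¹ : SL N) : Mt N)) ᵥ* (k : Mt N) = f := by rw [Matrix.vecMul_vecMul, hkk', Matrix.vecMul_one]
    rw [← this, h0, Matrix.zero_vecMul]
  have hke : (k : Mt N) *ᵥ e = e := by
    obtain ⟨c, hc, h3, -⟩ := H50.Tv.tv_eq_tv_iff hke0 hfk0 h1
    rw [key c hc, one_smul] at h3
    exact h3.symm
  -- `k` centralises all transvections with centre `e`
  have h4 : ∀ g : Fin N → ZMod 2, g ⬝ᵥ e = 0 → g ᵥ* ((k⁻¹ : SL N) : Mt N) = g := by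
    intro g hg
    set s := H50.Tv.T e g hg with hs
    have hss : s * s = 1 := sq_T g e hg
    have hge : (g ᵥ* ((k⁻¹ : SL N) : Mt N)) ⬝ᵥ e = 0 := by
      rw [← Matrix.dotProduct_mulVec]
      have : ((k⁻¹ : SL N) : Mt N) *ᵥ e = e := by
        nth_rewrite 1 [← hke]
        rw [Matrix.mulVec_mulVec, hkk', Matrix.one_mulVec]
      rw [this, hg]
    -- the commutator
    have h5 : k * s * k⁻¹ = H50.Tv.T e (g ᵥ* ((k⁻¹ : SL N) : Mt N)) hge := by
      apply Subtype.ext
      show (k : Mt N) * H50.Tv.tv e g * ((k⁻¹ : SL N) : Mt N) = H50.Tv.tv e _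
      rw [H50.Tv.conj_tv _ _ hkk, hke]
    have h6 : k * s * k⁻¹ * s⁻¹ ∈ K := by
      have := K.mul_mem hk (hn g hg k⁻¹ (K.inv_mem hk))
      have e2 : k * (H50.Tv.T e g hg * k⁻¹ * (H50.Tv.T e g hg)⁻¹) = k * s * k⁻¹ * s⁻¹ := by rw [hs]; group
      rwa [e2] at this
    have h7 : k * s * k⁻¹ * s⁻¹ = 1 := by
      apply hodd _ h6
      have hsi : s⁻¹ = s := by rw [inv_eq_iff_mul_eq_one]; exact hss
      rw [h5, hsi]
      have hcomm : ∀ a b (ha : a ⬝ᵥ e = 0) (hb : b ⬝ᵥ e = 0), H50.Tv.T e a ha * H50.Tv.T e b hb =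
          H50.Tv.T e (a + b) (by rw [add_dotProduct, ha, hb, add_zero]) := by
        intro a b ha hb
        apply Subtype.ext
        exact H50.Tv.tv_mul_tv_left e a b ha
      rw [hcomm, sq_T]
    have h8 : k * s * k⁻¹ = s := by rw [mul_inv_eq_one] at h7; exact h7
    rw [h5] at h8
    have h9 : H50.Tv.tv e (g ᵥ* ((k⁻¹ : SL N) : Mt N)) = H50.Tv.tv e g := congrArg Subtype.val h8
    exact H50.Tv.tv_inj_left he h9
  -- so `k⁻¹` is itself a transvection with centre `e`
  have h10 : k⁻¹ * k⁻¹ = 1 := by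
    apply Subtype.ext
    show ((k⁻¹ : SL N) : Mt N) * ((k⁻¹ : SL N) : Mt N) = 1
    -- choose `f0` with `f0 ⬝ e = 1`
    obtain ⟨i, hi⟩ : ∃ i, e i ≠ 0 := by
      by_contra hcon
      push Not at hcon
      exact he (funext hcon)
    have hi1 := key _ hi
    have h11 : ∀ g : Fin N → ZMod 2, (g ᵥ* ((k⁻¹ : SL N) : Mt N)) ᵥ* ((k⁻¹ : SL N) : Mt N) = g := by
      intro g
      have hke' : ((k⁻¹ : SL N) : Mt N) *ᵥ e = e := by
        nth_rewrite 1 [← hke]
        rw [Matrix.mulVec_mulVec, hkk', Matrix.one_mulVec]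
      have h12 : (g ᵥ* ((k⁻¹ : SL N) : Mt N) + g) ⬝ᵥ e = 0 := by
        rw [add_dotProduct, ← Matrix.dotProduct_mulVec, hke']
        exact two2 _
      have h13 := h4 _ h12
      rw [Matrix.add_vecMul] at h13
      have h14 : (g ᵥ* ((k⁻¹ : SL N) : Mt N)) ᵥ* ((k⁻¹ : SL N) : Mt N) + g ᵥ* ((k⁻¹ : SL N) : Mt N) =
        g + g ᵥ* ((k⁻¹ : SL N) : Mt N) := by rw [h13, add_comm]
      exact add_right_cancel h14
    ext a b
    have h15 := congrFun (h11 (Pi.single a 1)) b
    rw [Matrix.vecMul_vecMul, Matrix.single_one_vecMul] at h15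
    rw [show (((k⁻¹ : SL N) : Mt N) * ((k⁻¹ : SL N) : Mt N)) a b =
      (((k⁻¹ : SL N) : Mt N) * ((k⁻¹ : SL N) : Mt N)).row a b from rfl, h15]
    simp [Pi.single_apply, Matrix.one_apply, eq_comm]
  have h11 := hodd _ (K.inv_mem hk) h10
  rw [inv_eq_one] at h11; exact h11

end odd

end H91.TransvCent
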