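import Cfsg.Agent.Lib.H91.MonsterForm
import Cfsg.Agent.Lib.H26.GenFitting

/-!
A criterion for extraspecial 2-groups, and for the generalized Fitting subgroup.
-/

set_option autoImplicit false

namespace H91.XSExtra

open Cfsg H91.MonsterForm

/-- commutators are products of squares -/
theorem comm_mem_of_sq {P : Type*} [Group P] {H : Subgroup P} (h : ∀ x : P, x * x ∈ H) (x y : P) :
    x * y * x⁻¹ * y⁻¹ ∈ H := by
  have : x * y * x⁻¹ * y⁻¹ = ((x * y) * (x * y)) * ((y⁻¹ * x⁻¹ * y) * (y⁻¹ * x⁻¹ * y)) * (y⁻¹ * y⁻¹) := by group
  rw [this]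
  exact H.mul_mem (H.mul_mem (h _) (h _)) (h _)

theorem extraspecial_of_XS {P : Type*} [Group P] [Finite P] {ζ : P} (hP : IsPGroup 2 P) (X : XS P ζ)
    (hne : ∃ x y : P, x * y ≠ y * x) : IsExtraspecial 2 P := by
  obtain ⟨x0, y0, h0⟩ := hne
  have hcc : ∀ x y : P, x * y * x⁻¹ * y⁻¹ = 1 ∨ x * y * x⁻¹ * y⁻¹ = ζ := by
    intro x y
    rcases X.cm y x with h | h
    · left; rw [h]; group
    · right; rw [h]; group
  have hζ : x0 * y0 * x0⁻¹ * y0⁻¹ = ζ := by
    rcases hcc x0 y0 with h | h
    · exfalso; apply h0
      rw [mul_inv_eq_one, mul_inv_eq_iff_eq_mul] at h; exact h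
    · exact h
  refine ⟨⟨hP, ?_, ?_⟩, ?_⟩
  · apply le_antisymm
    · intro x hx
      by_contra hxc
      obtain ⟨y, hy⟩ : ∃ y, y * x ≠ x * y := by
        by_contra hcon
        push Not at hcon
        exact hxc (Subgroup.mem_center_iff.2 hcon)
      -- the centralizer of `y` is maximal
      have hmax : IsCoatom (Subgroup.centralizer ({y} : Set P)) := by
        constructor
        · intro h
          apply hy
          have : x ∈ Subgroup.centralizer ({y} : Set P) := by rw [h]; trivial
          exact (Subgroup.mem_centralizer_singleton_iff.1 this).symm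
        · intro B hB
          obtain ⟨m, hm, hmy⟩ := Set.exists_of_ssubset hB
          rw [eq_top_iff]
          intro g _
          have hmy' : m * y ≠ y * m := fun h => hmy (Subgroup.mem_centralizer_singleton_iff.2 h)
          by_cases hg : g * y = y * g
          · exact hB.le (Subgroup.mem_centralizer_singleton_iff.2 hg)
          · have h1 : (m * g) * y = y * (m * g) := by
              rcases X.cm y m with h | h
              · exact absurd h hmy'
              · rcases X.cm y g with h' | h'
                · exact absurd h' hg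
                · calc (m * g) * y = m * (g * y) := by group
                    _ = m * (ζ * (y * g)) := by rw [h']
                    _ = (m * ζ) * (y * g) := by group
                    _ = ζ * (m * y) * g := by rw [X.comm]; group
                    _ = (ζ * ζ) * (y * (m * g)) := by rw [h]; group
                    _ = y * (m * g) := by rw [X.sq_ζ, one_mul]
            have h2 : m * g ∈ B := hB.le (Subgroup.mem_centralizer_singleton_iff.2 h1)
            have h3 : g = m⁻¹ * (m * g) := by group
            rw [h3]; exact B.mul_mem (B.inv_mem hm) h2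
      have h1 : frattini P ≤ Subgroup.centralizer ({y} : Set P) := frattini_le_coatom hmax
      exact hy (Subgroup.mem_centralizer_singleton_iff.1 (h1 hx)).symm
    · intro x hx
      rcases (X.center x).1 hx with rfl | rfl
      · exact Subgroup.one_mem _
      · rw [← hζ]
        exact comm_mem_of_sq (H91.LargeExtra.sq_mem_frattini hP) x0 y0
  · apply le_antisymm
    · rw [commutator_def, Subgroup.commutator_le]
      intro x _ y _
      rw [commutatorElement_def, X.center]
      exact hcc x y
    · intro x hx
      rcases (X.center x).1 hx with rfl | rfl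
      · exact Subgroup.one_mem _
      · rw [← hζ, ← commutatorElement_def]
        exact Subgroup.commutator_mem_commutator (Subgroup.mem_top _) (Subgroup.mem_top _)
  · rw [Nat.card_eq_two_iff' (1 : Subgroup.center P)]
    refine ⟨⟨ζ, (X.center ζ).2 (Or.inr rfl)⟩, fun h => X.ne (congrArg Subtype.val h), ?_⟩
    rintro ⟨y, hy⟩ hy1
    rcases (X.center y).1 hy with rfl | rfl
    · exact absurd rfl hy1
    · rfl

/-- The generalized Fitting subgroup from a normal self-centralizing 2-subgroup equal to the 2-core. -/
theorem gFitting_eq_of {K : Type*} [Group K] [Finite K] {Q : Subgroup K} (hQ : Q.Normal) (h2 : IsPGroup 2 Q)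
    (hC : Subgroup.centralizer (Q : Set K) ≤ Q) (hmax : pCore 2 K ≤ Q) : generalizedFittingSubgroup K = Q := by
  have hfact : Fact (Nat.Prime 2) := ⟨Nat.prime_two⟩
  have h1 : Q ≤ pCore 2 K := le_sSup ⟨hQ, h2⟩
  have h3 : pCore 2 K = Q := le_antisymm hmax h1
  rw [← h3]
  rw [H26.GenFitting.gFitting_eq_pCore_iff, h3]
  exact hC

end H91.XSExtra
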